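import Mathlib

/-!
# Norms of automorphisms of abelian groups

Two commuting automorphisms of prime order without fixed points, and a Frobenius pair of automorphisms with
trivial norm, both force the group to be trivial (of exponent `r`).
-/

set_option autoImplicit false
set_option linter.style.haveILetI false

namespace CfsgLib.Frobenius.ThreeSizes

open Subgroup Finset

section End

variable {M : Type*} [CommGroup M]

/-- The norm of an endomorphism of order dividing `r` lands in its fixed points. -/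
theorem fixed_norm (γ : Monoid.End M) {r : ℕ} (hγ : γ ^ r = 1) (m : M) :
    γ (∏ i ∈ range r, (γ ^ i) m) = ∏ i ∈ range r, (γ ^ i) m := by
  rcases r with - | r
  · simp
  · rw [map_prod, prod_range_succ, prod_range_succ']
    have h1 : γ ((γ ^ r) m) = (γ ^ 0) m := by
      rw [pow_zero, ← hγ, pow_succ']; rfl
    rw [h1]
    congr 1
    refine prod_congr rfl fun i _ => ?_
    rw [pow_succ']; rfl

theorem norm_eq_one (γ : Monoid.End M) {r : ℕ} (hγ : γ ^ r = 1) (hf : ∀ m, γ m = m → m = 1) (m : M) :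
    ∏ i ∈ range r, (γ ^ i) m = 1 := hf _ (fixed_norm γ hγ m)

theorem fixed_of_pow (γ : Monoid.End M) {r c : ℕ} (hr : r.Prime) (hγ : γ ^ r = 1) (hc : ¬ r ∣ c)
    (hf : ∀ m, γ m = m → m = 1) (m : M) (hm : (γ ^ c) m = m) : m = 1 := by
  obtain ⟨e, he⟩ := Nat.exists_mul_mod_eq_one_of_coprime ((hr.coprime_iff_not_dvd.2 hc).symm) hr.one_lt
  refine hf m ?_
  have h1 : γ = (γ ^ c) ^ e := by
    rw [← pow_mul, ← Nat.mod_add_div (c * e) r, he.2, pow_add, pow_mul, hγ, one_pow, pow_one, mul_one]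
  have h2 : ∀ n, ((γ ^ c) ^ n) m = m := by
    intro n
    induction n with
    | zero => simp
    | succ n ih => rw [pow_succ]; show ((γ ^ c) ^ n) ((γ ^ c) m) = m; rw [hm, ih]
  rw [h1]; exact h2 e

/-- Two commuting automorphisms of order dividing the prime `r` without fixed points. -/
theorem pow_eq_one_of_two (α β : Monoid.End M) {r : ℕ} (hr : r.Prime) (hc : Commute α β) (ha : α ^ r = 1)
    (hb : β ^ r = 1) (hfb : ∀ m, β m = m → m = 1) (hfab : ∀ (j : ℕ) (m : M), (α * β ^ j) m = m → m = 1)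
    (m : M) : m ^ r = 1 := by
  have h1 : ∏ j ∈ range r, ∏ i ∈ range r, ((α * β ^ j) ^ i) m = 1 :=
    prod_eq_one fun j _ => norm_eq_one _ (by
      rw [(hc.pow_right j).mul_pow, ha, ← pow_mul, mul_comm j, pow_mul, hb, one_pow, mul_one]) (hfab j) m
  rw [prod_comm, ← Finset.mul_prod_erase (range r) _ (mem_range.2 hr.pos)] at h1
  have h2 : ∀ i ∈ (range r).erase 0, ∏ j ∈ range r, ((α * β ^ j) ^ i) m = 1 := by
    intro i hi
    obtain ⟨hi0, hir⟩ := mem_erase.1 hi
    have hri : ¬ r ∣ i := fun h => hi0 (Nat.eq_zero_of_dvd_of_lt h (mem_range.1 hir))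
    have hβi : (β ^ i) ^ r = 1 := by rw [← pow_mul, mul_comm, pow_mul, hb, one_pow]
    calc ∏ j ∈ range r, ((α * β ^ j) ^ i) m = ∏ j ∈ range r, (α ^ i) (((β ^ i) ^ j) m) := by
          refine prod_congr rfl fun j _ => ?_
          rw [(hc.pow_right j).mul_pow, ← pow_mul β j i, mul_comm j i, pow_mul]; rfl
      _ = (α ^ i) (∏ j ∈ range r, ((β ^ i) ^ j) m) := (map_prod _ _ _).symm
      _ = 1 := by rw [norm_eq_one _ hβi (fixed_of_pow β hr hb hri hfb) m, map_one]
  rw [prod_eq_one h2, mul_one] at h1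
  simpa using h1

/-- A Frobenius pair of endomorphisms in which the complement has trivial norm. -/
theorem pow_eq_one_of_frobenius (y h : Monoid.End M) {r t s : ℕ} (hr : r.Prime) (ht : 0 < t)
    (hy : y ^ r = 1) (hyh : h * y = y ^ s * h) (hne : ∀ k, 0 < k → k < t → ¬ r ∣ r - 1 + s ^ k)
    (hf : ∀ m, y m = m → m = 1) (hN : ∀ w, ∏ k ∈ range t, (h ^ k) w = 1) (m : M) : m ^ r = 1 := by
  have hcomm : ∀ k j, h ^ k * y ^ j = y ^ (j * s ^ k) * h ^ k := by
    have h1 : ∀ j, h * y ^ j = y ^ (j * s) * h := by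
      intro j
      induction j with
      | zero => simp
      | succ j ih => rw [pow_succ, ← mul_assoc, ih, mul_assoc, hyh, ← mul_assoc, ← pow_add,
          Nat.succ_mul]
    intro k
    induction k with
    | zero => simp
    | succ k ih =>
      intro j
      rw [pow_succ', mul_assoc, ih, ← mul_assoc, h1, mul_assoc, pow_succ s k, mul_assoc j]
  have h1 : ∏ j ∈ range r, (y ^ ((r - 1) * j)) (∏ k ∈ range t, (h ^ k) ((y ^ j) m)) = 1 :=
    prod_eq_one fun j _ => by rw [hN, map_one]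
  simp_rw [map_prod] at h1
  rw [prod_comm, ← Finset.mul_prod_erase (range t) _ (mem_range.2 ht)] at h1
  have hterm : ∀ j k, (y ^ ((r - 1) * j)) ((h ^ k) ((y ^ j) m)) = ((y ^ (r - 1 + s ^ k)) ^ j) ((h ^ k) m) := by
    intro j k
    show (y ^ ((r - 1) * j) * (h ^ k * y ^ j)) m = ((y ^ (r - 1 + s ^ k)) ^ j * h ^ k) m
    rw [hcomm, ← mul_assoc, ← pow_add, ← pow_mul, add_mul, mul_comm j]
  have h2 : ∀ k ∈ (range t).erase 0, ∏ j ∈ range r, (y ^ ((r - 1) * j)) ((h ^ k) ((y ^ j) m)) = 1 := by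
    intro k hk
    obtain ⟨hk0, hkt⟩ := mem_erase.1 hk
    have hd := hne k (Nat.pos_of_ne_zero hk0) (mem_range.1 hkt)
    simp_rw [hterm _ k]
    exact norm_eq_one _ (by rw [← pow_mul, mul_comm, pow_mul, hy, one_pow])
      (fixed_of_pow y hr hy hd hf) _
  rw [prod_eq_one h2, mul_one] at h1
  have h3 : ∀ j ∈ range r, (y ^ ((r - 1) * j)) ((h ^ 0) ((y ^ j) m)) = m := by
    intro j _
    rw [hterm, pow_zero, pow_zero, Nat.sub_add_cancel hr.one_le, hy, one_pow]; rfl
  rw [prod_congr rfl h3, prod_const, card_range] at h1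
  exact h1

end End

section Group

variable {G : Type*} [Group G]

/-- The image of a subgroup modulo the centre. -/
abbrev modCenter (D : Subgroup G) : Subgroup (G ⧸ center G) := D.map (QuotientGroup.mk' (center G))

theorem isMulCommutative_modCenter {D : Subgroup G} (hD : ∀ a ∈ D, ∀ b ∈ D, Commute a b) :
    IsMulCommutative (modCenter D) := ⟨⟨fun a b => Subtype.ext (by
      obtain ⟨x, hx, hxa⟩ := a.2
      obtain ⟨w, hw, hwb⟩ := b.2
      show (a : G ⧸ center G) * b = b * a
      rw [← hxa, ← hwb, ← map_mul, ← map_mul, (hD x hx w hw).eq])⟩⟩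

/-- Conjugation by an element of the normaliser, on the image modulo the centre. -/
noncomputable def act (D : Subgroup G) : normalizer (D : Set G) →* Monoid.End (modCenter D) where
  toFun n :=
    { toFun := fun x => ⟨(n.1 : G ⧸ center G) * x * (n.1 : G ⧸ center G)⁻¹, by
        obtain ⟨w, hw, hwx⟩ := x.2
        exact ⟨n.1 * w * n.1⁻¹, (mem_normalizer_iff.1 n.2 w).1 hw, by
          rw [← hwx]; rfl⟩⟩
      map_one' := Subtype.ext (by simp)
      map_mul' := fun x y => Subtype.ext (by simp [mul_assoc]) }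
  map_one' := by
    apply MonoidHom.ext; intro x; apply Subtype.ext
    show ((1 : G) : G ⧸ center G) * x * ((1 : G) : G ⧸ center G)⁻¹ = x
    simp
  map_mul' a b := by
    apply MonoidHom.ext; intro x; apply Subtype.ext
    show ((a.1 * b.1 : G) : G ⧸ center G) * x * ((a.1 * b.1 : G) : G ⧸ center G)⁻¹ =
      (a.1 : G ⧸ center G) * ((b.1 : G ⧸ center G) * x * (b.1 : G ⧸ center G)⁻¹) * (a.1 : G ⧸ center G)⁻¹
    simp [mul_assoc]

theorem act_apply_mk (D : Subgroup G) (n : normalizer (D : Set G)) {d : G} (hd : d ∈ D) :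
    ((act D n) ⟨(d : G ⧸ center G), mem_map_of_mem _ hd⟩ : G ⧸ center G) = ((n.1 * d * n.1⁻¹ : G) : G ⧸ center G) :=
  rfl

theorem act_eq_one {D : Subgroup G} (n : normalizer (D : Set G)) (h : n.1 ∈ centralizer (D : Set G)) :
    act D n = 1 := by
  apply MonoidHom.ext
  rintro ⟨_, d, hd, rfl⟩
  apply Subtype.ext
  show ((n.1 * d * n.1⁻¹ : G) : G ⧸ center G) = _
  rw [← mem_centralizer_iff.1 h d hd, mul_inv_cancel_right]
  rfl

theorem fixed_iff {D : Subgroup G} (n : normalizer (D : Set G)) {d : G} (hd : d ∈ D) :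
    (act D n) ⟨(d : G ⧸ center G), mem_map_of_mem _ hd⟩ = ⟨(d : G ⧸ center G), mem_map_of_mem _ hd⟩ ↔
      n.1 * d * n.1⁻¹ * d⁻¹ ∈ center G := by
  rw [Subtype.ext_iff]
  show ((n.1 * d * n.1⁻¹ : G) : G ⧸ center G) = (d : G ⧸ center G) ↔ _
  rw [QuotientGroup.eq_iff_div_mem, div_eq_mul_inv]

theorem fixed_eq_one {D : Subgroup G} (n : normalizer (D : Set G))
    (h : ∀ d ∈ D, n.1 * d * n.1⁻¹ * d⁻¹ ∈ center G → d ∈ center G) (m : modCenter D)
    (hm : act D n m = m) : m = 1 := by
  obtain ⟨_, d, hd, rfl⟩ := m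
  exact Subtype.ext ((QuotientGroup.eq_one_iff d).2 (h d hd ((fixed_iff n hd).1 hm)))

/-- No two independent elements of prime order act without fixed points on a non-trivial abelian group of
order prime to `r`. -/
theorem pow_mem_center_of_two_mod {D : Subgroup G} (hD : IsMulCommutative (modCenter D)) {r : ℕ} (hr : r.Prime)
    {a b : G} (haN : a ∈ normalizer (D : Set G)) (hbN : b ∈ normalizer (D : Set G))
    (hab : a * b * a⁻¹ * b⁻¹ ∈ centralizer (D : Set G)) (har : a ^ r ∈ centralizer (D : Set G))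
    (hbr : b ^ r ∈ centralizer (D : Set G))
    (hfb : ∀ d ∈ D, b * d * b⁻¹ * d⁻¹ ∈ center G → d ∈ center G)
    (hfab : ∀ (j : ℕ), ∀ d ∈ D, (a * b ^ j) * d * (a * b ^ j)⁻¹ * d⁻¹ ∈ center G → d ∈ center G)
    {d : G} (hd : d ∈ D) : d ^ r ∈ center G := by
  haveI := hD
  letI : CommGroup (modCenter D) := { mul_comm := mul_comm' }
  set a' : normalizer (D : Set G) := ⟨a, haN⟩
  set b' : normalizer (D : Set G) := ⟨b, hbN⟩
  have hc : Commute (act D a') (act D b') := by
    have e : a' * b' = (a' * b' * a'⁻¹ * b'⁻¹) * (b' * a') := by group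
    show act D a' * act D b' = act D b' * act D a'
    rw [← map_mul, ← map_mul, e, map_mul, act_eq_one (a' * b' * a'⁻¹ * b'⁻¹) hab, one_mul]
  have hm := pow_eq_one_of_two (act D a') (act D b') hr hc
    (by rw [← map_pow]; exact act_eq_one _ har) (by rw [← map_pow]; exact act_eq_one _ hbr)
    (fixed_eq_one b' hfb) (fun j => by
      rw [← map_pow, ← map_mul]; exact fixed_eq_one (a' * b' ^ j) (hfab j))
    ⟨(d : G ⧸ center G), mem_map_of_mem _ hd⟩
  exact (QuotientGroup.eq_one_iff _).1 (congrArg Subtype.val hm)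

/-- No two independent elements of prime order act without fixed points on a non-trivial abelian group. -/
theorem pow_mem_center_of_two {D : Subgroup G} (hD : ∀ a ∈ D, ∀ b ∈ D, Commute a b) {r : ℕ} (hr : r.Prime)
    {a b : G} (haN : a ∈ normalizer (D : Set G)) (hbN : b ∈ normalizer (D : Set G))
    (hab : a * b * a⁻¹ * b⁻¹ ∈ centralizer (D : Set G)) (har : a ^ r ∈ centralizer (D : Set G))
    (hbr : b ^ r ∈ centralizer (D : Set G))
    (hfb : ∀ d ∈ D, b * d * b⁻¹ * d⁻¹ ∈ center G → d ∈ center G)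
    (hfab : ∀ (j : ℕ), ∀ d ∈ D, (a * b ^ j) * d * (a * b ^ j)⁻¹ * d⁻¹ ∈ center G → d ∈ center G)
    {d : G} (hd : d ∈ D) : d ^ r ∈ center G :=
  pow_mem_center_of_two_mod (isMulCommutative_modCenter hD) hr haN hbN hab har hbr hfb hfab hd

/-- A Frobenius pair acting with trivial norm. -/
theorem pow_mem_center_of_frobenius {D : Subgroup G} (hD : ∀ a ∈ D, ∀ b ∈ D, Commute a b) {r t s : ℕ}
    (hr : r.Prime) (ht : 0 < t)
    {y h : G} (hyN : y ∈ normalizer (D : Set G)) (hhN : h ∈ normalizer (D : Set G))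
    (hyr : y ^ r ∈ centralizer (D : Set G)) (hht : h ^ t ∈ centralizer (D : Set G))
    (hyh : h * y * h⁻¹ * (y ^ s)⁻¹ ∈ centralizer (D : Set G))
    (hne : ∀ k, 0 < k → k < t → ¬ r ∣ r - 1 + s ^ k)
    (hf : ∀ d ∈ D, y * d * y⁻¹ * d⁻¹ ∈ center G → d ∈ center G)
    (hN : ∀ w ∈ D, (h * w) ^ t * (h ^ t)⁻¹ ∈ center G) {d : G} (hd : d ∈ D) : d ^ r ∈ center G := by
  haveI := isMulCommutative_modCenter hD
  letI : CommGroup (modCenter D) := { mul_comm := mul_comm' }
  set y' : normalizer (D : Set G) := ⟨y, hyN⟩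
  set h' : normalizer (D : Set G) := ⟨h, hhN⟩
  have hcomm : act D h' * act D y' = act D y' ^ s * act D h' := by
    have e : h' * y' = (h' * y' * h'⁻¹ * (y' ^ s)⁻¹) * (y' ^ s * h') := by group
    rw [← map_mul, ← map_pow, ← map_mul, e, map_mul, act_eq_one (h' * y' * h'⁻¹ * (y' ^ s)⁻¹) hyh, one_mul]
  have hht' : act D h' ^ t = 1 := by rw [← map_pow]; exact act_eq_one _ hht
  have hnorm : ∀ m : modCenter D, ∏ k ∈ range t, (act D h' ^ k) m = 1 := by
    intro m
    obtain ⟨_, w, hw, rfl⟩ := m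
    set m : modCenter D := ⟨(w : G ⧸ center G), mem_map_of_mem _ hw⟩ with hm
    have key : ∀ n : ℕ, (((h * w : G) : G ⧸ center G)) ^ n =
        ((∏ k ∈ range n, (act D h' ^ (k + 1)) m : modCenter D) : G ⧸ center G) * (h : G ⧸ center G) ^ n := by
      intro n
      induction n with
      | zero => simp
      | succ n ih =>
        rw [prod_range_succ, pow_succ, ih, Subgroup.coe_mul, ← map_pow]
        show _ = _ * ((((h' ^ (n + 1) : normalizer (D : Set G)) : G) : G ⧸ center G) * (w : G ⧸ center G) *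
          (((h' ^ (n + 1) : normalizer (D : Set G)) : G) : G ⧸ center G)⁻¹) * _
        rw [SubmonoidClass.coe_pow, QuotientGroup.mk_pow, QuotientGroup.mk_mul]
        simp [pow_succ, mul_assoc, show (h' : G) = h from rfl]
    have h1 := key t
    rw [← QuotientGroup.mk_pow, ← QuotientGroup.mk_pow,
      ← mul_inv_eq_iff_eq_mul, ← QuotientGroup.mk_inv, ← QuotientGroup.mk_mul,
      (QuotientGroup.eq_one_iff _).2 (hN w hw)] at h1
    have h2 : (∏ k ∈ range t, (act D h' ^ (k + 1)) m) = 1 := Subtype.ext h1.symm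
    have h3 : (∏ k ∈ range t, (act D h' ^ (k + 1)) m) = act D h' (∏ k ∈ range t, (act D h' ^ k) m) := by
      rw [map_prod]
      exact prod_congr rfl fun k _ => by rw [pow_succ']; rfl
    rwa [h3, fixed_norm _ hht'] at h2
  have hm := pow_eq_one_of_frobenius (act D y') (act D h') hr ht
    (by rw [← map_pow]; exact act_eq_one _ hyr) hcomm hne (fixed_eq_one y' hf) hnorm
    ⟨(d : G ⧸ center G), mem_map_of_mem _ hd⟩
  exact (QuotientGroup.eq_one_iff _).1 (congrArg Subtype.val hm)

end Group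

end CfsgLib.Frobenius.ThreeSizes
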