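import Mathlib
import Cfsg.Agent.Lib.PGroup.CountPElements
import Cfsg.Agent.Lib.PGroup.IndexPow
import Cfsg.Agent.Lib.Solvable.FrattiniFitting

/-!
# Groups with three class sizes: elementary lemmas

Primary parts of elements, centralisers of products of coprime elements, and elements acting on an abelian
`p`-subgroup whose order is the full `p`-part of the centralisers of its elements.
-/

set_option autoImplicit false
set_option linter.style.haveILetI false

namespace CfsgLib.Frobenius.ThreeSizes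

open Subgroup CfsgLib.PGroup

variable {G : Type*} [Group G]

/-- The centraliser of an element. -/
abbrev C (x : G) : Subgroup G := centralizer ({x} : Set G)

/-- An element of `p`-power order. -/
def IsPEl (p : ℕ) (x : G) : Prop := ∃ k, orderOf x = p ^ k

theorem mem_C {x y : G} : y ∈ C x ↔ Commute y x := mem_centralizer_singleton_iff

theorem self_mem_C (x : G) : x ∈ C x := mem_C.2 (Commute.refl x)

theorem center_le_C (x : G) : center G ≤ C x := center_le_centralizer _

theorem C_eq_top {x : G} : C x = ⊤ ↔ x ∈ center G :=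
  ⟨fun h => centralizer_eq_top_iff_subset.mp h (Set.mem_singleton x),
    fun h => centralizer_eq_top_iff_subset.mpr (Set.singleton_subset_iff.mpr h)⟩

theorem C_le_pow (x : G) (n : ℕ) : C x ≤ C (x ^ n) := fun _ hy => mem_C.2 ((mem_C.1 hy).pow_right n)

theorem C_le_zpowers {x y : G} (h : y ∈ zpowers x) : C x ≤ C y := by
  obtain ⟨n, rfl⟩ := mem_zpowers_iff.1 h
  exact fun _ hw => mem_C.2 ((mem_C.1 hw).zpow_right n)

theorem C_mul_center {x z : G} (hz : z ∈ center G) : C (x * z) = C x := by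
  ext c
  rw [mem_C, mem_C]
  have hcz : Commute c z := (mem_center_iff.1 hz c)
  exact ⟨fun h => by simpa using h.mul_right hcz.inv_right, fun h => h.mul_right hcz⟩

theorem map_C (g x : G) : (C x).map (MulAut.conj g).toMonoidHom = C (g * x * g⁻¹) := by
  ext y
  rw [mem_map_equiv, mem_C, mem_C, MulAut.conj_symm_apply, Commute, SemiconjBy, Commute, SemiconjBy]
  constructor <;> intro h
  · calc y * (g * x * g⁻¹) = g * ((g⁻¹ * y * g) * x) * g⁻¹ := by group
      _ = g * (x * (g⁻¹ * y * g)) * g⁻¹ := by rw [h]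
      _ = g * x * g⁻¹ * y := by group
  · calc g⁻¹ * y * g * x = g⁻¹ * (y * (g * x * g⁻¹)) * g := by group
      _ = g⁻¹ * (g * x * g⁻¹ * y) * g := by rw [h]
      _ = x * (g⁻¹ * y * g) := by group

theorem IsPEl.conj {p : ℕ} {x : G} (h : IsPEl p x) (g : G) : IsPEl p (g * x * g⁻¹) := by
  obtain ⟨k, hk⟩ := h
  exact ⟨k, ((MulAut.conj g).orderOf_eq x).trans hk⟩

theorem isPEl_of_dvd {p k : ℕ} (hp : p.Prime) {x : G} (h : orderOf x ∣ p ^ k) : IsPEl p x := by
  obtain ⟨j, -, hj⟩ := (Nat.dvd_prime_pow hp).1 h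
  exact ⟨j, hj⟩

theorem isPEl_of_pow {p k : ℕ} (hp : p.Prime) {x : G} (h : x ^ p ^ k = 1) : IsPEl p x :=
  isPEl_of_dvd hp (orderOf_dvd_of_pow_eq_one h)

theorem IsPEl.pow {p : ℕ} (hp : p.Prime) {x : G} (h : IsPEl p x) (n : ℕ) : IsPEl p (x ^ n) := by
  obtain ⟨k, hk⟩ := h
  exact isPEl_of_dvd hp (hk ▸ orderOf_pow_dvd n)

theorem IsPEl.mul {p : ℕ} (hp : p.Prime) {x y : G} (hx : IsPEl p x) (hy : IsPEl p y) (hc : Commute x y) :
    IsPEl p (x * y) := by
  obtain ⟨k, hk⟩ := hx
  obtain ⟨j, hj⟩ := hy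
  exact isPEl_of_dvd hp ((hc.orderOf_mul_dvd_mul_orderOf).trans (dvd_of_eq (by rw [hk, hj, pow_add])))

theorem IsPEl.coprime {p q : ℕ} (hp : p.Prime) (hq : q.Prime) (hne : p ≠ q) {x y : G} (hx : IsPEl p x)
    (hy : IsPEl q y) : (orderOf x).Coprime (orderOf y) := by
  obtain ⟨k, hk⟩ := hx
  obtain ⟨j, hj⟩ := hy
  rw [hk, hj]
  exact Nat.Coprime.pow _ _ ((Nat.coprime_primes hp hq).2 hne)

theorem isPEl_of_mem {p : ℕ} (hp : p.Prime) {P : Subgroup G} (hP : IsPGroup p P) {x : G} (hx : x ∈ P) :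
    IsPEl p x := by
  obtain ⟨k, hk⟩ := hP ⟨x, hx⟩
  exact isPEl_of_pow hp (k := k) (congrArg Subtype.val hk)

theorem isPGroup_zpowers {p : ℕ} {x : G} (hx : IsPEl p x) : IsPGroup p (zpowers x) := by
  obtain ⟨k, hk⟩ := hx
  exact IsPGroup.of_card (n := k) (by rw [Nat.card_zpowers, hk])

theorem C_mul_of_coprime {x y : G} (hc : Commute x y) (h : (orderOf x).Coprime (orderOf y)) :
    C (x * y) = C x ⊓ C y := by
  refine le_antisymm (fun w hw => ?_) (fun w hw => mem_C.2 ((mem_C.1 hw.1).mul_right (mem_C.1 hw.2)))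
  have hx : Commute w x := by
    obtain ⟨m, hm⟩ := exists_pow_eq_self_of_coprime h.symm
    rw [← hm, ← mul_one (x ^ orderOf y), ← pow_orderOf_eq_one y, ← hc.mul_pow]
    exact ((mem_C.1 hw).pow_right _).pow_right _
  refine ⟨mem_C.2 hx, mem_C.2 ?_⟩
  have := hx.inv_right.mul_right (mem_C.1 hw)
  simpa using this

theorem C_mul {p q : ℕ} (hp : p.Prime) (hq : q.Prime) (hne : p ≠ q) {x y : G} (hx : IsPEl p x)
    (hy : IsPEl q y) (hc : Commute x y) : C (x * y) = C x ⊓ C y :=
  C_mul_of_coprime hc (hx.coprime hp hq hne hy)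

theorem mul_not_center {p q : ℕ} (hp : p.Prime) (hq : q.Prime) (hne : p ≠ q) {x y : G} (hx : IsPEl p x)
    (hy : IsPEl q y) (hc : Commute x y) (hxZ : x ∉ center G) : x * y ∉ center G := fun h => hxZ (by
  rw [← C_eq_top] at h ⊢
  rw [C_mul hp hq hne hx hy hc] at h
  exact (inf_eq_top_iff.1 h).1)

variable [Finite G]

/-- An element is in a subgroup when its primary parts are. -/
theorem mem_of_parts (H : Subgroup G) {g : G}
    (h : ∀ (p : ℕ) (y : G), p.Prime → y ∈ zpowers g → IsPEl p y → y ∈ H) : g ∈ H := by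
  suffices ∀ (n : ℕ) (g : G), orderOf g ≤ n →
      (∀ (p : ℕ) (y : G), p.Prime → y ∈ zpowers g → IsPEl p y → y ∈ H) → g ∈ H from this _ g le_rfl h
  clear h g
  intro n
  induction n with
  | zero => intro g hn; exact absurd hn (not_le.2 (orderOf_pos g))
  | succ n ih =>
    intro g hn hparts
    by_cases h1 : orderOf g = 1
    · rw [orderOf_eq_one_iff.1 h1]; exact one_mem _
    obtain ⟨r, hr, hrd⟩ := Nat.exists_prime_and_dvd h1
    obtain ⟨e, m, hm, hord⟩ := Nat.exists_eq_pow_mul_and_not_dvd (orderOf_pos g).ne' r hr.ne_one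
    have hmpos : 0 < m := Nat.pos_of_ne_zero fun e0 => by simp [e0] at hm
    have he : e ≠ 0 := fun e0 => by rw [e0, pow_zero, one_mul] at hord; exact hm (hord ▸ hrd)
    have hgm : orderOf (g ^ m) = r ^ e := by
      rw [orderOf_pow, hord, Nat.gcd_mul_left_left, Nat.mul_div_cancel _ hmpos]
    have hgr : orderOf (g ^ (r ^ e)) = m := by
      rw [orderOf_pow, hord, Nat.gcd_mul_right_left, Nat.mul_div_cancel_left _ (pow_pos hr.pos e)]
    have h2 : 2 ≤ r ^ e := le_trans hr.two_le (Nat.le_self_pow he r)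
    have hA : g ^ (r ^ e) ∈ H := ih _ (by rw [hgr]; nlinarith [hord]) fun p y hp hy ho =>
      hparts p y hp ((zpowers_le.2 (pow_mem (mem_zpowers g) _)) hy) ho
    have hB : g ^ m ∈ H := hparts r _ hr (pow_mem (mem_zpowers g) m) ⟨e, hgm⟩
    have hcop : Nat.gcd (r ^ e) m = 1 := ((hr.coprime_iff_not_dvd.2 hm).pow_left e).gcd_eq_one
    have hbez := Nat.gcd_eq_gcd_ab (r ^ e) m
    rw [hcop, Nat.cast_one] at hbez
    rw [show g = g ^ ((1 : ℕ) : ℤ) by simp, Nat.cast_one, hbez, zpow_add, zpow_mul, zpow_mul,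
      zpow_natCast, zpow_natCast]
    exact mul_mem (zpow_mem hA _) (zpow_mem hB _)

/-- A non-central element has a non-central primary part. -/
theorem exists_part {x : G} (hx : x ∉ center G) :
    ∃ (p : ℕ) (y : G), p.Prime ∧ y ∈ zpowers x ∧ IsPEl p y ∧ y ∉ center G := by
  by_contra hcon
  exact hx (mem_of_parts _ fun p y hp hy ho => by_contra fun hn => hcon ⟨p, y, hp, hy, ho, hn⟩)


/-- A `p`-element normalising a `p`-subgroup of index prime to `p` in `H` lies in it. -/
theorem mem_of_not_dvd_relIndex {p : ℕ} (hp : p.Prime) {A H : Subgroup G} (hA : IsPGroup p A) (hAH : A ≤ H)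
    (hd : ¬ p ∣ A.relIndex H) {x : G} (hxH : x ∈ H) (hx : IsPEl p x)
    (hxN : x ∈ normalizer (A : Set G)) : x ∈ A := by
  haveI := Fact.mk hp
  have hle : zpowers x ≤ normalizer (A : Set G) := zpowers_le.2 hxN
  have hP : IsPGroup p (zpowers x ⊔ A : Subgroup G) := (isPGroup_zpowers hx).to_sup_of_normal_right' hA hle
  have h1 : A.relIndex (zpowers x ⊔ A) ∣ A.relIndex H :=
    Dvd.intro _ (relIndex_mul_relIndex A (zpowers x ⊔ A) H le_sup_right (sup_le (zpowers_le.2 hxH) hAH))
  obtain ⟨n, hn⟩ := hP.exists_card_eq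
  obtain ⟨j, -, hj⟩ := (Nat.dvd_prime_pow hp).1
    (show A.relIndex (zpowers x ⊔ A) ∣ p ^ n from hn ▸ relIndex_dvd_card A _)
  rcases Nat.eq_zero_or_pos j with h0 | h0
  · rw [h0, pow_zero, relIndex_eq_one] at hj
    exact hj (mem_sup_left (mem_zpowers x))
  · exact absurd ((hj ▸ dvd_pow_self p h0.ne').trans h1) hd

/-- Commutation modulo the centre of elements of coprime orders is commutation. -/
theorem commute_of_mod_center {g k : G} (h : (orderOf g).Coprime (orderOf k))
    (hc : g * k * g⁻¹ * k⁻¹ ∈ center G) : Commute g k := by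
  set c := g * k * g⁻¹ * k⁻¹ with hcdef
  have hcc : ∀ w, Commute w c := fun w => mem_center_iff.1 hc w
  have hgk : g * k * g⁻¹ = c * k := by rw [hcdef]; group
  clear_value c
  have h1 : c ^ orderOf k = 1 := by
    have e : (c * k) ^ orderOf k = 1 := by
      rw [← hgk, conj_pow, pow_orderOf_eq_one, mul_one, mul_inv_cancel]
    rwa [((hcc k).symm).mul_pow, pow_orderOf_eq_one, mul_one] at e
  have hind : ∀ n : ℕ, g ^ n * k * (g ^ n)⁻¹ = c ^ n * k := by
    intro n
    induction n with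
    | zero => simp
    | succ n ih =>
      calc g ^ (n + 1) * k * (g ^ (n + 1))⁻¹ = g * (g ^ n * k * (g ^ n)⁻¹) * g⁻¹ := by
            rw [pow_succ']; group
        _ = (g * c ^ n * g⁻¹) * (g * k * g⁻¹) := by rw [ih]; group
        _ = c ^ n * (c * k) := by rw [((hcc g).pow_right n).eq, mul_inv_cancel_right, hgk]
        _ = _ := by rw [pow_succ, mul_assoc]
  have h2 : c ^ orderOf g = 1 := by
    have e := hind (orderOf g)
    rw [pow_orderOf_eq_one, one_mul, inv_one, mul_one] at e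
    exact mul_eq_right.1 e.symm
  have : c = 1 := orderOf_eq_one_iff.1 (Nat.eq_one_of_dvd_coprimes h (orderOf_dvd_of_pow_eq_one h2)
    (orderOf_dvd_of_pow_eq_one h1))
  rw [this, one_mul] at hgk
  exact mul_inv_eq_iff_eq_mul.1 hgk

theorem IsPEl.commute_of_mod_center {p q : ℕ} (hp : p.Prime) (hq : q.Prime) (hne : p ≠ q) {g k : G}
    (hg : IsPEl p g) (hk : IsPEl q k) (hc : g * k * g⁻¹ * k⁻¹ ∈ center G) : Commute g k :=
  ThreeSizes.commute_of_mod_center (hg.coprime hp hq hne hk) hc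

/-- A `p`-element normalising a non-central abelian `p`-group fixes one of its non-central elements modulo
the centre. -/
theorem exists_fixed {p : ℕ} (hp : p.Prime) {A : Subgroup G} (hA : IsPGroup p A) (hnA : ¬ A ≤ center G)
    {g : G} (hg : IsPEl p g) (hgN : g ∈ normalizer (A : Set G)) :
    ∃ v ∈ A, v ∉ center G ∧ g * v * g⁻¹ * v⁻¹ ∈ center G := by
  haveI := Fact.mk hp
  set P := zpowers g ⊔ A
  have hle : zpowers g ≤ normalizer (A : Set G) := zpowers_le.2 hgN
  have hP : IsPGroup p P := (isPGroup_zpowers hg).to_sup_of_normal_right' hA hle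
  set π := QuotientGroup.mk' (center G)
  have hPN : P ≤ normalizer (A : Set G) := sup_le hle le_normalizer
  set Q := P.map π
  set B := (A.map π).subgroupOf Q
  haveI hBn : B.Normal := by
    rw [normal_subgroupOf_iff_le_normalizer (map_mono le_sup_right)]
    exact (map_mono hPN).trans (le_normalizer_map π)
  have hBne : B ≠ ⊥ := by
    intro h
    apply hnA
    intro a ha
    have hmem : (⟨π a, mem_map_of_mem π (mem_sup_right ha)⟩ : Q) ∈ B := mem_map_of_mem π ha
    rw [h, mem_bot] at hmem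
    exact (QuotientGroup.eq_one_iff a).1 (congrArg Subtype.val hmem)
  haveI : Nontrivial B := (nontrivial_iff_ne_bot B).2 hBne
  have hQ : IsPGroup p Q := hP.map π
  haveI := hQ.isNilpotent
  obtain ⟨⟨b, hb⟩, hb1'⟩ := ne_bot_iff_exists_ne_one.1
    (CfsgLib.Solvable.FrattiniFitting.inf_center_ne_bot B hBne)
  have hb1 : b ≠ 1 := fun e => hb1' (Subtype.ext e)
  obtain ⟨v, hv, hvb⟩ := mem_map.1 (mem_subgroupOf.1 hb.1)
  refine ⟨v, hv, fun hz => hb1 (Subtype.ext (by rw [← hvb]; exact (QuotientGroup.eq_one_iff v).2 hz)), ?_⟩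
  have hgQ : π g ∈ Q := mem_map_of_mem π (mem_sup_left (mem_zpowers g))
  have h1 : π g * b = b * π g := congrArg Subtype.val (mem_center_iff.1 hb.2 ⟨π g, hgQ⟩)
  rw [← QuotientGroup.eq_one_iff]
  show π (g * v * g⁻¹ * v⁻¹) = 1
  simp only [map_mul, map_inv]
  rw [hvb, h1, mul_inv_cancel_right, mul_inv_cancel]

/-- If every element is conjugate into `C(P)` for a subgroup `P`, then `P` is central. -/
theorem le_center_of_cover {P : Subgroup G}
    (h : ∀ x : G, ∃ a : G, a⁻¹ * x * a ∈ centralizer (P : Set G)) : P ≤ center G := by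
  have h1 : centralizer (P : Set G) = ⊤ := CfsgLib.PGroup.IndexPow.eq_top_of_conj_cover h
  exact centralizer_eq_top_iff_subset.1 h1

end CfsgLib.Frobenius.ThreeSizes
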