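import Cfsg.Agent.Lib.Frobenius.ThreeSizes.Pair
import Cfsg.Agent.Lib.CharDeep.PrimePowerClass
import Cfsg.Agent.S0144

/-!
# Primary components of centralisers

Tools for groups with few centraliser orders: the `r`-elements of a subgroup in which they are central, pairs
inside a subgroup, and criteria for solvability.
-/

set_option autoImplicit false
set_option linter.style.haveILetI false
set_option linter.unusedSectionVars false

namespace CfsgLib.Frobenius.ThreeSizes

open Subgroup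

variable {G : Type*} [Group G]

/-- The `r`-elements of `W` are central in `W`. -/
def CentIn (r : ℕ) (W : Subgroup G) : Prop := ∀ x ∈ W, IsPEl r x → ∀ y ∈ W, Commute x y

/-- The subgroup generated by the `r`-elements of `W`. -/
def pPart (r : ℕ) (W : Subgroup G) : Subgroup G := closure {x | x ∈ W ∧ IsPEl r x}

/-- Some `r`-element is not central. -/
def InPi (G : Type*) [Group G] (r : ℕ) : Prop := ∃ x : G, IsPEl r x ∧ x ∉ center G

/-- The element lies in a solvable normal subgroup. -/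
def InRad (x : G) : Prop := ∃ R : Subgroup G, R.Normal ∧ Group.IsSolvable R ∧ x ∈ R

theorem isSolvable_center (G : Type*) [Group G] : Group.IsSolvable (center G) :=
  Group.isSolvable_of_comm fun a b => Subtype.ext (mem_center_iff.1 b.2 a)

theorem centIn_of_comm {W : Subgroup G} (h : ∀ a ∈ W, ∀ b ∈ W, Commute a b) (r : ℕ) : CentIn r W :=
  fun x hx _ y hy => h x hx y hy

theorem pPart_le (r : ℕ) (W : Subgroup G) : pPart r W ≤ W := (closure_le _).2 fun _ hx => hx.1

theorem mem_pPart {r : ℕ} {W : Subgroup G} (hr : r.Prime) (hc : CentIn r W) {x : G} :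
    x ∈ pPart r W ↔ x ∈ W ∧ IsPEl r x := by
  refine ⟨fun hx => ?_, fun hx => subset_closure hx⟩
  induction hx using closure_induction with
  | mem y hy => exact hy
  | one => exact ⟨one_mem _, 0, by rw [orderOf_one, pow_zero]⟩
  | mul a b _ _ ha hb => exact ⟨mul_mem ha.1 hb.1, ha.2.mul hr hb.2 (hc a ha.1 ha.2 b hb.1)⟩
  | inv a _ ha => exact ⟨inv_mem ha.1, ha.2.elim fun k hk => ⟨k, by rw [orderOf_inv, hk]⟩⟩

theorem isPGroup_pPart {r : ℕ} {W : Subgroup G} (hr : r.Prime) (hc : CentIn r W) : IsPGroup r (pPart r W) :=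
  fun x => by
    obtain ⟨k, hk⟩ := ((mem_pPart hr hc).1 x.2).2
    exact ⟨k, Subtype.ext (by rw [SubgroupClass.coe_pow, ← hk, pow_orderOf_eq_one]; rfl)⟩

theorem mem_normalizer_pPart {r : ℕ} {W : Subgroup G} {g : G} (hg : g ∈ normalizer (W : Set G)) :
    g ∈ normalizer (pPart r W : Set G) := by
  have key : ∀ a ∈ normalizer (W : Set G), ∀ x ∈ pPart r W, a * x * a⁻¹ ∈ pPart r W := by
    intro a ha x hx
    induction hx using closure_induction with
    | mem y hy => exact subset_closure ⟨(mem_normalizer_iff.1 ha y).1 hy.1, hy.2.conj a⟩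
    | one => simp
    | mul b c _ _ hb hc => rw [← conj_mul]; exact mul_mem hb hc
    | inv b _ hb => rw [← conj_inv]; exact inv_mem hb
  refine mem_normalizer_iff.2 fun x => ⟨key g hg x, fun hx => ?_⟩
  simpa [mul_assoc] using key g⁻¹ (inv_mem hg) _ hx

theorem CentralisesMod.mem_centralizer [Finite G] {p r : ℕ} (hp : p.Prime) (hr : r.Prime) (hne : p ≠ r) {y : G}
    {A : Subgroup G} (hy : IsPEl p y) (hA : IsPGroup r A) (h : CentralisesMod y A) :
    y ∈ centralizer (A : Set G) :=
  mem_centralizer_iff.2 fun a ha => ((hy.commute_of_mod_center hp hr hne (isPEl_of_mem hr hA ha) (h a ha))).symm.eq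

theorem commute_of_mem_centralizer {A : Subgroup G} {y a : G} (hy : y ∈ centralizer (A : Set G)) (ha : a ∈ A) :
    Commute y a := (mem_centralizer_iff.1 hy a ha).symm

/-- An element of `H` mapping an element with centraliser `W` in `H` to another one normalises `W`. -/
theorem mem_normalizer_of_map {H W : Subgroup G} {g k : G} (hg : g ∈ H) (hk : H ⊓ C k = W)
    (hk' : H ⊓ C (g * k * g⁻¹) = W) : g ∈ normalizer (W : Set G) := by
  refine mem_normalizer_iff.2 fun w => ?_
  conv_lhs => rw [← hk]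
  rw [← hk', mem_inf, mem_inf, ← map_C, mem_map_equiv, MulAut.conj_symm_apply]
  refine and_congr ⟨fun h => mul_mem (mul_mem hg h) (inv_mem hg), fun h => ?_⟩ ?_
  · have := mul_mem (mul_mem (inv_mem hg) h) hg
    simpa [mul_assoc] using this
  · simp [mul_assoc]

section Finite

variable [Finite G]

theorem not_dvd_relIndex_pPart {r : ℕ} {W : Subgroup G} (hr : r.Prime) : ¬ r ∣ (pPart r W).relIndex W := by
  haveI := Fact.mk hr
  obtain ⟨P⟩ : Nonempty (Sylow r W) := inferInstance
  have hle : (P : Subgroup W) ≤ (pPart r W).subgroupOf W := fun x hx => mem_subgroupOf.2 (subset_closure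
    ⟨x.2, by
      obtain ⟨k, hk⟩ := isPEl_of_mem hr P.2 hx
      exact ⟨k, by rw [Subgroup.orderOf_coe, hk]⟩⟩)
  exact fun h => P.not_dvd_index (h.trans (index_dvd_of_le hle))

theorem exists_pel_of_lt {H : Subgroup G} {r : ℕ} (hr : r.Prime)
    (h : (Nat.card (center G)).factorization r < (Nat.card H).factorization r) :
    ∃ x ∈ H, IsPEl r x ∧ x ∉ center G := by
  by_contra hcon
  push Not at hcon
  haveI := Fact.mk hr
  obtain ⟨P⟩ : Nonempty (Sylow r H) := inferInstance
  have hle : (P : Subgroup H).map H.subtype ≤ center G := by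
    rintro _ ⟨x, hx, rfl⟩
    exact hcon x x.2 (isPEl_of_mem hr (P.2.map H.subtype) ⟨x, hx, rfl⟩)
  have h1 := card_dvd_of_le hle
  rw [card_map_of_injective H.subtype_injective, P.card_eq_multiplicity] at h1
  exact absurd ((hr.pow_dvd_iff_le_factorization Nat.card_pos.ne').1 h1) (not_le.2 h)

theorem factorization_card {A H : Subgroup G} (hAH : A ≤ H) (r : ℕ) :
    (Nat.card H).factorization r = (Nat.card A).factorization r + (A.relIndex H).factorization r := by
  have h := relIndex_mul_relIndex ⊥ A H bot_le hAH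
  rw [relIndex_bot_left, relIndex_bot_left] at h
  rw [← h, Nat.factorization_mul (Nat.card_pos).ne' (fun e => Nat.card_pos.ne' (by rw [← h, e, mul_zero])),
    Finsupp.add_apply]

theorem factorization_lt_of_mem {H : Subgroup G} (hZH : center G ≤ H) {r : ℕ} (hr : r.Prime) {x : G}
    (hxH : x ∈ H) (hx : IsPEl r x) (hxZ : x ∉ center G) :
    (Nat.card (center G)).factorization r < (Nat.card H).factorization r := by
  haveI := Fact.mk hr
  have hc : CentIn r (center G) := centIn_of_comm (fun a _ b hb => mem_center_iff.1 hb a) r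
  set A := pPart r (center G)
  have hA : IsPGroup r A := isPGroup_pPart hr hc
  have hxN : x ∈ normalizer (A : Set G) := mem_normalizer_pPart (by rw [normalizer_eq_top]; exact mem_top x)
  have hP : IsPGroup r (zpowers x ⊔ A : Subgroup G) :=
    (isPGroup_zpowers hx).to_sup_of_normal_right' hA (zpowers_le.2 hxN)
  obtain ⟨a, ha⟩ := hA.exists_card_eq
  obtain ⟨b, hb⟩ := hP.exists_card_eq
  have hab : a < b := by
    have h1 : Nat.card A < Nat.card (zpowers x ⊔ A : Subgroup G) := by
      refine lt_of_le_of_ne (card_le_of_le le_sup_right) fun e => hxZ (pPart_le r _ ?_)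
      have heq : A = zpowers x ⊔ A := eq_of_le_of_card_ge le_sup_right e.ge
      show x ∈ A
      rw [heq]
      exact mem_sup_left (mem_zpowers x)
    rw [ha, hb] at h1
    exact (Nat.pow_lt_pow_iff_right hr.one_lt).1 h1
  have hza : (Nat.card (center G)).factorization r = a := by
    rw [factorization_card (pPart_le r (center G)) r, ha,
      Nat.factorization_eq_zero_of_not_dvd (not_dvd_relIndex_pPart hr), add_zero,
      hr.factorization_pow, Finsupp.single_eq_same]
  rw [hza]
  refine lt_of_lt_of_le hab ((hr.pow_dvd_iff_le_factorization Nat.card_pos.ne').1 (hb ▸ card_dvd_of_le ?_))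
  exact sup_le (zpowers_le.2 hxH) ((pPart_le r _).trans hZH)

theorem factorization_le_center {H : Subgroup G} (hZH : center G ≤ H) (r : ℕ) :
    (Nat.card (center G)).factorization r ≤ (Nat.card H).factorization r :=
  (Nat.factorization_le_iff_dvd Nat.card_pos.ne' Nat.card_pos.ne').2 (card_dvd_of_le hZH) r

theorem factorization_eq_of_not_inPi {H : Subgroup G} (hZH : center G ≤ H) {r : ℕ} (hr : r.Prime)
    (h : ¬ InPi G r) : (Nat.card H).factorization r = (Nat.card (center G)).factorization r := by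
  refine le_antisymm (not_lt.1 fun hlt => ?_) (factorization_le_center hZH r)
  obtain ⟨x, -, hx, hxZ⟩ := exists_pel_of_lt hr hlt
  exact h ⟨x, hx, hxZ⟩

theorem dvd_relIndex_of_lt {W H : Subgroup G} (hWH : W ≤ H) {r : ℕ}
    (h : (Nat.card W).factorization r < (Nat.card H).factorization r) : r ∣ W.relIndex H := by
  refine by_contra fun hd => h.ne ?_
  rw [factorization_card hWH r, Nat.factorization_eq_zero_of_not_dvd hd, add_zero]

theorem not_dvd_relIndex_of_eq {A W H : Subgroup G} (hAW : A ≤ W) (hAH : A ≤ H) {r : ℕ} (hr : r.Prime)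
    (hA : ¬ r ∣ A.relIndex W) (h : (Nat.card H).factorization r = (Nat.card W).factorization r) :
    ¬ r ∣ A.relIndex H := by
  intro hd
  rw [factorization_card hAH r, factorization_card hAW r, add_right_inj,
    Nat.factorization_eq_zero_of_not_dvd hA] at h
  refine (hr.factorization_pos_of_dvd ?_ hd).ne' h
  intro e
  have h2 := relIndex_mul_relIndex ⊥ A H bot_le hAH
  rw [relIndex_bot_left, relIndex_bot_left, e, mul_zero] at h2
  exact Nat.card_pos.ne' h2.symm

theorem mem_pPart_of {r : ℕ} {W : Subgroup G} {x : G} (hx : x ∈ W) (h : IsPEl r x) : x ∈ pPart r W :=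
  subset_closure ⟨hx, h⟩

/-- The `p`-part of an element. -/
theorem exists_decomp' (w : G) {p : ℕ} (hp : p.Prime) :
    ∃ u v : G, IsPEl p u ∧ u * v = w ∧ u ∈ zpowers w ∧ v ∈ zpowers w ∧ ¬ p ∣ orderOf v ∧
      ∀ y ∈ zpowers w, IsPEl p y → y ∈ zpowers u := by
  haveI := Fact.mk hp
  obtain ⟨u, v, huv, hcm, ⟨e, he⟩, hv⟩ := CfsgLib.PGroup.CountPElements.exists_decomp (p := p) w
  have hcop : (orderOf v).Coprime (orderOf u) := by
    rw [he]; exact ((hp.coprime_iff_not_dvd.2 hv).pow_left e).symm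
  have hu : u ∈ zpowers w := by
    obtain ⟨l, hl⟩ := exists_pow_eq_self_of_coprime hcop
    rw [← hl, ← mul_one (u ^ orderOf v), ← pow_orderOf_eq_one v, ← hcm.mul_pow, huv, ← pow_mul]
    exact pow_mem (mem_zpowers _) _
  refine ⟨u, v, ⟨e, he⟩, huv, hu, ?_, hv, fun y hy hyp => ?_⟩
  · rw [show v = u⁻¹ * w by rw [← huv, inv_mul_cancel_left]]
    exact mul_mem (inv_mem hu) (mem_zpowers w)
  · obtain ⟨n, rfl⟩ := mem_zpowers_iff.1 hy
    obtain ⟨k, hk⟩ := hyp
    have h4 : v ^ n = (u ^ n)⁻¹ * w ^ n := by rw [← huv, hcm.mul_zpow, inv_mul_cancel_left]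
    have h5 : Commute ((u ^ n)⁻¹) (w ^ n) := by
      rw [← huv, hcm.mul_zpow]
      exact ((Commute.refl (u ^ n)).mul_right (hcm.zpow_zpow n n)).inv_left
    have h7 : (u ^ n) ^ p ^ e = 1 := by
      rw [← zpow_natCast, ← zpow_mul, mul_comm, zpow_mul, zpow_natCast, ← he, pow_orderOf_eq_one, one_zpow]
    have h3 : (v ^ n) ^ p ^ (k + e) = 1 := by
      rw [h4, h5.mul_pow, inv_pow, pow_add]
      rw [show ((w ^ n) ^ (p ^ k * p ^ e)) = 1 by rw [pow_mul, ← hk, pow_orderOf_eq_one, one_pow], mul_one,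
        mul_comm, pow_mul, h7, one_pow, inv_one]
    have h6 : orderOf (v ^ n) ∣ orderOf v := by
      refine orderOf_dvd_of_pow_eq_one ?_
      rw [← zpow_natCast, ← zpow_mul, mul_comm, zpow_mul, zpow_natCast, pow_orderOf_eq_one, one_zpow]
    have h8 := orderOf_eq_one_iff.1 (Nat.eq_one_of_dvd_coprimes
      ((hp.coprime_iff_not_dvd.2 hv).pow_left (k + e)) (orderOf_dvd_of_pow_eq_one h3) h6)
    rw [← huv, hcm.mul_zpow, h8, mul_one]
    exact zpow_mem (mem_zpowers u) n

/-- A noncentral element splits off a noncentral primary part. -/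
theorem exists_split {w : G} (hw : w ∉ center G) :
    ∃ (p : ℕ) (u v : G), p.Prime ∧ IsPEl p u ∧ u ∉ center G ∧ u * v = w ∧ u ∈ zpowers w ∧ v ∈ zpowers w ∧
      ¬ p ∣ orderOf v := by
  obtain ⟨p, y, hp, hy, hyp, hyZ⟩ := exists_part hw
  obtain ⟨u, v, hu, huv, huw, hvw, hv, hall⟩ := exists_decomp' w hp
  exact ⟨p, u, v, hp, hu, fun h => hyZ (zpowers_le.2 h (hall y hy hyp)), huv, huw, hvw, hv⟩

/-- Either the centraliser of `w` is that of one of its primary parts, or `w` has two non-central parts. -/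
theorem exists_parts {w : G} (hw : w ∉ center G) :
    (∃ (p : ℕ) (u : G), p.Prime ∧ IsPEl p u ∧ u ∉ center G ∧ u ∈ zpowers w ∧ C w = C u) ∨
    ∃ (p q : ℕ) (u z : G), p.Prime ∧ q.Prime ∧ p ≠ q ∧ IsPEl p u ∧ IsPEl q z ∧ u ∉ center G ∧ z ∉ center G ∧
      u ∈ zpowers w ∧ z ∈ zpowers w := by
  obtain ⟨p, u, v, hp, hu, huZ, huv, huw, hvw, hv⟩ := exists_split hw
  by_cases hvZ : v ∈ center G
  · exact Or.inl ⟨p, u, hp, hu, huZ, huw, by rw [← huv, C_mul_center hvZ]⟩
  obtain ⟨q, z, hq, hz, hzq, hzZ⟩ := exists_part hvZ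
  refine Or.inr ⟨p, q, u, z, hp, hq, ?_, hu, hzq, huZ, hzZ, huw, zpowers_le.2 hvw hz⟩
  rintro rfl
  obtain ⟨k, hk⟩ := hzq
  have hk0 : k ≠ 0 := fun e => hzZ (by
    rw [e, pow_zero, orderOf_eq_one_iff] at hk
    rw [hk]; exact one_mem _)
  have h1 : orderOf z ∣ orderOf v := by
    obtain ⟨n, rfl⟩ := mem_zpowers_iff.1 hz
    refine orderOf_dvd_of_pow_eq_one ?_
    rw [← zpow_natCast, ← zpow_mul, mul_comm, zpow_mul, zpow_natCast, pow_orderOf_eq_one, one_zpow]
  exact hv (((dvd_pow_self p hk0).trans (dvd_of_eq hk.symm)).trans h1)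

theorem inRad_of_index {x : G} {p : ℕ} (hp : p.Prime) (k : ℕ) (hx : (C x).index = p ^ k) : InRad x :=
  ⟨_, normalClosure_normal, CfsgLib.CharDeep.PrimePowerClass.isSolvable_normalClosure x hp k hx,
    subset_normalClosure rfl⟩

/-- If all elements of prime power order other than those for two primes lie in solvable normal subgroups, the
group is solvable. -/
theorem solvable_of_inRad {p q : ℕ} (hp : p.Prime) (hq : q.Prime)
    (h : ∀ (r : ℕ) (x : G), r.Prime → r ≠ p → r ≠ q → IsPEl r x → x ∉ center G → InRad x) :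
    Group.IsSolvable G := by
  obtain ⟨R, hRn, hRs, hRmax⟩ := CfsgLib.Recognition.OneToFive.exists_radical G
  haveI := hRn
  haveI := hRs
  have hmem : ∀ (r : ℕ) (x : G), r.Prime → r ≠ p → r ≠ q → IsPEl r x → x ∈ R := by
    intro r x hr h1 h2 hx
    by_cases hxZ : x ∈ center G
    · exact hRmax _ inferInstance (isSolvable_center G) hxZ
    · obtain ⟨S, hS, hSs, hxS⟩ := h r x hr h1 h2 hx hxZ
      exact hRmax S hS hSs hxS
  have hprimes : ∀ r : ℕ, r.Prime → r ∣ Nat.card (G ⧸ R) → r = p ∨ r = q := by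
    intro r hr hd
    by_contra hc
    push Not at hc
    haveI := Fact.mk hr
    obtain ⟨c, hc'⟩ := exists_prime_orderOf_dvd_card' r hd
    obtain ⟨x, rfl⟩ := QuotientGroup.mk'_surjective R c
    have hxr : x ^ r ^ 1 ∈ R := by
      rw [pow_one, ← QuotientGroup.eq_one_iff, QuotientGroup.mk_pow, ← QuotientGroup.mk'_apply, ← hc',
        pow_orderOf_eq_one]
    obtain ⟨n, hn, hnR⟩ := exists_part_congr hr hxr
    have hxR : x ∈ R := by
      rw [show x = x ^ n * (x⁻¹ * x ^ n)⁻¹ by group]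
      exact mul_mem (hmem r _ hr hc.1 hc.2 hn) (inv_mem hnR)
    rw [show QuotientGroup.mk' R x = 1 from (QuotientGroup.eq_one_iff x).2 hxR, orderOf_one] at hc'
    exact hr.one_lt.ne hc'
  haveI : Group.IsSolvable (G ⧸ R) := by
    by_cases hpq : p = q
    · refine Cfsg.Agent.S0144.result p q (Nat.card (G ⧸ R)).primeFactorsList.length 0 hp hq ?_
      rw [pow_zero, mul_one]
      conv_lhs => rw [← Nat.prod_primeFactorsList (Nat.card_pos (α := G ⧸ R)).ne']
      exact List.prod_eq_pow_card _ _ fun r hr =>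
        (hprimes r (Nat.prime_of_mem_primeFactorsList hr) (Nat.dvd_of_mem_primeFactorsList hr)).elim id
          (fun e => e.trans hpq.symm)
    · refine Cfsg.Agent.S0144.result p q ((Nat.card (G ⧸ R)).factorization p)
        ((Nat.card (G ⧸ R)).factorization q) hp hq ?_
      have h0 : Nat.card (G ⧸ R) ≠ 0 := Nat.card_pos.ne'
      refine Nat.eq_of_factorization_eq h0 (mul_ne_zero (pow_pos hp.pos _).ne' (pow_pos hq.pos _).ne') fun r => ?_
      rw [Nat.factorization_mul (pow_pos hp.pos _).ne' (pow_pos hq.pos _).ne', hp.factorization_pow,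
        hq.factorization_pow, Finsupp.add_apply]
      by_cases hrp : r = p
      · subst hrp; rw [Finsupp.single_eq_same, Finsupp.single_eq_of_ne hpq, add_zero]
      by_cases hrq : r = q
      · subst hrq; rw [Finsupp.single_eq_same, Finsupp.single_eq_of_ne hrp, zero_add]
      rw [Finsupp.single_eq_of_ne hrp, Finsupp.single_eq_of_ne hrq, add_zero, Nat.factorization_eq_zero_iff]
      by_cases hr : r.Prime
      · exact Or.inr (Or.inl fun hd => (hprimes r hr hd).elim hrp hrq)
      · exact Or.inl hr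
  exact Group.isSolvable_of_ker_le_range R.subtype (QuotientGroup.mk' R)
    (by rw [QuotientGroup.ker_mk', range_subtype])

/-- If the prime `2` has no non-central elements, the group is solvable. -/
theorem solvable_of_not_inPi_two (h : ¬ InPi G 2) : Group.IsSolvable G := by
  have hodd : Odd (Nat.card (G ⧸ center G)) := by
    rw [← Nat.not_even_iff_odd, even_iff_two_dvd]
    intro h2
    haveI : Fact (Nat.Prime 2) := ⟨Nat.prime_two⟩
    obtain ⟨c, hc⟩ := exists_prime_orderOf_dvd_card' 2 h2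
    obtain ⟨x, rfl⟩ := QuotientGroup.mk'_surjective (center G) c
    have hx2 : x ^ 2 ^ 1 ∈ center G := by
      rw [pow_one, ← QuotientGroup.eq_one_iff, QuotientGroup.mk_pow, ← QuotientGroup.mk'_apply, ← hc,
        pow_orderOf_eq_one]
    obtain ⟨n, hn, hnZ⟩ := exists_part_congr Nat.prime_two hx2
    have hxn : x ^ n ∈ center G := by_contra fun hZ => h ⟨_, hn, hZ⟩
    have hxZ : x ∈ center G := by
      rw [show x = x ^ n * (x⁻¹ * x ^ n)⁻¹ by group]
      exact mul_mem hxn (inv_mem hnZ)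
    rw [show QuotientGroup.mk' (center G) x = 1 from (QuotientGroup.eq_one_iff x).2 hxZ, orderOf_one] at hc
    exact absurd hc (by omega)
  haveI := Cfsg.Agent.S0205.result hodd
  haveI := isSolvable_center G
  exact Group.isSolvable_of_ker_le_range (center G).subtype (QuotientGroup.mk' (center G))
    (by rw [QuotientGroup.ker_mk', range_subtype])

/-- An `r`-subgroup which is not a Sylow subgroup is not its own normaliser's. -/
theorem exists_normalizer_outside {A : Subgroup G} {r : ℕ} (hr : r.Prime) (hA : IsPGroup r A)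
    (hdvd : r ∣ A.index) : ∃ x : G, IsPEl r x ∧ x ∈ normalizer (A : Set G) ∧ x ∉ A := by
  haveI := Fact.mk hr
  obtain ⟨n, hn⟩ := hA.exists_card_eq
  have hd2 : r ^ (n + 1) ∣ Nat.card G := by
    rw [pow_succ, ← hn, ← A.card_mul_index]
    exact mul_dvd_mul_left _ hdvd
  set K := normalizer (A : Set G)
  have hd3 : r ^ (n + 1) ∣ Nat.card K := by
    have h := Sylow.prime_dvd_card_quotient_normalizer hd2 hn
    rw [pow_succ, mul_comm, ← hn, card_eq_card_quotient_mul_card_subgroup (A.comap K.subtype),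
      show Nat.card (A.comap K.subtype) = Nat.card A from
        Nat.card_congr (Subgroup.subgroupOfEquivOfLe le_normalizer).toEquiv]
    exact mul_dvd_mul_right h _
  obtain ⟨Q⟩ : Nonempty (Sylow r K) := inferInstance
  by_contra hcon
  push Not at hcon
  have hle : (Q : Subgroup K).map K.subtype ≤ A := fun x hx =>
    hcon x (isPEl_of_mem hr (Q.2.map K.subtype) hx) (map_subtype_le _ hx)
  have h1 := card_dvd_of_le hle
  rw [card_map_of_injective K.subtype_injective, hn] at h1
  have h2 : r ^ (n + 1) ∣ Nat.card (Q : Subgroup K) := by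
    rw [Q.card_eq_multiplicity]
    exact pow_dvd_pow r ((hr.pow_dvd_iff_le_factorization Nat.card_pos.ne').1 hd3)
  exact absurd (h2.trans h1)
    (Nat.not_dvd_of_pos_of_lt (pow_pos hr.pos n) (Nat.pow_lt_pow_right hr.one_lt (Nat.lt_succ_self n)))

section Inside

variable {H W : Subgroup G} {r t : ℕ}

theorem not_center_of {k : G} (hW : W ≠ H) (hk : H ⊓ C k = W) (hkH : k ∈ H) :
    (⟨k, hkH⟩ : H) ∉ center H := fun hc => hW (by
  rw [← hk]
  refine inf_eq_left.2 fun x hx => mem_C.2 ?_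
  exact congrArg Subtype.val (mem_center_iff.1 hc ⟨x, hx⟩))

theorem C_subgroupOf {k : G} (hkH : k ∈ H) (hk : H ⊓ C k = W) : C (⟨k, hkH⟩ : H) = W.subgroupOf H := by
  ext x
  rw [mem_subgroupOf, ← hk, mem_inf, mem_C, mem_C]
  exact ⟨fun h => ⟨x.2, congrArg Subtype.val h⟩, fun h => Subtype.ext h.2⟩

/-- A pair inside `H`. -/
theorem pair_in (hr : r.Prime) (ht : t.Prime) (hne : r ≠ t) (hWH : W ≤ H) (hW : W ≠ H) (cr : CentIn r W)
    (ct : CentIn t W) (nr : ∃ x ∈ W, IsPEl r x ∧ x ∉ center G) (nt : ∃ x ∈ W, IsPEl t x ∧ x ∉ center G)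
    (hC : ∀ k ∈ W, IsPEl r k ∨ IsPEl t k → k ∉ center G → H ⊓ C k = W)
    (dr : r ∣ W.relIndex H) (dt : t ∣ W.relIndex H) :
    Pair r t ((pPart r W).subgroupOf H) ((pPart t W).subgroupOf H) := by
  have hle : ∀ (p : ℕ), pPart p W ≤ H := fun p => (pPart_le p W).trans hWH
  have hG : ∀ k : H, k ∉ center H → (k : G) ∉ center G := fun k hk hZ =>
    hk (mem_center_iff.2 fun y => Subtype.ext (mem_center_iff.1 hZ (y : G)))
  have nc : ∀ {p : ℕ}, p.Prime → (p = r ∨ p = t) → (∃ x ∈ W, IsPEl p x ∧ x ∉ center G) →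
      ¬ (pPart p W).subgroupOf H ≤ center H := by
    rintro p hp hpe ⟨x, hxW, hx, hxZ⟩ hcon
    refine not_center_of hW (hC x hxW ?_ hxZ) (hWH hxW) (hcon (mem_pPart_of hxW hx))
    rcases hpe with rfl | rfl
    · exact Or.inl hx
    · exact Or.inr hx
  have hel : ∀ k : H, (k ∈ (pPart r W).subgroupOf H ∨ k ∈ (pPart t W).subgroupOf H) → k ∉ center H →
      C k = W.subgroupOf H := by
    rintro ⟨k, hkH⟩ hk hkc
    refine C_subgroupOf hkH ?_
    rcases hk with hk | hk
    · exact hC k (pPart_le r W hk) (Or.inl ((mem_pPart hr cr).1 hk).2) (hG _ hkc)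
    · exact hC k (pPart_le t W hk) (Or.inr ((mem_pPart ht ct).1 hk).2) (hG _ hkc)
  have hfull : ∀ {p : ℕ}, p.Prime → ∀ k : H,
      (k ∈ (pPart r W).subgroupOf H ∨ k ∈ (pPart t W).subgroupOf H) → k ∉ center H →
      Full p ((pPart p W).subgroupOf H) k := fun hp k hk hkc => by
    rw [Full, hel k hk hkc, relIndex_subgroupOf hWH]
    exact ⟨fun x hx => pPart_le _ W hx, not_dvd_relIndex_pPart hp⟩
  exact
    { hr := hr
      ht := ht
      hne := hne
      hA := (isPGroup_pPart hr cr).of_equiv (Subgroup.subgroupOfEquivOfLe (hle r)).symm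
      hD := (isPGroup_pPart ht ct).of_equiv (Subgroup.subgroupOfEquivOfLe (hle t)).symm
      nA := nc hr (Or.inl rfl) nr
      nD := nc ht (Or.inr rfl) nt
      fullA := hfull hr
      fullD := hfull ht
      idxA := dr.trans (Dvd.intro_left _ (relIndex_mul_relIndex _ W H (pPart_le r W) hWH))
      idxD := dt.trans (Dvd.intro_left _ (relIndex_mul_relIndex _ W H (pPart_le t W) hWH)) }

/-- There are no two primes at which a common centraliser in `H` of all its non-central elements for those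
primes is not a Sylow subgroup of `H`. -/
theorem false_in (hr : r.Prime) (ht : t.Prime) (hne : r ≠ t) (hWH : W ≤ H) (cr : CentIn r W)
    (ct : CentIn t W) (nr : ∃ x ∈ W, IsPEl r x ∧ x ∉ center G) (nt : ∃ x ∈ W, IsPEl t x ∧ x ∉ center G)
    (hC : ∀ k ∈ W, IsPEl r k ∨ IsPEl t k → k ∉ center G → H ⊓ C k = W)
    (dr : r ∣ W.relIndex H) (dt : t ∣ W.relIndex H) : False := by
  have hW : W ≠ H := fun e => hr.one_lt.ne' (Nat.dvd_one.1 (relIndex_self H ▸ e ▸ dr))
  refine (pair_in hr ht hne hWH hW cr ct nr nt hC dr dt).false_semireg fun x _ _ k hk hkc hc => ?_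
  have hkG : (k : G) ∉ center G := fun hZ => hkc (mem_center_iff.2 fun y => Subtype.ext (mem_center_iff.1 hZ (y : G)))
  have hxW : (x : G) ∈ W := by
    rcases hk with hk | hk
    · rw [← hC k (pPart_le r W hk) (Or.inl ((mem_pPart hr cr).1 hk).2) hkG]
      exact ⟨x.2, mem_C.2 (congrArg Subtype.val hc)⟩
    · rw [← hC k (pPart_le t W hk) (Or.inr ((mem_pPart ht ct).1 hk).2) hkG]
      exact ⟨x.2, mem_C.2 (congrArg Subtype.val hc)⟩
  exact ⟨mem_centralizer_iff.2 fun a ha => Subtype.ext (((mem_pPart hr cr).1 ha).elim fun h1 h2 =>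
      cr _ h1 h2 _ hxW), mem_centralizer_iff.2 fun a ha => Subtype.ext (((mem_pPart ht ct).1 ha).elim fun h1 h2 =>
      ct _ h1 h2 _ hxW)⟩

/-- An `r`-element of `H` normalising `W`, outside `W`. -/
theorem outside_in (hr : r.Prime) (hWH : W ≤ H) (cr : CentIn r W) (nr : ∃ x ∈ W, IsPEl r x ∧ x ∉ center G)
    (hC : ∀ k ∈ W, IsPEl r k → k ∉ center G → H ⊓ C k = W) (dr : r ∣ W.relIndex H) :
    ∃ g ∈ H, IsPEl r g ∧ g ∈ normalizer (W : Set G) ∧ g ∉ W := by
  have hle : pPart r W ≤ H := (pPart_le r W).trans hWH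
  obtain ⟨⟨g, hgH⟩, hg, hgN, hgA⟩ := exists_normalizer_outside (A := (pPart r W).subgroupOf H) hr
    ((isPGroup_pPart hr cr).of_equiv (Subgroup.subgroupOfEquivOfLe hle).symm)
    (dr.trans (Dvd.intro_left _ (relIndex_mul_relIndex _ W H (pPart_le r W) hWH)))
  have hg' : IsPEl r g := hg.elim fun k hk => ⟨k, by rwa [Subgroup.orderOf_mk] at hk⟩
  obtain ⟨k, hkW, hk, hkZ⟩ := nr
  have hmem := (mem_normalizer_iff.1 hgN ⟨k, hWH hkW⟩).1 (mem_pPart_of hkW hk)
  have hk'W : g * k * g⁻¹ ∈ W := pPart_le r W hmem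
  have hk'Z : g * k * g⁻¹ ∉ center G := fun h => hkZ (by
    simpa [mul_assoc] using (Normal.conj_mem inferInstance _ h g⁻¹ : g⁻¹ * (g * k * g⁻¹) * g⁻¹⁻¹ ∈ center G))
  exact ⟨g, hgH, hg', mem_normalizer_of_map hgH (hC k hkW hk hkZ) (hC _ hk'W (hk.conj g) hk'Z),
    fun hgW => hgA (mem_pPart_of hgW hg')⟩

/-- A `2`-element of `H` outside `W`, normalising it with square in it, inverts the `2`-part of `W`. -/
theorem inverts_two_in (hWH : W ≤ H) (hW : W ≠ H) (c2 : CentIn 2 W)
    (hC : ∀ k ∈ W, IsPEl 2 k → k ∉ center G → H ⊓ C k = W) {g : G} (hgH : g ∈ H) (hg : IsPEl 2 g)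
    (hgN : g ∈ normalizer (W : Set G)) (hgW : g ∉ W) (hg2 : g ^ 2 ∈ W) : Inverts g (pPart 2 W) := by
  have h2 := Nat.prime_two
  set A := (pPart 2 W).subgroupOf H
  have hle : pPart 2 W ≤ H := (pPart_le 2 W).trans hWH
  have hG : ∀ k : H, k ∉ center H → (k : G) ∉ center G := fun k hk hZ =>
    hk (mem_center_iff.2 fun y => Subtype.ext (mem_center_iff.1 hZ (y : G)))
  have hfull : ∀ k ∈ A, k ∉ center H → Full 2 A k := by
    rintro ⟨k, hkH⟩ hk hkc
    rw [Full, C_subgroupOf hkH (hC k (pPart_le 2 W hk) ((mem_pPart h2 c2).1 hk).2 (hG _ hkc)),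
      relIndex_subgroupOf hWH]
    exact ⟨fun x hx => pPart_le 2 W hx, not_dvd_relIndex_pPart h2⟩
  have hinv := inverts_self (G := H) (A := A)
    ((isPGroup_pPart h2 c2).of_equiv (Subgroup.subgroupOfEquivOfLe hle).symm) hfull
    (g := ⟨g, hgH⟩) (hg.elim fun k hk => ⟨k, by rwa [Subgroup.orderOf_mk]⟩)
    (by
      have h1 := mem_normalizer_pPart (r := 2) hgN
      refine mem_normalizer_iff.2 fun x => ?_
      exact mem_normalizer_iff.1 h1 x)
    (fun h => hgW (pPart_le 2 W h)) (mem_pPart_of hg2 (hg.pow h2 2))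
  intro a ha
  have h3 := hinv ⟨a, hle ha⟩ ha
  refine by_contra fun hZ => not_center_of hW (hC _ ?_ ?_ hZ) _ h3
  · exact mul_mem ((mem_normalizer_iff.1 hgN a).1 (pPart_le 2 W ha)) (pPart_le 2 W ha)
  · exact ((mem_pPart h2 c2).1 (mul_mem ((mem_normalizer_iff.1 (mem_normalizer_pPart hgN) a).1 ha) ha)).2

end Inside

end Finite

end CfsgLib.Frobenius.ThreeSizes
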