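import Cfsg.Agent.Lib.Frobenius.ThreeSizes.Common

/-!
# Abelian centralisers of all their non-central elements

Components: abelian subgroups which are the centralisers of each of their non-central elements, and the standing
hypothesis that non-central elements have two centraliser orders.
-/

set_option autoImplicit false
set_option linter.style.haveILetI false
set_option linter.unusedSectionVars false

namespace CfsgLib.Frobenius.ThreeSizes

open Subgroup

variable {G : Type*} [Group G]

/-- The subgroup has a non-central `r`-element. -/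
def HasPart (K : Subgroup G) (r : ℕ) : Prop := ∃ x ∈ K, IsPEl r x ∧ x ∉ center G

/-- An abelian subgroup which is the centraliser of each of its non-central elements. -/
structure IsComp (K : Subgroup G) : Prop where
  comm : ∀ a ∈ K, ∀ b ∈ K, Commute a b
  C_eq : ∀ k ∈ K, k ∉ center G → C k = K
  nc : ∃ k ∈ K, k ∉ center G

/-- Non-central elements have centraliser order `s` or `b`. -/
structure Sizes (G : Type*) [Group G] (s b : ℕ) : Prop where
  lt : s < b
  b_lt : b < Nat.card G
  sizes : ∀ x : G, x ∉ center G → Nat.card (C x) = s ∨ Nat.card (C x) = b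
  exists_small : ∃ w : G, w ∉ center G ∧ Nat.card (C w) = s
  exists_big : ∃ w : G, w ∉ center G ∧ Nat.card (C w) = b

namespace IsComp

variable {K : Subgroup G}

theorem centIn (hK : IsComp K) (r : ℕ) : CentIn r K := centIn_of_comm hK.comm r

theorem center_le (hK : IsComp K) : center G ≤ K := by
  obtain ⟨k, hk, hkZ⟩ := hK.nc
  rw [← hK.C_eq k hk hkZ]
  exact center_le_C k

theorem eq_of_mem (hK : IsComp K) {K' : Subgroup G} (hK' : IsComp K') {k : G} (hk : k ∈ K) (hk' : k ∈ K')
    (hkZ : k ∉ center G) : K = K' := (hK.C_eq k hk hkZ).symm.trans (hK'.C_eq k hk' hkZ)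

theorem ne_top (hK : IsComp K) : K ≠ ⊤ := by
  obtain ⟨k, hk, hkZ⟩ := hK.nc
  exact fun e => hkZ (C_eq_top.1 ((hK.C_eq k hk hkZ).trans e))

theorem conj (hK : IsComp K) (g : G) : IsComp (K.map (MulAut.conj g).toMonoidHom) where
  comm := by
    rintro _ ⟨a, ha, rfl⟩ _ ⟨b, hb, rfl⟩
    exact (hK.comm a ha b hb).map _
  C_eq := by
    rintro _ ⟨a, ha, rfl⟩ hZ
    have haZ : a ∉ center G := fun h => hZ (Normal.conj_mem inferInstance _ h g)
    conv_rhs => rw [← hK.C_eq a ha haZ, map_C]
    rfl
  nc := by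
    obtain ⟨k, hk, hkZ⟩ := hK.nc
    refine ⟨_, mem_map_of_mem _ hk, fun h => hkZ ?_⟩
    have := (Normal.conj_mem inferInstance _ h g⁻¹ : g⁻¹ * (g * k * g⁻¹) * g⁻¹⁻¹ ∈ center G)
    simpa [mul_assoc] using this

theorem mem_normalizer (hK : IsComp K) {g k : G} (hk : k ∈ K) (hkZ : k ∉ center G)
    (hgk : g * k * g⁻¹ ∈ K) : g ∈ normalizer (K : Set G) := by
  have hZ : g * k * g⁻¹ ∉ center G := fun h => hkZ (by
    simpa [mul_assoc] using (Normal.conj_mem inferInstance _ h g⁻¹ : g⁻¹ * (g * k * g⁻¹) * g⁻¹⁻¹ ∈ center G))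
  exact mem_normalizer_of_map (H := ⊤) (mem_top g) (by rw [top_inf_eq]; exact hK.C_eq k hk hkZ)
    (by rw [top_inf_eq]; exact hK.C_eq _ hgk hZ)

variable [Finite G]

/-- A component is not a Sylow-full subgroup for at most one of its primes. -/
theorem unique (hK : IsComp K) {r t : ℕ} (hr : r.Prime) (ht : t.Prime) (hne : r ≠ t) (nr : HasPart K r)
    (nt : HasPart K t) (dr : r ∣ K.index) (dt : t ∣ K.index) : False :=
  false_in (H := ⊤) hr ht hne le_top (hK.centIn r) (hK.centIn t) nr nt
    (fun k hk _ hkZ => by rw [top_inf_eq]; exact hK.C_eq k hk hkZ)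
    (by rwa [relIndex_top_right]) (by rwa [relIndex_top_right])

theorem inPi_of_dvd (hK : IsComp K) {r : ℕ} (hr : r.Prime) (dr : r ∣ K.index) : InPi G r := by
  by_contra h
  have h1 := factorization_eq_of_not_inPi hK.center_le hr h
  have h2 := factorization_eq_of_not_inPi (H := (⊤ : Subgroup G)) le_top hr h
  rw [factorization_card (le_top : K ≤ ⊤) r, relIndex_top_right, h1, add_eq_left] at h2
  exact (hr.factorization_pos_of_dvd Subgroup.index_ne_zero_of_finite dr).ne' h2

/-- An element of a component with elements for all primes lies in a solvable normal subgroup. -/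
theorem inRad (hK : IsComp K) (hall : ∀ r : ℕ, r.Prime → InPi G r → r ∣ K.index → HasPart K r) {k : G}
    (hk : k ∈ K) (hkZ : k ∉ center G) : InRad k := by
  obtain ⟨p, hp, hpd⟩ := Nat.exists_prime_and_dvd (fun e => hK.ne_top (index_eq_one.1 e))
  refine inRad_of_index hp (K.index.factorization p) ?_
  rw [hK.C_eq k hk hkZ]
  refine Nat.eq_of_factorization_eq Subgroup.index_ne_zero_of_finite (pow_pos hp.pos _).ne' fun r => ?_
  rw [hp.factorization_pow]
  by_cases hrp : r = p
  · subst hrp; rw [Finsupp.single_eq_same]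
  rw [Finsupp.single_eq_of_ne hrp, Nat.factorization_eq_zero_iff]
  by_cases hr : r.Prime
  · exact Or.inr (Or.inl fun hd => hK.unique hr hp hrp (hall r hr (hK.inPi_of_dvd hr hd) hd)
      (hall p hp (hK.inPi_of_dvd hp hpd) hpd) hd hpd)
  · exact Or.inl hr

end IsComp

variable [Finite G]

theorem card_conj (g : G) (K : Subgroup G) :
    Nat.card (K.map (MulAut.conj g).toMonoidHom) = Nat.card K :=
  card_map_of_injective (MulAut.conj g).injective

theorem card_C_conj (g x : G) : Nat.card (C (g * x * g⁻¹)) = Nat.card (C x) := by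
  rw [← map_C, card_conj]

/-- Every `r`-element is conjugate into a Sylow-sized `r`-subgroup. -/
theorem exists_conj_mem {A : Subgroup G} {r : ℕ} (hr : r.Prime) (hA : IsPGroup r A) (hd : ¬ r ∣ A.index)
    {v : G} (hv : IsPEl r v) : ∃ g : G, g * v * g⁻¹ ∈ A := by
  haveI := Fact.mk hr
  obtain ⟨Q, hQ⟩ := (isPGroup_zpowers hv).exists_le_sylow
  obtain ⟨g, hg⟩ := MulAction.exists_smul_eq G Q (hA.toSylow hd)
  refine ⟨g, ?_⟩
  have h1 : g * v * g⁻¹ ∈ ((g • Q : Sylow r G) : Subgroup G) := by
    rw [Sylow.coe_subgroup_smul]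
    exact ⟨v, hQ (mem_zpowers v), rfl⟩
  rw [hg] at h1
  exact h1

/-- Components of the same order sharing a full prime are conjugate. -/
theorem IsComp.exists_conj {K K' : Subgroup G} (hK : IsComp K) (hK' : IsComp K') {r : ℕ} (hr : r.Prime)
    (nr : HasPart K r) (hfull : ¬ r ∣ K.index) (hc : Nat.card K' = Nat.card K) :
    ∃ g : G, K.map (MulAut.conj g).toMonoidHom = K' := by
  obtain ⟨x, hxK, hx, hxZ⟩ := nr
  have hfull' : ¬ r ∣ K'.index := by
    have h1 := K.card_mul_index
    rw [← K'.card_mul_index, hc] at h1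
    rwa [← mul_left_cancel₀ Nat.card_pos.ne' h1]
  obtain ⟨g, hg⟩ := exists_conj_mem hr (isPGroup_pPart hr (hK'.centIn r)) (fun hd => by
    rw [← relIndex_top_right, ← relIndex_mul_relIndex _ K' ⊤ (pPart_le r K') le_top, relIndex_top_right] at hd
    exact ((hr.dvd_mul).1 hd).elim (not_dvd_relIndex_pPart hr) hfull') hx
  refine ⟨g, (hK.conj g).eq_of_mem hK' (mem_map_of_mem _ hxK) (pPart_le r K' hg) fun h => hxZ ?_⟩
  have h' : g⁻¹ * (g * x * g⁻¹) * g⁻¹⁻¹ ∈ center G := Normal.conj_mem inferInstance _ h g⁻¹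
  simpa [mul_assoc] using h'

/-- A subgroup in which each non-central element of prime power order has the subgroup as centraliser. -/
theorem isComp_mk {K : Subgroup G} (hZ : center G ≤ K) (hnc : ∃ k ∈ K, k ∉ center G)
    (hu : ∀ (p : ℕ) (u : G), p.Prime → u ∈ K → IsPEl p u → u ∉ center G → C u = K)
    (hmax : ∀ k : G, k ∉ center G → K ≤ C k → Nat.card (C k) ≤ Nat.card K) : IsComp K := by
  have hcomm : ∀ a ∈ K, ∀ b ∈ K, Commute a b := by
    intro a ha b hb
    refine mem_C.1 (mem_of_parts (C b) fun p y hp hy hyp => ?_)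
    by_cases hyZ : y ∈ center G
    · exact center_le_C b hyZ
    · have hbK : b ∈ C y := by rw [hu p y hp (zpowers_le.2 ha hy) hyp hyZ]; exact hb
      exact mem_C.2 (mem_C.1 hbK).symm
  refine ⟨hcomm, fun k hk hkZ => ?_, hnc⟩
  exact (eq_of_le_of_card_ge (fun a ha => mem_C.2 (hcomm a ha k hk)) (hmax k hkZ fun a ha =>
    mem_C.2 (hcomm a ha k hk))).symm

namespace Sizes

variable {s b : ℕ}

theorem ne_top (hS : Sizes G s b) {K : Subgroup G} (h : Nat.card K ≤ b) : K ≠ ⊤ := by
  rintro rfl
  rw [card_top] at h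
  exact absurd (hS.b_lt) (not_lt.2 h)

theorem card_le (hS : Sizes G s b) {x : G} (hx : x ∉ center G) : Nat.card (C x) ≤ b := by
  rcases hS.sizes x hx with h | h <;> rw [h]
  exact hS.lt.le

theorem small_le (hS : Sizes G s b) {x : G} (hx : x ∉ center G) : s ≤ Nat.card (C x) := by
  rcases hS.sizes x hx with h | h <;> rw [h]
  exact hS.lt.le

theorem eq_of_le_big (hS : Sizes G s b) {K : Subgroup G} (hK : Nat.card K = b) {y : G} (hy : y ∉ center G)
    (h : K ≤ C y) : C y = K := (eq_of_le_of_card_ge h (hK ▸ hS.card_le hy)).symm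

theorem eq_of_small (hS : Sizes G s b) {K : Subgroup G} (hK : Nat.card K = s) {y : G} (hy : y ∉ center G)
    (h : C y ≤ K) : C y = K := eq_of_le_of_card_ge h (hK ▸ hS.small_le hy)

end Sizes

end CfsgLib.Frobenius.ThreeSizes
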