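import Cfsg.Agent.Lib.Frobenius.ThreeSizes.Component
import Cfsg.Agent.S4134

/-!
# Two centraliser orders, one dividing the other: reduction to abelian small centralisers

If the group is not solvable then commuting non-central elements of coprime prime power orders never have the same
centraliser of the bigger order, and the centralisers of the smaller order are abelian.
-/

set_option autoImplicit false
set_option linter.style.haveILetI false
set_option linter.unusedSectionVars false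

namespace CfsgLib.Frobenius.ThreeSizes

open Subgroup

variable {G : Type*} [Group G] [Finite G] {s b : ℕ}

/-- The hypotheses of the divisible case. -/
structure DivCase (G : Type*) [Group G] (s b : ℕ) : Prop extends Sizes G s b where
  dvd : s ∣ b
  not_solvable : ¬ Group.IsSolvable G

namespace DivCase

theorem s_dvd (h : DivCase G s b) {x : G} (hx : x ∉ center G) : s ∣ Nat.card (C x) := by
  rcases h.sizes x hx with e | e <;> rw [e]
  exact h.dvd

theorem dvd_b (h : DivCase G s b) {x : G} (hx : x ∉ center G) : Nat.card (C x) ∣ b := by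
  rcases h.sizes x hx with e | e <;> rw [e]
  exact h.dvd

theorem s_ne (h : DivCase G s b) : s ≠ 0 := by
  obtain ⟨w, -, e⟩ := h.exists_small
  exact e ▸ Nat.card_pos.ne'

theorem b_ne (h : DivCase G s b) : b ≠ 0 := fun e => Nat.not_lt_zero s (e ▸ h.lt)

/-- No prime with non-central elements divides `|G| / s` to the power `0`. -/
theorem small_lt_card (h : DivCase G s b) {r : ℕ} (hr : r.Prime) (hi : InPi G r) :
    s.factorization r < (Nat.card G).factorization r := by
  by_contra hle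
  push Not at hle
  haveI := Fact.mk hr
  obtain ⟨P⟩ : Nonempty (Sylow r G) := inferInstance
  have hcover : ∀ x : G, ∃ a : G, a⁻¹ * x * a ∈ centralizer ((P : Subgroup G) : Set G) := by
    intro x
    have hcx : (Nat.card G).factorization r ≤ (Nat.card (C x)).factorization r := by
      by_cases hx : x ∈ center G
      · rw [C_eq_top.2 hx, card_top]
      · exact hle.trans ((Nat.factorization_le_iff_dvd h.s_ne Nat.card_pos.ne').2 (h.s_dvd hx) r)
    obtain ⟨Q⟩ : Nonempty (Sylow r (C x)) := inferInstance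
    obtain ⟨P', hP'⟩ := (Q.2.map (C x).subtype).exists_le_sylow
    have heq : (Q : Subgroup (C x)).map (C x).subtype = P' := by
      refine eq_of_le_of_card_ge hP' ?_
      rw [card_map_of_injective (C x).subtype_injective, Q.card_eq_multiplicity, P'.card_eq_multiplicity]
      exact Nat.pow_le_pow_right hr.pos hcx
    obtain ⟨g, hg⟩ := MulAction.exists_smul_eq G P' P
    refine ⟨g⁻¹, mem_centralizer_iff.2 fun c hc => ?_⟩
    rw [← hg, Sylow.coe_subgroup_smul, ← heq] at hc
    obtain ⟨_, ⟨d, -, rfl⟩, rfl⟩ := hc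
    have hcd : Commute (d : G) x := mem_C.1 d.2
    show g * d * g⁻¹ * (g⁻¹⁻¹ * x * g⁻¹) = g⁻¹⁻¹ * x * g⁻¹ * (g * d * g⁻¹)
    rw [inv_inv]
    calc g * d * g⁻¹ * (g * x * g⁻¹) = g * (d * x) * g⁻¹ := by group
      _ = g * (x * d) * g⁻¹ := by rw [hcd.eq]
      _ = _ := by group
  have hP := le_center_of_cover hcover
  obtain ⟨y, hy, hyZ⟩ := hi
  obtain ⟨g, hg⟩ := exists_conj_mem hr P.2 P.not_dvd_index hy
  refine hyZ ?_
  have h' : g⁻¹ * (g * y * g⁻¹) * g⁻¹⁻¹ ∈ center G := Normal.conj_mem inferInstance _ (hP hg) g⁻¹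
  simpa [mul_assoc] using h'

theorem big_gt (h : DivCase G s b) {r : ℕ} (hr : r.Prime) (hi : InPi G r) :
    (Nat.card (center G)).factorization r < b.factorization r := by
  obtain ⟨x, hx, hxZ⟩ := hi
  exact (factorization_lt_of_mem (center_le_C x) hr (self_mem_C x) hx hxZ).trans_le
    ((Nat.factorization_le_iff_dvd Nat.card_pos.ne' h.b_ne).2 (h.dvd_b hxZ) r)

/-- An element for a prime absent from the small centralisers lies in a solvable normal subgroup. -/
theorem inRad_of_small_part (h : DivCase G s b) {r : ℕ} (hr : r.Prime)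
    (hs : s.factorization r ≤ (Nat.card (center G)).factorization r) {x : G} (hx : IsPEl r x)
    (hxZ : x ∉ center G) : InRad x := by
  have hbig : ∀ k : G, k ∉ center G → (∃ y ∈ C k, IsPEl r y ∧ y ∉ center G) → Nat.card (C k) = b := by
    rintro k hkZ ⟨y, hy, hyp, hyZ⟩
    refine (h.sizes k hkZ).resolve_left fun e => ?_
    have := factorization_lt_of_mem (center_le_C k) hr hy hyp hyZ
    rw [e] at this
    exact absurd this (not_lt.2 hs)
  have hCx : ∀ u : G, IsPEl r u → u ∉ center G → Nat.card (C u) = b := fun u hu huZ =>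
    hbig u huZ ⟨u, self_mem_C u, hu, huZ⟩
  have hpair : ∀ (p : ℕ) (u w : G), p.Prime → p ≠ r → IsPEl r u → u ∉ center G → IsPEl p w → w ∉ center G →
      w ∈ C u → C w = C u := by
    intro p u w hp hpr hu huZ hw hwZ hwu
    have hc : Commute u w := (mem_C.1 hwu).symm
    have h1 : C (u * w) = C u ⊓ C w := C_mul hr hp hpr.symm hu hw hc
    have hZ' : u * w ∉ center G := mul_not_center hr hp hpr.symm hu hw hc huZ
    have h2 : Nat.card (C (u * w)) = b := hbig _ hZ' ⟨u, by rw [h1]; exact ⟨self_mem_C u, mem_C.2 hc⟩, hu, huZ⟩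
    have h3 : C (u * w) = C u := eq_of_le_of_card_ge (h1 ▸ inf_le_left) (by rw [h2, hCx u hu huZ])
    exact h.eq_of_le_big (hCx u hu huZ) hwZ (h3 ▸ h1 ▸ inf_le_right)
  have hex : ∀ p : ℕ, p.Prime → InPi G p → ∃ w ∈ C x, IsPEl p w ∧ w ∉ center G := fun p hp hi =>
    exists_pel_of_lt hp (by rw [hCx x hx hxZ]; exact h.big_gt hp hi)
  by_cases hq : ∃ q, q.Prime ∧ q ≠ r ∧ InPi G q
  swap
  · push Not at hq
    exact absurd (solvable_of_inRad hr hr fun p y hp hpr _ hy hyZ => absurd ⟨y, hy, hyZ⟩ (hq p hp hpr))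
      h.not_solvable
  obtain ⟨q, hq, hqr, hqi⟩ := hq
  obtain ⟨w, hwC, hw, hwZ⟩ := hex q hq hqi
  have hK : IsComp (C x) := by
    refine isComp_mk (center_le_C x) ⟨x, self_mem_C x, hxZ⟩ (fun p u hp hu hup huZ => ?_) fun k hkZ _ => ?_
    · by_cases hpr : p = r
      · subst hpr
        have h1 : u ∈ C w := by rw [hpair q x w hq hqr hx hxZ hw hwZ hwC]; exact hu
        rw [← hpair q u w hq hqr hup huZ hw hwZ (mem_C.2 (mem_C.1 h1).symm),
          hpair q x w hq hqr hx hxZ hw hwZ hwC]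
      · exact hpair p x u hp hpr hx hxZ hup huZ hu
    · rw [hCx x hx hxZ]; exact h.card_le hkZ
  exact hK.inRad (fun p hp hi _ => hex p hp hi) (self_mem_C x) hxZ

/-- Three primes divide the non-central part of the small centraliser order. -/
theorem three (h : DivCase G s b) {p q : ℕ} (hp : p.Prime) (hq : q.Prime) :
    ∃ r, r.Prime ∧ InPi G r ∧ r ≠ p ∧ r ≠ q ∧
      (Nat.card (center G)).factorization r < s.factorization r := by
  by_contra hcon
  push Not at hcon
  exact h.not_solvable (solvable_of_inRad hp hq fun r x hr h1 h2 hx hxZ =>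
    h.inRad_of_small_part hr (hcon r hr ⟨x, hx, hxZ⟩ h1 h2) hx hxZ)

/-- No two commuting elements of coprime prime power orders have the same big centraliser. -/
theorem no_twins (h : DivCase G s b) {q p : ℕ} (hq : q.Prime) (hp : p.Prime) (hqp : q ≠ p) {a c : G}
    (ha : IsPEl q a) (hc : IsPEl p c) (haZ : a ∉ center G) (hcZ : c ∉ center G) (hac : C a = C c)
    (hbig : Nat.card (C a) = b) : False := by
  set B := C a with hBdef
  have hBne : B ≠ ⊤ := fun e => haZ (C_eq_top.1 e)
  have haB : a ∈ B := self_mem_C a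
  have hcB : c ∈ B := hac ▸ self_mem_C c
  by_cases hab : ∀ u ∈ B, ∀ v ∈ B, Commute u v
  · -- the centraliser is abelian
    have hK : IsComp B := ⟨hab, fun k hk hkZ => h.eq_of_le_big hbig hkZ fun u hu => mem_C.2 (hab u hu k hk),
      a, haB, haZ⟩
    have hpart : ∀ r : ℕ, r.Prime → InPi G r → HasPart B r := fun r hr hi =>
      exists_pel_of_lt hr (by rw [hbig]; exact h.big_gt hr hi)
    obtain ⟨r₁, hr₁, hi₁, -, -, hs₁⟩ := h.three hq hq
    obtain ⟨r₂, hr₂, hi₂, h21, -, hs₂⟩ := h.three hr₁ hr₁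
    obtain ⟨r, hr, hi, hs, hfull⟩ : ∃ r, r.Prime ∧ InPi G r ∧
        (Nat.card (center G)).factorization r < s.factorization r ∧ ¬ r ∣ B.index := by
      by_cases h1 : r₁ ∣ B.index
      · exact ⟨r₂, hr₂, hi₂, hs₂, fun h2 =>
          hK.unique hr₁ hr₂ h21.symm (hpart r₁ hr₁ hi₁) (hpart r₂ hr₂ hi₂) h1 h2⟩
      · exact ⟨r₁, hr₁, hi₁, hs₁, h1⟩
    obtain ⟨w, hwZ, hws⟩ := h.exists_small
    obtain ⟨v, hvC, hv, hvZ⟩ := exists_pel_of_lt (H := C w) hr (hws ▸ hs)
    obtain ⟨g, hg⟩ := exists_conj_mem hr (isPGroup_pPart hr (hK.centIn r)) (fun hd => by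
      rw [← relIndex_top_right, ← relIndex_mul_relIndex _ B ⊤ (pPart_le r B) le_top, relIndex_top_right] at hd
      exact ((hr.dvd_mul).1 hd).elim (not_dvd_relIndex_pPart hr) hfull) hv
    have hgv : g * v * g⁻¹ ∉ center G := fun h' => hvZ (by
      have h'' : g⁻¹ * (g * v * g⁻¹) * g⁻¹⁻¹ ∈ center G := Normal.conj_mem inferInstance _ h' g⁻¹
      simpa [mul_assoc] using h'')
    have hgw : g * w * g⁻¹ ∈ B := by
      rw [← hK.C_eq _ (pPart_le r B hg) hgv, mem_C]
      have : Commute w v := (mem_C.1 hvC).symm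
      exact this.map (MulAut.conj g).toMonoidHom
    have hgwZ : g * w * g⁻¹ ∉ center G := fun h' => hwZ (by
      have h'' : g⁻¹ * (g * w * g⁻¹) * g⁻¹⁻¹ ∈ center G := Normal.conj_mem inferInstance _ h' g⁻¹
      simpa [mul_assoc] using h'')
    have := card_C_conj g w
    rw [hK.C_eq _ hgw hgwZ, hbig, hws] at this
    exact h.lt.ne' this
  · -- the centraliser is not abelian
    have hinf : ∀ (e : ℕ) (u : G), e.Prime → u ∈ B → IsPEl e u → ¬ B ≤ C u →
        Nat.card (B ⊓ C u : Subgroup G) = s := by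
      intro e u he huB hu hnc
      obtain ⟨d, hd, hde, hdp, hdZ, hdB⟩ : ∃ (d : ℕ) (x : G), e ≠ d ∧ IsPEl d x ∧ x ∉ center G ∧
          C x = B ∧ d.Prime := by
        by_cases heq : e = q
        · exact ⟨p, c, heq ▸ hqp, hc, hcZ, hac.symm, hp⟩
        · exact ⟨q, a, heq, ha, haZ, rfl, hq⟩
      have hcu : Commute hd u := (mem_C.1 (show u ∈ C hd by rw [hdB.1]; exact huB)).symm
      have h1 : C (hd * u) = B ⊓ C u := by rw [C_mul hdB.2 he hde.symm hdp hu hcu, hdB.1]
      have hZ : hd * u ∉ center G := mul_not_center hdB.2 he hde.symm hdp hu hcu hdZ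
      rw [← h1]
      refine (h.sizes _ hZ).resolve_right fun e' => hnc ?_
      rw [h1] at e'
      rw [← eq_of_le_of_card_ge (inf_le_left : B ⊓ C u ≤ B) (hbig.trans_le e'.ge)]
      exact inf_le_right
    have hhelp : ∀ (e f d : ℕ) (u v x : G), e.Prime → f.Prime → d.Prime → e ≠ f → d ≠ e → d ≠ f →
        u ∈ B → v ∈ B → IsPEl e u → IsPEl f v → IsPEl d x → C x = B → ¬ B ≤ C u → ¬ B ≤ C v → Commute u v →
        B ⊓ C u = B ⊓ C v := by
      intro e f d u v x he hf hd hef hde hdf huB hvB hu hv hx hxB hnu hnv huv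
      have hxu : Commute x u := (mem_C.1 (show u ∈ C x by rw [hxB]; exact huB)).symm
      have hxv : Commute x v := (mem_C.1 (show v ∈ C x by rw [hxB]; exact hvB)).symm
      have hcop : (orderOf x).Coprime (orderOf (u * v)) := Nat.Coprime.coprime_dvd_right
        huv.orderOf_mul_dvd_mul_orderOf (Nat.Coprime.mul_right (hx.coprime hd he hde hu) (hx.coprime hd hf hdf hv))
      have h1 : C (x * (u * v)) = B ⊓ C u ⊓ C v := by
        rw [C_mul_of_coprime (hxu.mul_right hxv) hcop, C_mul he hf hef hu hv huv, hxB, inf_assoc]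
      have hZ : x * (u * v) ∉ center G := fun h' => hBne (by
        rw [← C_eq_top, h1] at h'
        exact (inf_eq_top_iff.1 (inf_eq_top_iff.1 h').1).1)
      have h2 := h.small_le hZ
      rw [h1] at h2
      have e1 := eq_of_le_of_card_ge (inf_le_left : B ⊓ C u ⊓ C v ≤ B ⊓ C u)
        (by rw [hinf e u he huB hu hnu]; exact h2)
      have e2 := eq_of_le_of_card_ge (le_inf ((inf_le_left : B ⊓ C u ⊓ C v ≤ _).trans inf_le_left) inf_le_right :
          B ⊓ C u ⊓ C v ≤ B ⊓ C v) (by rw [hinf f v hf hvB hv hnv]; exact h2)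
      exact e1.symm.trans e2
    have hanypair : ∀ (e f : ℕ) (u v : G), e.Prime → f.Prime → e ≠ f →
        u ∈ B → v ∈ B → IsPEl e u → IsPEl f v → ¬ B ≤ C u → ¬ B ≤ C v → Commute u v →
        B ⊓ C u = B ⊓ C v := by
      intro e f u v he hf hef huB hvB hu hv hnu hnv huv
      by_cases hq' : q ≠ e ∧ q ≠ f
      · exact hhelp e f q u v a he hf hq hef hq'.1 hq'.2 huB hvB hu hv ha rfl hnu hnv huv
      by_cases hp' : p ≠ e ∧ p ≠ f
      · exact hhelp e f p u v c he hf hp hef hp'.1 hp'.2 huB hvB hu hv hc hac.symm hnu hnv huv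
      have hef' : (e = q ∧ f = p) ∨ (e = p ∧ f = q) := by
        by_cases h1 : q = e
        · exact Or.inl ⟨h1.symm, by
            by_contra h2
            exact hp' ⟨fun h3 => hqp (h1.trans h3.symm), fun h3 => h2 h3.symm⟩⟩
        · refine Or.inr ⟨?_, ?_⟩
          · by_contra h2
            have hqf : q = f := by_contra fun h3 => hq' ⟨h1, h3⟩
            exact hp' ⟨fun h3 => h2 h3.symm, fun h3 => hqp (hqf.trans h3.symm)⟩
          · exact (by_contra fun h3 => hq' ⟨h1, fun h4 => h3 h4.symm⟩)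
      obtain ⟨r, hr, -, hrq, hrp, hs⟩ := h.three hq hp
      have hre : r ≠ e := by rcases hef' with ⟨h1, -⟩ | ⟨h1, -⟩ <;> rw [h1] <;> assumption
      have hrf : r ≠ f := by rcases hef' with ⟨-, h1⟩ | ⟨-, h1⟩ <;> rw [h1] <;> assumption
      obtain ⟨w, hw, hwp, hwZ⟩ := exists_pel_of_lt (H := B ⊓ C u) hr (by rw [hinf e u he huB hu hnu]; exact hs)
      by_cases hnw : B ≤ C w
      · exact hhelp e f r u v w he hf hr hef hre hrf huB hvB hu hv hwp (h.eq_of_le_big hbig hwZ hnw) hnu hnv huv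
      have hwu : Commute u w := (mem_C.1 hw.2).symm
      have h1 : B ⊓ C u = B ⊓ C w := by
        rcases hef' with ⟨h1, -⟩ | ⟨h1, -⟩
        · exact hhelp e r p u w c he hr hp hre.symm (h1 ▸ hqp.symm) hrp.symm huB hw.1 hu hwp hc hac.symm hnu hnw hwu
        · exact hhelp e r q u w a he hr hq hre.symm (h1 ▸ hqp) hrq.symm huB hw.1 hu hwp ha rfl hnu hnw hwu
      have hvw : Commute w v := by
        have : v ∈ B ⊓ C w := h1 ▸ ⟨hvB, mem_C.2 huv.symm⟩
        exact (mem_C.1 this.2).symm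
      refine h1.trans ?_
      rcases hef' with ⟨-, h2⟩ | ⟨-, h2⟩
      · exact hhelp r f q w v a hr hf hq hrf hrq.symm (h2 ▸ hqp) hw.1 hvB hwp hv ha rfl hnw hnv hvw
      · exact hhelp r f p w v c hr hf hp hrf hrp.symm (h2 ▸ hqp.symm) hw.1 hvB hwp hv hc hac.symm hnw hnv hvw
    have hgen : ∀ u ∈ B, ¬ B ≤ C u → Nat.card (B ⊓ C u : Subgroup G) = s := by
      intro u huB hnu
      obtain ⟨e, y, he, hy, hye, hny⟩ : ∃ (e : ℕ) (y : G), e.Prime ∧ y ∈ zpowers u ∧ IsPEl e y ∧ ¬ B ≤ C y := by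
        by_contra hcon
        push Not at hcon
        refine hnu fun x hx => mem_C.2 (mem_C.1 (mem_of_parts (C x) fun e y he hy hye => ?_)).symm
        exact mem_C.2 (mem_C.1 (hcon e y he hy hye hx)).symm
      obtain ⟨u₁, v₁, hu₁, -, hu₁u, -, -, hall⟩ := exists_decomp' u he
      have hn₁ : ¬ B ≤ C u₁ := fun h' => hny (h'.trans (C_le_zpowers (hall y hy hye)))
      have huB₁ : u₁ ∈ B := zpowers_le.2 huB hu₁u
      have key : B ⊓ C u = B ⊓ C u₁ := by
        refine le_antisymm (inf_le_inf_left _ (C_le_zpowers hu₁u)) fun x hx => ⟨hx.1, ?_⟩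
        refine mem_C.2 (mem_C.1 (mem_of_parts (C x) fun f z hf hz hzf => ?_)).symm
        refine mem_C.2 (mem_C.1 ?_).symm
        by_cases hnz : B ≤ C z
        · exact hnz hx.1
        by_cases hfe : f = e
        · subst hfe
          exact C_le_zpowers (hall z hz hzf) hx.2
        · have hcm : Commute u₁ z := by
            obtain ⟨i, rfl⟩ := mem_zpowers_iff.1 hu₁u
            obtain ⟨j, rfl⟩ := mem_zpowers_iff.1 hz
            exact (Commute.refl u).zpow_zpow i j
          have := hanypair e f u₁ z he hf (Ne.symm hfe) huB₁ (zpowers_le.2 huB hz) hu₁ hzf hn₁ hnz hcm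
          exact (this ▸ hx).2
      rw [key]
      exact hinf e u₁ he huB₁ hu₁ hn₁
    have hsz : s ≠ 0 := h.s_ne
    obtain ⟨n, hn⟩ := h.dvd
    have hn1 : 1 < n := by
      rcases Nat.lt_or_ge 1 n with h1 | h1
      · exact h1
      · exact absurd h.lt (not_lt.2 (hn ▸ (Nat.mul_le_mul_left s h1).trans (mul_one s).le))
    have hC' : ∀ u : B, C u = (B ⊓ C (u : G)).subgroupOf B := fun u => by
      ext x
      rw [mem_subgroupOf, mem_inf]
      exact ⟨fun h' => ⟨x.2, mem_C.2 (congrArg Subtype.val (mem_C.1 h'))⟩,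
        fun h' => mem_C.2 (Subtype.ext (mem_C.1 h'.2))⟩
    have hidx : ∀ u : B, ¬ B ≤ C (u : G) → (C u).index = n := by
      intro u hnu
      refine Nat.eq_of_mul_eq_mul_left (Nat.pos_of_ne_zero hsz) ?_
      conv_lhs => rw [← hgen u u.2 hnu, ← Nat.card_congr (Subgroup.subgroupOfEquivOfLe
        (inf_le_left : B ⊓ C (u : G) ≤ B)).toEquiv, ← hC', card_mul_index, hbig]
      exact hn
    obtain ⟨l, hlf, k, hnk, hl⟩ := Cfsg.Agent.S4134.result (G := B) n hn1
      (fun u => by
        by_cases hnu : B ≤ C (u : G)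
        · refine Or.inl ?_
          show (C u).index = 1
          rw [hC', inf_eq_left.2 hnu, subgroupOf_self, index_top]
        · exact Or.inr (hidx u hnu))
      (by
        push Not at hab
        obtain ⟨u, hu, v, hv, huv⟩ := hab
        exact ⟨⟨u, hu⟩, hidx ⟨u, hu⟩ fun h' => huv (mem_C.1 (h' hv)).symm⟩)
    haveI := hlf
    have hlp : l.Prime := hlf.out
    obtain ⟨P⟩ : Nonempty (Sylow l B) := inferInstance
    obtain ⟨-, ⟨N, hN, hNP, hNc, hNPc⟩, -⟩ := hl P
    haveI := hN
    have hcent : ∀ r : ℕ, r.Prime → r ≠ l → CentIn r B := by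
      intro r hr hrl x hxB hx y hyB
      have hxN : (⟨x, hxB⟩ : B) ∈ N := by
        refine (QuotientGroup.eq_one_iff _).1 (orderOf_eq_one_iff.1 ?_)
        obtain ⟨j, hj⟩ := hx
        obtain ⟨i, hi⟩ := P.2.exists_card_eq
        refine Nat.eq_one_of_dvd_coprimes (Nat.Coprime.pow j i ((Nat.coprime_primes hr hlp).2 hrl))
          ((orderOf_map_dvd (QuotientGroup.mk' N) _).trans (dvd_of_eq (by rw [Subgroup.orderOf_mk]; exact hj)))
          ((_root_.orderOf_dvd_natCard _).trans (dvd_of_eq ?_))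
        rw [← index_eq_card, hNP.symm.index_eq_card, hi]
      have hall : (⊤ : Subgroup B) ≤ centralizer {(⟨x, hxB⟩ : B)} := by
        rw [← hNP.sup_eq_top, sup_le_iff]
        refine ⟨fun z hz => mem_C.2 ?_, fun z hz => mem_C.2 (hNPc _ hxN z hz).symm⟩
        exact congrArg Subtype.val (hNc.is_comm.comm ⟨z, hz⟩ ⟨_, hxN⟩)
      exact (congrArg Subtype.val (mem_C.1 (hall (mem_top ⟨y, hyB⟩)))).symm
    obtain ⟨r, hr, hri, hrl, -, hrs⟩ := h.three hlp hlp
    obtain ⟨t, ht, hti, htl, htr, hts⟩ := h.three hlp hr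
    have hd : ∀ e : ℕ, e.Prime → InPi G e → e ≠ l → e ∣ B.relIndex ⊤ := by
      intro e he hie hel
      refine dvd_relIndex_of_lt le_top ?_
      rw [hbig, card_top, hn, hnk, Nat.factorization_mul hsz (pow_pos hlp.pos k).ne', Finsupp.add_apply,
        hlp.factorization_pow, Finsupp.single_eq_of_ne hel, add_zero]
      exact h.small_lt_card he hie
    refine false_in hr ht htr.symm le_top (hcent r hr hrl) (hcent t ht htl)
      (exists_pel_of_lt hr (by rw [hbig]; exact h.big_gt hr hri))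
      (exists_pel_of_lt ht (by rw [hbig]; exact h.big_gt ht hti)) ?_ (hd r hr hri hrl) (hd t ht hti htl)
    intro k hkB hk hkZ
    rw [top_inf_eq]
    refine h.eq_of_le_big hbig hkZ fun x hx => mem_C.2 ?_
    rcases hk with hk | hk
    · exact (hcent r hr hrl k hkB hk x hx).symm
    · exact (hcent t ht htl k hkB hk x hx).symm

/-- Every prime with non-central elements divides the non-central part of the small centraliser order. -/
theorem small_gt (h : DivCase G s b) {r : ℕ} (hr : r.Prime) (hi : InPi G r) :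
    (Nat.card (center G)).factorization r < s.factorization r := by
  by_contra hle
  obtain ⟨x, hx, hxZ⟩ := hi
  obtain ⟨q, hq, hqi, hqr, -, -⟩ := h.three hr hr
  have hxb : Nat.card (C x) = b := (h.sizes x hxZ).resolve_left fun e =>
    hle (e ▸ factorization_lt_of_mem (center_le_C x) hr (self_mem_C x) hx hxZ)
  obtain ⟨w, hwC, hw, hwZ⟩ := exists_pel_of_lt (H := C x) hq (by rw [hxb]; exact h.big_gt hq hqi)
  have hc : Commute x w := (mem_C.1 hwC).symm
  have h1 : C (x * w) = C x ⊓ C w := C_mul hr hq hqr.symm hx hw hc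
  have h2 : Nat.card (C (x * w)) = b :=
    (h.sizes _ (mul_not_center hr hq hqr.symm hx hw hc hxZ)).resolve_left fun e =>
      hle (e ▸ factorization_lt_of_mem (center_le_C _) hr (by rw [h1]; exact ⟨self_mem_C x, mem_C.2 hc⟩) hx hxZ)
  have h3 : C (x * w) = C x := eq_of_le_of_card_ge (h1 ▸ inf_le_left) (by rw [h2, hxb])
  exact h.no_twins hr hq hqr.symm hx hw hxZ hwZ
    (h.eq_of_le_big hxb hwZ (h3 ▸ h1 ▸ inf_le_right)).symm hxb

theorem pair_small (h : DivCase G s b) {p q : ℕ} (hp : p.Prime) (hq : q.Prime) (hne : p ≠ q) {y z : G}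
    (hy : IsPEl p y) (hz : IsPEl q z) (hyZ : y ∉ center G) (hzZ : z ∉ center G) (hc : Commute y z) :
    Nat.card (C (y * z)) = s := by
  refine (h.sizes _ (mul_not_center hp hq hne hy hz hc hyZ)).resolve_right fun e => ?_
  have h1 : C (y * z) = C y ⊓ C z := C_mul hp hq hne hy hz hc
  have h2 : C (y * z) = C y := eq_of_le_of_card_ge (h1 ▸ inf_le_left) (by rw [e]; exact h.card_le hyZ)
  exact h.no_twins hp hq hne hy hz hyZ hzZ (h.eq_of_le_big (h2 ▸ e) hzZ (h2 ▸ h1 ▸ inf_le_right)).symm (h2 ▸ e)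

end DivCase

/-- The properties of the small centralisers. -/
structure SmallCent (W : Subgroup G) (s : ℕ) : Prop where
  center_le : center G ≤ W
  comm : ∀ a ∈ W, ∀ b ∈ W, Commute a b
  card : Nat.card W = s
  pair : ∀ (p q : ℕ) (y z : G), p.Prime → q.Prime → p ≠ q → IsPEl p y → IsPEl q z → y ∉ center G →
    z ∉ center G → y ∈ W → z ∈ W → C (y * z) = W

namespace DivCase

theorem smallCent (h : DivCase G s b) {w : G} (hwZ : w ∉ center G) (hws : Nat.card (C w) = s) :
    SmallCent (C w) s := by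
  obtain ⟨p, q, y, z, hp, hq, hpq, hy, hz, hyZ, hzZ, hyW, hzW, hyzW⟩ :
      ∃ (p q : ℕ) (y z : G), p.Prime ∧ q.Prime ∧ p ≠ q ∧ IsPEl p y ∧ IsPEl q z ∧ y ∉ center G ∧ z ∉ center G ∧
        y ∈ C w ∧ z ∈ C w ∧ C (y * z) = C w := by
    rcases exists_parts hwZ with ⟨p, y, hp, hy, hyZ, hyw, hCy⟩ |
      ⟨p, q, y, z, hp, hq, hpq, hy, hz, hyZ, hzZ, hyw, hzw⟩
    · obtain ⟨q, hq, hqi, hqp, -, -⟩ := h.three hp hp
      obtain ⟨z, hzW, hz, hzZ⟩ := exists_pel_of_lt (H := C w) hq (hws ▸ h.small_gt hq hqi)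
      have hyW : y ∈ C w := zpowers_le.2 (self_mem_C w) hyw
      have hc : Commute y z := (mem_C.1 (show z ∈ C y by rw [← hCy]; exact hzW)).symm
      refine ⟨p, q, y, z, hp, hq, hqp.symm, hy, hz, hyZ, hzZ, hyW, hzW, ?_⟩
      refine h.eq_of_small hws (mul_not_center hp hq hqp.symm hy hz hc hyZ) ?_
      rw [C_mul hp hq hqp.symm hy hz hc, ← hCy]
      exact inf_le_left
    · have hc : Commute y z := by
        obtain ⟨i, rfl⟩ := mem_zpowers_iff.1 hyw
        obtain ⟨j, rfl⟩ := mem_zpowers_iff.1 hzw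
        exact (Commute.refl w).zpow_zpow i j
      refine ⟨p, q, y, z, hp, hq, hpq, hy, hz, hyZ, hzZ, zpowers_le.2 (self_mem_C w) hyw,
        zpowers_le.2 (self_mem_C w) hzw, ?_⟩
      refine (eq_of_le_of_card_ge ?_ (by rw [h.pair_small hp hq hpq hy hz hyZ hzZ hc, hws])).symm
      rw [C_mul hp hq hpq hy hz hc]
      exact le_inf (C_le_zpowers hyw) (C_le_zpowers hzw)
  set W := C w
  have base : ∀ (p q : ℕ) (y z : G), p.Prime → q.Prime → p ≠ q → IsPEl p y → IsPEl q z → y ∉ center G →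
      y ∈ W → z ∈ W → C (y * z) = W → ∀ (e : ℕ) (u : G), e.Prime → e ≠ p → e ≠ q → IsPEl e u → u ∈ W →
      u ∉ center G → W ≤ C u := by
    intro p q y z hp hq hpq hy hz hyZ hyW hzW hyz e u he hep heq hu huW huZ
    have hcyz : Commute y z := by
      have h1 : z ∈ C (y * z) := hyz.symm ▸ hzW
      have h2 := (mem_C.1 h1).mul_right ((Commute.refl z).inv_right)
      exact (by simpa using h2 : Commute z y).symm
    have hu' : u ∈ C y ⊓ C z := by rw [← C_mul hp hq hpq hy hz hcyz, hyz]; exact huW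
    have hcu : Commute (y * z) u := ((mem_C.1 hu'.1).mul_right (mem_C.1 hu'.2)).symm
    have hcop : (orderOf (y * z)).Coprime (orderOf u) := Nat.Coprime.coprime_dvd_left
      hcyz.orderOf_mul_dvd_mul_orderOf (Nat.Coprime.mul_left (hy.coprime hp he hep.symm hu) (hz.coprime hq he heq.symm hu))
    have h1 : C (y * z * u) = W ⊓ C u := by rw [C_mul_of_coprime hcu hcop, hyz]
    have h2 : y * z * u ∉ center G := fun h' => huZ (by
      rw [← C_eq_top, h1] at h'
      exact C_eq_top.1 (inf_eq_top_iff.1 h').2)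
    have h3 := h.eq_of_small hws h2 (h1 ▸ inf_le_left)
    exact h3 ▸ h1 ▸ inf_le_right
  obtain ⟨r, hr, hri, hrp, hrq, -⟩ := h.three hp hq
  obtain ⟨v, hvW, hv, hvZ⟩ := exists_pel_of_lt (H := W) hr (hws ▸ h.small_gt hr hri)
  have hv1 := base p q y z hp hq hpq hy hz hyZ hyW hzW hyzW r v hr hrp hrq hv hvW hvZ
  have hpairW : ∀ (e : ℕ) (x : G), e.Prime → e ≠ r → IsPEl e x → x ∈ W → x ∉ center G →
      C (v * x) ≤ C v ∧ Nat.card (C (v * x)) = s := by
    intro e x he her hx hxW hxZ
    have hcm : Commute v x := (mem_C.1 (hv1 hxW)).symm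
    exact ⟨(C_mul hr he her.symm hv hx hcm).trans_le inf_le_left, h.pair_small hr he her.symm hv hx hvZ hxZ hcm⟩
  have hvy : C (v * y) = W := by
    refine (eq_of_le_of_card_ge ?_ (by rw [(hpairW p y hp hrp.symm hy hyW hyZ).2, hws])).symm
    rw [C_mul hr hp hrp hv hy (mem_C.1 (hv1 hyW)).symm]
    refine le_inf hv1 fun x hx => ?_
    rw [← hyzW] at hx
    have hc : Commute y z := by
      have h1 : z ∈ C (y * z) := hyzW.symm ▸ hzW
      have h2 := (mem_C.1 h1).mul_right ((Commute.refl z).inv_right)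
      exact (by simpa using h2 : Commute z y).symm
    rw [C_mul hp hq hpq hy hz hc] at hx
    exact hx.1
  have hvz : C (v * z) = W := by
    refine (eq_of_le_of_card_ge ?_ (by rw [(hpairW q z hq hrq.symm hz hzW hzZ).2, hws])).symm
    rw [C_mul hr hq hrq hv hz (mem_C.1 (hv1 hzW)).symm]
    refine le_inf hv1 fun x hx => ?_
    rw [← hyzW] at hx
    have hc : Commute y z := by
      have h1 : z ∈ C (y * z) := hyzW.symm ▸ hzW
      have h2 := (mem_C.1 h1).mul_right ((Commute.refl z).inv_right)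
      exact (by simpa using h2 : Commute z y).symm
    rw [C_mul hp hq hpq hy hz hc] at hx
    exact hx.2
  have hcent : ∀ (e : ℕ) (u : G), e.Prime → IsPEl e u → u ∈ W → W ≤ C u := by
    intro e u he hu huW
    by_cases huZ : u ∈ center G
    · rw [C_eq_top.2 huZ]; exact le_top
    by_cases hep : e = p
    · exact base r q v z hr hq hrq hv hz hvZ hvW hzW hvz e u he (hep ▸ hrp.symm) (hep ▸ hpq) hu huW huZ
    by_cases heq : e = q
    · exact base r p v y hr hp hrp hv hy hvZ hvW hyW hvy e u he (heq ▸ hrq.symm) hep hu huW huZ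
    exact base p q y z hp hq hpq hy hz hyZ hyW hzW hyzW e u he hep heq hu huW huZ
  have hcomm : ∀ a ∈ W, ∀ b ∈ W, Commute a b := fun a ha c hc =>
    mem_C.1 (mem_of_parts (C c) fun e u he hu hue =>
      mem_C.2 (mem_C.1 (hcent e u he hue (zpowers_le.2 ha hu) hc)).symm)
  refine ⟨center_le_C w, hcomm, hws, fun p' q' y' z' hp' hq' hne hy' hz' hy'Z hz'Z hy'W hz'W => ?_⟩
  refine (eq_of_le_of_card_ge (fun x hx => mem_C.2 ((hcomm x hx y' hy'W).mul_right (hcomm x hx z' hz'W))) ?_).symm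
  rw [h.pair_small hp' hq' hne hy' hz' hy'Z hz'Z (hcomm y' hy'W z' hz'W), hws]

end DivCase

end CfsgLib.Frobenius.ThreeSizes
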