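import Cfsg.Agent.Lib.Frobenius.ThreeSizes.Div

/-!
# Two centraliser orders, one dividing the other: conclusion

The abelian small centralisers and the primes at which the two orders differ give a contradiction in a group
which is not solvable.
-/

set_option autoImplicit false
set_option linter.style.haveILetI false
set_option linter.unusedSectionVars false

namespace CfsgLib.Frobenius.ThreeSizes

open Subgroup

variable {G : Type*} [Group G] [Finite G] {s b : ℕ}

/-- The prime distinguishes the two orders. -/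
def BigPrime (s b r : ℕ) : Prop := s.factorization r < b.factorization r

namespace SmallCent

variable {W : Subgroup G}

theorem centIn (hW : SmallCent W s) (r : ℕ) : CentIn r W := centIn_of_comm hW.comm r

theorem inf_eq (hW : SmallCent W s) {p q : ℕ} (hp : p.Prime) (hq : q.Prime) (hne : p ≠ q) {y k : G}
    (hy : IsPEl p y) (hk : IsPEl q k) (hyZ : y ∉ center G) (hkZ : k ∉ center G) (hyW : y ∈ W) (hkW : k ∈ W) :
    C y ⊓ C k = W := by
  rw [← C_mul hp hq hne hy hk (hW.comm y hyW k hkW)]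
  exact hW.pair p q y k hp hq hne hy hk hyZ hkZ hyW hkW

theorem mem_of_commute (hW : SmallCent W s) {p q : ℕ} (hp : p.Prime) (hq : q.Prime) (hne : p ≠ q) {y k x : G}
    (hy : IsPEl p y) (hk : IsPEl q k) (hyZ : y ∉ center G) (hkZ : k ∉ center G) (hyW : y ∈ W) (hkW : k ∈ W)
    (h1 : Commute x y) (h2 : Commute x k) : x ∈ W := by
  rw [← hW.inf_eq hp hq hne hy hk hyZ hkZ hyW hkW]
  exact ⟨mem_C.2 h1, mem_C.2 h2⟩

theorem C_eq (hW : SmallCent W s) {k : G} (hk : k ∈ W) (hc : Nat.card (C k) = s) : C k = W :=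
  (eq_of_le_of_card_ge (fun x hx => mem_C.2 (hW.comm x hx k hk)) (by rw [hc, hW.card])).symm

end SmallCent

namespace DivCase

variable {W : Subgroup G}

theorem exists_pel (h : DivCase G s b) (hW : SmallCent W s) {r : ℕ} (hr : r.Prime) (hi : InPi G r) :
    ∃ x ∈ W, IsPEl r x ∧ x ∉ center G := exists_pel_of_lt hr (hW.card ▸ h.small_gt hr hi)

theorem dvd_index (h : DivCase G s b) (hW : SmallCent W s) {r : ℕ} (hr : r.Prime) (hi : InPi G r) :
    r ∣ W.relIndex ⊤ := dvd_relIndex_of_lt le_top (by rw [hW.card, card_top]; exact h.small_lt_card hr hi)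

theorem dvd_index_pPart (h : DivCase G s b) (hW : SmallCent W s) {r : ℕ} (hr : r.Prime) (hi : InPi G r) :
    r ∣ (pPart r W).index := by
  rw [← relIndex_top_right, ← relIndex_mul_relIndex _ W ⊤ (pPart_le r W) le_top]
  exact (h.dvd_index hW hr hi).trans (dvd_mul_left _ _)

theorem full (h : DivCase G s b) (hW : SmallCent W s) {t : ℕ} (ht : t.Prime) {k : G} (hk : k ∈ W)
    (hkZ : k ∉ center G) (hT : ¬ BigPrime s b t ∨ Nat.card (C k) = s) : Full t (pPart t W) k := by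
  have hle : W ≤ C k := fun x hx => mem_C.2 (hW.comm x hx k hk)
  refine ⟨(pPart_le t W).trans hle, not_dvd_relIndex_of_eq (pPart_le t W) ((pPart_le t W).trans hle) ht
    (not_dvd_relIndex_pPart ht) ?_⟩
  rw [hW.card]
  rcases h.sizes k hkZ with e | e
  · rw [e]
  · rw [e]
    rcases hT with hT | hT
    · exact le_antisymm (not_lt.1 hT) ((Nat.factorization_le_iff_dvd h.s_ne h.b_ne).2 h.dvd t)
    · exact absurd (e.symm.trans hT) h.lt.ne'

theorem mem_of_full (hW : SmallCent W s) {t : ℕ} (ht : t.Prime) {k x : G} (hk : Full t (pPart t W) k)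
    (hx : IsPEl t x) (hxN : x ∈ normalizer (W : Set G)) (hc : Commute x k) : x ∈ W :=
  pPart_le t W (hk.mem ht (isPGroup_pPart ht (hW.centIn t)) hx (mem_normalizer_pPart hxN) hc)

theorem inPi_of_big (h : DivCase G s b) {r : ℕ} (hr : r.Prime) (hb : BigPrime s b r) : InPi G r := by
  obtain ⟨w, hwZ, hwb⟩ := h.exists_big
  obtain ⟨v, hvZ, hvs⟩ := h.exists_small
  have h1 : (Nat.card (center G)).factorization r ≤ s.factorization r :=
    hvs ▸ factorization_le_center (center_le_C v) r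
  obtain ⟨x, -, hx, hxZ⟩ := exists_pel_of_lt (H := C w) hr (hwb ▸ lt_of_le_of_lt h1 hb)
  exact ⟨x, hx, hxZ⟩

theorem exists_cent (h : DivCase G s b) {r t : ℕ} (hr : r.Prime) (ht : t.Prime) (hne : r ≠ t)
    (hti : InPi G t) {y : G} (hy : IsPEl r y) (hyZ : y ∉ center G) (hyb : Nat.card (C y) = b) :
    ∃ W : Subgroup G, SmallCent W s ∧ y ∈ W ∧ W ≤ C y := by
  obtain ⟨z, hzC, hz, hzZ⟩ := exists_pel_of_lt (H := C y) ht (by rw [hyb]; exact h.big_gt ht hti)
  have hc : Commute y z := (mem_C.1 hzC).symm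
  have h1 : C (y * z) = C y ⊓ C z := C_mul hr ht hne hy hz hc
  refine ⟨C (y * z), h.smallCent (mul_not_center hr ht hne hy hz hc hyZ)
    (h.pair_small hr ht hne hy hz hyZ hzZ hc), ?_, h1 ▸ inf_le_left⟩
  rw [h1]
  exact ⟨self_mem_C y, mem_C.2 hc⟩

theorem sigma_sub (h : DivCase G s b) {q r t : ℕ} (hq : q.Prime) (hr : r.Prime) (ht : t.Prime)
    {y : G} (hy : IsPEl q y) (hyZ : y ∉ center G) (hyb : Nat.card (C y) = b) (hrq : r ≠ q) (htq : t ≠ q)
    (hrt : r ≠ t) (hbr : BigPrime s b r) (hbt : BigPrime s b t) : False := by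
  have hri := h.inPi_of_big hr hbr
  have hti := h.inPi_of_big ht hbt
  obtain ⟨W, hW, hyW, hWH⟩ := h.exists_cent hq hr hrq.symm hri hy hyZ hyb
  refine false_in hr ht hrt hWH (hW.centIn r) (hW.centIn t) (h.exists_pel hW hr hri) (h.exists_pel hW ht hti)
    ?_ (dvd_relIndex_of_lt hWH (by rw [hW.card, hyb]; exact hbr))
    (dvd_relIndex_of_lt hWH (by rw [hW.card, hyb]; exact hbt))
  rintro k hkW (hk | hk) hkZ
  · exact hW.inf_eq hq hr hrq.symm hy hk hyZ hkZ hyW hkW
  · exact hW.inf_eq hq ht htq.symm hy hk hyZ hkZ hyW hkW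

theorem exists_big_part (h : DivCase G s b) :
    ∃ (q : ℕ) (y : G), q.Prime ∧ IsPEl q y ∧ y ∉ center G ∧ Nat.card (C y) = b := by
  by_contra hcon
  push Not at hcon
  have hcomp : ∀ (r : ℕ) (x : G), r.Prime → IsPEl r x → x ∉ center G → InRad x := by
    intro r x hr hx hxZ
    have hs : Nat.card (C x) = s := (h.sizes x hxZ).resolve_right (hcon r x hr hx hxZ)
    have hW := h.smallCent hxZ hs
    have hK : IsComp (C x) := ⟨hW.comm, fun k hk hkZ => by
      obtain ⟨p, u, hp, hu, hup, huZ⟩ := exists_part hkZ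
      have hus : Nat.card (C u) = s := (h.sizes u huZ).resolve_right (hcon p u hp hup huZ)
      refine le_antisymm ?_ fun a ha => mem_C.2 (hW.comm a ha k hk)
      rw [← hW.C_eq (zpowers_le.2 hk hu) hus]
      exact C_le_zpowers hu, x, self_mem_C x, hxZ⟩
    exact hK.inRad (fun p hp hi _ => h.exists_pel hW hp hi) (self_mem_C x) hxZ
  exact h.not_solvable (solvable_of_inRad Nat.prime_two Nat.prime_two fun r x hr _ _ => hcomp r x hr)

theorem false_even (h : DivCase G s b) (h2 : ¬ BigPrime s b 2) : False := by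
  have p2 := Nat.prime_two
  haveI : Fact (Nat.Prime 2) := ⟨p2⟩
  have i2 : InPi G 2 := by_contra fun hc => h.not_solvable (solvable_of_not_inPi_two hc)
  by_cases hex : ∃ t, t.Prime ∧ t ≠ 2 ∧ InPi G t ∧ ¬ BigPrime s b t
  · obtain ⟨t, ht, ht2, hti, htT⟩ := hex
    obtain ⟨w, hwZ, hws⟩ := h.exists_small
    have hW := h.smallCent hwZ hws
    have nc : ∀ r, r.Prime → InPi G r → ¬ pPart r (C w) ≤ center G := fun r hr hi hle => by
      obtain ⟨x, hxW, hx, hxZ⟩ := h.exists_pel hW hr hi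
      exact hxZ (hle (mem_pPart_of hxW hx))
    refine Pair.false_two (r := 2) (A := pPart 2 (C w)) (D := pPart t (C w))
      { hr := p2
        ht := ht
        hne := ht2.symm
        hA := isPGroup_pPart p2 (hW.centIn 2)
        hD := isPGroup_pPart ht (hW.centIn t)
        nA := nc 2 p2 i2
        nD := nc t ht hti
        fullA := fun k hk hkZ => h.full hW p2 (hk.elim (fun x => pPart_le _ _ x) fun x => pPart_le _ _ x) hkZ
          (Or.inl h2)
        fullD := fun k hk hkZ => h.full hW ht (hk.elim (fun x => pPart_le _ _ x) fun x => pPart_le _ _ x) hkZ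
          (Or.inl htT)
        idxA := h.dvd_index_pPart hW p2 i2
        idxD := h.dvd_index_pPart hW ht hti } rfl
  push Not at hex
  have hbigq : ∀ (q : ℕ) (y : G), q.Prime → IsPEl q y → y ∉ center G → Nat.card (C y) = b → q ≠ 2 := by
    rintro q y hq hy hyZ hyb rfl
    obtain ⟨p, hp, hpi, hp2, -, -⟩ := h.three p2 p2
    obtain ⟨p', hp', hpi', hp2', hpp, -⟩ := h.three p2 hp
    exact h.sigma_sub p2 hp hp' hy hyZ hyb hp2 hp2' hpp.symm (hex p hp hp2 hpi) (hex p' hp' hp2' hpi')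
  obtain ⟨q, y, hq, hy, hyZ, hyb⟩ := h.exists_big_part
  have hq2 := hbigq q y hq hy hyZ hyb
  obtain ⟨p, hp, hpi, hp2, hpq, -⟩ := h.three p2 hq
  obtain ⟨W, hW, hyW, hWH⟩ := h.exists_cent hq hp hpq.symm hpi hy hyZ hyb
  have hsmall2 : ∀ k ∈ W, IsPEl 2 k → k ∉ center G → C k = W := fun k hk hk2 hkZ =>
    hW.C_eq hk ((h.sizes k hkZ).resolve_right fun e => hbigq 2 k p2 hk2 hkZ e rfl)
  obtain ⟨g₀, -, hg₀, hg₀N, hg₀W⟩ := outside_in (H := ⊤) p2 le_top (hW.centIn 2) (h.exists_pel hW p2 i2)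
    (fun k hk hk2 hkZ => by rw [top_inf_eq]; exact hsmall2 k hk hk2 hkZ) (h.dvd_index hW p2 i2)
  obtain ⟨g, hgz, hg, hgW, hg2⟩ := Pair.exists_pow_step hg₀ hg₀W
  have hgN : g ∈ normalizer (W : Set G) := zpowers_le.2 hg₀N hgz
  have hWne : W ≠ ⊤ := fun e => hgW (e ▸ mem_top g)
  have hinv2 : Inverts g (pPart 2 W) := inverts_two_in (H := ⊤) le_top hWne (hW.centIn 2)
    (fun k hk hk2 hkZ => by rw [top_inf_eq]; exact hsmall2 k hk hk2 hkZ) (mem_top g) hg hgN hgW hg2
  have hinvp : Inverts g (pPart p W) := inverts_of_no_fixed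
    (fun a ha c hc => hW.comm a (pPart_le _ _ ha) c (pPart_le _ _ hc)) (mem_normalizer_pPart hgN)
    (mem_centralizer_iff.2 fun a ha => (hW.comm a (pPart_le _ _ ha) _ hg2).eq) fun d hd hc =>
      by_contra fun hdZ => hgW (mem_of_full hW p2 (h.full hW p2 (pPart_le _ _ hd) hdZ (Or.inl h2)) hg hgN hc)
  obtain ⟨x, hxH, hx, hxN, hxW⟩ := outside_in (H := C y) hp hWH (hW.centIn p) (h.exists_pel hW hp hpi)
    (fun k hk hkp hkZ => hW.inf_eq hq hp hpq.symm hy hkp hyZ hkZ hyW hk)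
    (dvd_relIndex_of_lt hWH (by rw [hW.card, hyb]; exact hex p hp hp2 hpi))
  obtain ⟨k₂, hk₂W, hk₂, hk₂Z⟩ := h.exists_pel hW p2 i2
  obtain ⟨kp, hkpW, hkp, hkpZ⟩ := h.exists_pel hW hp hpi
  have hcomm : x * g * x⁻¹ * g⁻¹ ∈ W := by
    refine mem_of_parts W fun e u he hu hue => ?_
    have h1 := (centralisesMod_commutator hinv2 (mem_normalizer_pPart hgN)
      (mem_normalizer_pPart hxN)).of_zpowers hu
    have h3 := (centralisesMod_commutator hinvp (mem_normalizer_pPart hgN)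
      (mem_normalizer_pPart hxN)).of_zpowers hu
    have huN : u ∈ normalizer (W : Set G) :=
      zpowers_le.2 (mul_mem (mul_mem (mul_mem hxN hgN) (inv_mem hxN)) (inv_mem hgN)) hu
    by_cases he2 : e = 2
    · subst he2
      exact mem_of_full hW p2 (h.full hW p2 hkpW hkpZ (Or.inl h2)) hue huN (commute_of_mem_centralizer
        (h3.mem_centralizer p2 hp hp2.symm hue (isPGroup_pPart hp (hW.centIn p))) (mem_pPart_of hkpW hkp))
    · rw [← hsmall2 k₂ hk₂W hk₂ hk₂Z]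
      exact mem_C.2 (commute_of_mem_centralizer
        (h1.mem_centralizer he p2 he2 hue (isPGroup_pPart p2 (hW.centIn 2))) (mem_pPart_of hk₂W hk₂))
  obtain ⟨k, hk⟩ := hx
  obtain ⟨g', x', hg'N, hx'N, hg', hcm, hgg, hxx⟩ := exists_lifts (C0 := W) (N := normalizer (W : Set G))
    le_normalizer le_rfl p2 hgN hxN hg (m := p ^ k)
    (fun hd => hp2 ((Nat.prime_dvd_prime_iff_eq p2 hp).1 (p2.dvd_of_dvd_pow hd)).symm)
    (by rw [← hk, pow_orderOf_eq_one]; exact one_mem W)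
    (by
      have e : g * x * g⁻¹ * x⁻¹ = (x * g * x⁻¹ * g⁻¹)⁻¹ := by group
      rw [e]; exact inv_mem hcomm)
  have hg'A : g' ∉ pPart 2 W := fun hc => hgW (by
    rw [show g = g' * (g⁻¹ * g')⁻¹ by group]; exact mul_mem (pPart_le _ _ hc) (inv_mem hgg))
  obtain ⟨v, hv, hvZ, hxv⟩ := exists_fixed_comm p2 (isPGroup_pPart p2 (hW.centIn 2))
    (fun hle => hk₂Z (hle (mem_pPart_of hk₂W hk₂)))
    (fun a ha haZ => h.full hW p2 (pPart_le _ _ ha) haZ (Or.inl h2)) hg' (mem_normalizer_pPart hg'N) hg'A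
    (mem_normalizer_pPart hx'N) hcm
  have e : x' * v * x'⁻¹ * v⁻¹ = x * ((x⁻¹ * x') * v * (x⁻¹ * x')⁻¹) * x⁻¹ * v⁻¹ := by group
  rw [e, (hW.comm _ hxx v (pPart_le _ _ hv)).eq, mul_inv_cancel_right] at hxv
  obtain ⟨hv1, hv2⟩ := (mem_pPart p2 (hW.centIn 2)).1 hv
  refine hxW ?_
  rw [← hsmall2 v hv1 hv2 hvZ]
  exact mem_C.2 (IsPEl.commute_of_mod_center hp p2 hp2 ⟨k, hk⟩ hv2 hxv)

theorem false_central (h : DivCase G s b) (hW : SmallCent W s) {t f : ℕ} (ht : t.Prime) (ht2 : t ≠ 2)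
    (hf : f.Prime) (hft : f ≠ t) (hti : InPi G t) (hfi : InPi G f) (htT : ¬ BigPrime s b t)
    {d : G} (hdW : d ∈ W) (hd : IsPEl t d) (hdZ : d ∉ center G) (hdf : Full f (pPart f W) d) {i : G}
    (hi : i ∈ normalizer (W : Set G)) (hi2 : i ^ 2 ∈ W) (hinv : Inverts i (pPart t W))
    (hcomm : ∀ n ∈ normalizer (W : Set G), n * i * n⁻¹ * i⁻¹ ∈ W) : False := by
  set A := pPart t W
  set D := pPart f W
  have hA := isPGroup_pPart ht (hW.centIn t)
  obtain ⟨g, hg, hgA, hgD, hgC⟩ := exists_outside (A := A) (D := D) ht hf hA (isPGroup_pPart hf (hW.centIn f))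
    (fun a ha => mem_centralizer_iff.2 fun c hc => (hW.comm c (pPart_le _ _ hc) a (pPart_le _ _ ha)).eq)
    (mem_pPart_of hdW hd) (h.full hW ht hdW hdZ (Or.inl htT)) hdf (h.dvd_index_pPart hW ht hti)
  obtain ⟨e, heW, he, heZ⟩ := h.exists_pel hW hf hfi
  have hgN : g ∈ normalizer (W : Set G) := by
    have hd' : g * d * g⁻¹ ∈ W := pPart_le _ _ ((mem_normalizer_iff.1 hgA d).1 (mem_pPart_of hdW hd))
    have he' : g * e * g⁻¹ ∈ W := pPart_le _ _ ((mem_normalizer_iff.1 hgD e).1 (mem_pPart_of heW he))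
    refine mem_normalizer_of_map (H := ⊤) (k := d * e) (mem_top g)
      (by rw [top_inf_eq]; exact hW.pair t f d e ht hf hft.symm hd he hdZ heZ hdW heW) ?_
    rw [top_inf_eq, ← conj_mul]
    refine hW.pair t f _ _ ht hf hft.symm (hd.conj g) (he.conj g) (fun hc => hdZ ?_) (fun hc => heZ ?_) hd' he'
    · have hc' : g⁻¹ * (g * d * g⁻¹) * g⁻¹⁻¹ ∈ center G := Normal.conj_mem inferInstance _ hc g⁻¹
      simpa [mul_assoc] using hc'
    · have hc' : g⁻¹ * (g * e * g⁻¹) * g⁻¹⁻¹ ∈ center G := Normal.conj_mem inferInstance _ hc g⁻¹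
      simpa [mul_assoc] using hc'
  have hgW : g ∉ W := fun hc => hgC
    (mem_centralizer_iff.2 fun a ha => (hW.comm a (pPart_le _ _ ha) g hc).eq)
  obtain ⟨g', i', hg'N, hi'N, hg', hcm, hgg, hii⟩ := exists_lifts (C0 := W) (N := normalizer (W : Set G))
    le_normalizer le_rfl ht hgN hi hg (m := 2) (fun hc => ht2 ((Nat.prime_dvd_prime_iff_eq ht Nat.prime_two).1 hc))
    hi2 (hcomm g hgN)
  refine false_of_inverts ht ht2 hA (fun hle => hdZ (hle (mem_pPart_of hdW hd)))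
    (fun a ha haZ => h.full hW ht (pPart_le _ _ ha) haZ (Or.inl htT)) hg' (mem_normalizer_pPart hg'N)
    (fun hc => hgW (by rw [show g = g' * (g⁻¹ * g')⁻¹ by group]; exact mul_mem (pPart_le _ _ hc) (inv_mem hgg)))
    (mem_normalizer_pPart hi'N) hcm fun a ha => ?_
  have e1 : i' * a * i'⁻¹ * a = i * ((i⁻¹ * i') * a * (i⁻¹ * i')⁻¹) * i⁻¹ * a := by group
  rw [e1, (hW.comm _ hii a (pPart_le _ _ ha)).eq, mul_inv_cancel_right]
  exact hinv a ha

theorem inverting (h : DivCase G s b) (hW : SmallCent W s) {r t : ℕ} (hr : r.Prime) (ht : t.Prime) (hr2 : r ≠ 2)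
    (ht2 : t ≠ 2) (hrt : r ≠ t) (hi2' : InPi G 2) (htT : ¬ BigPrime s b t)
    (hti : InPi G t) {y : G} (hy : IsPEl r y) (hyZ : y ∉ center G) (hyW : y ∈ W) {i : G}
    (hi : i ∈ normalizer (W : Set G)) (hip : IsPEl 2 i) (hiW : i ∉ W) (hi2 : i ^ 2 ∈ W) (hiy : Commute i y) :
    Inverts i (pPart t W) ∧ ∀ n ∈ normalizer (W : Set G), ∀ (p : ℕ) (u : G), p.Prime → IsPEl p u →
      u ∈ zpowers (n * i * n⁻¹ * i⁻¹) → (p ≠ 2 → u ∈ W) ∧ (p = 2 → ∀ a ∈ pPart t W, Commute u a) := by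
  have p2 := Nat.prime_two
  have hWH : W ≤ C y := fun x hx => mem_C.2 (hW.comm x hx y hyW)
  have hW' : W ≠ C y := fun e => hiW (e ▸ mem_C.2 hiy)
  have hinv2 : Inverts i (pPart 2 W) := inverts_two_in hWH hW' (hW.centIn 2)
    (fun k hk hk2 hkZ => hW.inf_eq hr p2 hr2 hy hk2 hyZ hkZ hyW hk) (mem_C.2 hiy) hip hi hiW hi2
  have hinvt : Inverts i (pPart t W) := inverts_of_no_fixed
    (fun a ha c hc => hW.comm a (pPart_le _ _ ha) c (pPart_le _ _ hc)) (mem_normalizer_pPart hi)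
    (mem_centralizer_iff.2 fun a ha => (hW.comm a (pPart_le _ _ ha) _ hi2).eq) fun d hd hc =>
      by_contra fun hdZ => hiW (hW.mem_of_commute hr ht hrt hy ((mem_pPart ht (hW.centIn t)).1 hd).2 hyZ hdZ hyW
        (pPart_le _ _ hd) hiy hc)
  refine ⟨hinvt, fun n hn p u hp hu huz => ?_⟩
  have h1 := (centralisesMod_commutator hinv2 (mem_normalizer_pPart hi) (mem_normalizer_pPart hn)).of_zpowers huz
  have h3 := (centralisesMod_commutator hinvt (mem_normalizer_pPart hi) (mem_normalizer_pPart hn)).of_zpowers huz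
  refine ⟨fun hp2 => ?_, fun hp2 a ha => commute_of_mem_centralizer
    (h3.mem_centralizer hp ht (hp2 ▸ ht2.symm) hu (isPGroup_pPart ht (hW.centIn t))) ha⟩
  have hc2 := h1.mem_centralizer hp p2 hp2 hu (isPGroup_pPart p2 (hW.centIn 2))
  obtain ⟨k, hkW, hk, hkZ⟩ := h.exists_pel hW p2 hi2'
  by_cases hpt : p = t
  · subst hpt
    exact mem_of_full hW hp (h.full hW hp hkW hkZ (Or.inl htT)) hu
      (zpowers_le.2 (mul_mem (mul_mem (mul_mem hn hi) (inv_mem hn)) (inv_mem hi)) huz)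
      (commute_of_mem_centralizer hc2 (mem_pPart_of hkW hk))
  · obtain ⟨d, hdW, hd, hdZ⟩ := h.exists_pel hW ht hti
    exact hW.mem_of_commute p2 ht ht2.symm hk hd hkZ hdZ hkW hdW
      (commute_of_mem_centralizer hc2 (mem_pPart_of hkW hk))
      (commute_of_mem_centralizer (h3.mem_centralizer hp ht hpt hu (isPGroup_pPart ht (hW.centIn t)))
        (mem_pPart_of hdW hd))

theorem false_big_two (h : DivCase G s b) (h2 : BigPrime s b 2) : False := by
  have p2 := Nat.prime_two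
  have i2 := h.inPi_of_big p2 h2
  obtain ⟨r, y, hr, hr2, hy, hyZ, hyb⟩ :
      ∃ (r : ℕ) (y : G), r.Prime ∧ r ≠ 2 ∧ IsPEl r y ∧ y ∉ center G ∧ Nat.card (C y) = b := by
    by_contra hcon
    push Not at hcon
    obtain ⟨w, hwZ, hws⟩ := h.exists_small
    have hW := h.smallCent hwZ hws
    obtain ⟨r, hr, hri, hr2, -, -⟩ := h.three p2 p2
    obtain ⟨t, ht, hti, ht2, htr, -⟩ := h.three p2 hr
    refine false_in (H := ⊤) hr ht htr.symm le_top (hW.centIn r) (hW.centIn t) (h.exists_pel hW hr hri)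
      (h.exists_pel hW ht hti) ?_ (h.dvd_index hW hr hri) (h.dvd_index hW ht hti)
    rintro k hk (hkp | hkp) hkZ <;> rw [top_inf_eq] <;>
      refine hW.C_eq hk ((h.sizes k hkZ).resolve_right ?_)
    · exact hcon r k hr hr2 hkp hkZ
    · exact hcon t k ht ht2 hkp hkZ
  obtain ⟨t, ht, hti, ht2, htr, -⟩ := h.three p2 hr
  have htT : ¬ BigPrime s b t := fun hb => h.sigma_sub hr p2 ht hy hyZ hyb hr2.symm htr ht2.symm h2 hb
  obtain ⟨W, hW, hyW, hWH⟩ := h.exists_cent hr ht htr.symm hti hy hyZ hyb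
  obtain ⟨i₀, hi₀H, hi₀, hi₀N, hi₀W⟩ := outside_in (H := C y) p2 hWH (hW.centIn 2) (h.exists_pel hW p2 i2)
    (fun k hk hk2 hkZ => hW.inf_eq hr p2 hr2 hy hk2 hyZ hkZ hyW hk)
    (dvd_relIndex_of_lt hWH (by rw [hW.card, hyb]; exact h2))
  obtain ⟨i, hiz, hip, hiW, hi2⟩ := Pair.exists_pow_step hi₀ hi₀W
  have hi : i ∈ normalizer (W : Set G) := zpowers_le.2 hi₀N hiz
  have hiy : Commute i y := mem_C.1 (zpowers_le.2 hi₀H hiz)
  obtain ⟨hinv, hparts⟩ := h.inverting hW hr ht hr2 ht2 htr.symm i2 htT hti hy hyZ hyW hi hip hiW hi2 hiy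
  have hrW : InPi G r := ⟨y, hy, hyZ⟩
  by_cases hcen : ∀ n ∈ normalizer (W : Set G), n * i * n⁻¹ * i⁻¹ ∈ W
  · obtain ⟨d₀, hd₀W, hd₀, hd₀Z⟩ := h.exists_pel hW ht hti
    by_cases hsm : ∃ d ∈ W, IsPEl t d ∧ d ∉ center G ∧ Nat.card (C d) = s
    · obtain ⟨d, hdW, hd, hdZ, hds⟩ := hsm
      exact h.false_central hW ht ht2 p2 ht2.symm hti i2 htT hdW hd hdZ
        (h.full hW p2 hdW hdZ (Or.inr hds)) hi hi2 hinv hcen
    · push Not at hsm
      have hd₀b := (h.sizes d₀ hd₀Z).resolve_left (hsm d₀ hd₀W hd₀ hd₀Z)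
      have hrT : ¬ BigPrime s b r := fun hb =>
        h.sigma_sub ht p2 hr hd₀ hd₀Z hd₀b ht2.symm htr.symm hr2.symm h2 hb
      exact h.false_central hW ht ht2 hr htr.symm hti hrW htT hd₀W hd₀ hd₀Z
        (h.full hW hr hd₀W hd₀Z (Or.inl hrT)) hi hi2 hinv hcen
  push Not at hcen
  obtain ⟨n, hn, hnc⟩ := hcen
  obtain ⟨u, huz, hu, huW⟩ : ∃ u ∈ zpowers (n * i * n⁻¹ * i⁻¹), IsPEl 2 u ∧ u ∉ W := by
    by_contra hcon
    push Not at hcon
    refine hnc (mem_of_parts W fun p u hp hu hup => ?_)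
    by_cases hp2 : p = 2
    · exact hcon u hu (hp2 ▸ hup)
    · exact (hparts n hn p u hp hup hu).1 hp2
  have hucomm := (hparts n hn 2 u p2 hu huz).2 rfl
  have huN : u ∈ normalizer (W : Set G) :=
    zpowers_le.2 (mul_mem (mul_mem (mul_mem hn hi) (inv_mem hn)) (inv_mem hi)) huz
  obtain ⟨z, hzW, hz, hzZ⟩ := h.exists_pel hW ht hti
  have hzb : Nat.card (C z) = b := (h.sizes z hzZ).resolve_left fun e => huW (by
    rw [← hW.C_eq hzW e]
    exact mem_C.2 (hucomm z (mem_pPart_of hzW hz)))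
  have hrT : ¬ BigPrime s b r := fun hb => h.sigma_sub ht p2 hr hz hzZ hzb ht2.symm htr.symm hr2.symm h2 hb
  obtain ⟨j, hjz, hjp, hjW, hj2⟩ := Pair.exists_pow_step hu huW
  have hj : j ∈ normalizer (W : Set G) := zpowers_le.2 huN hjz
  have hjc : j ∈ centralizer (pPart t W : Set G) :=
    zpowers_le.2 (mem_centralizer_iff.2 fun a ha => (hucomm a ha).symm.eq) hjz
  have hjzc : Commute j z := commute_of_mem_centralizer hjc (mem_pPart_of hzW hz)
  obtain ⟨hinv', hparts'⟩ := h.inverting hW ht hr ht2 hr2 htr i2 hrT hrW hz hzZ hzW hj hjp hjW hj2 hjzc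
  refine h.false_central hW hr hr2 ht htr hrW hti hrT hyW hy hyZ (h.full hW ht hyW hyZ (Or.inl htT)) hj hj2 hinv'
    fun m hm => mem_of_parts W fun p v hp hv hvp => ?_
  by_cases hp2 : p = 2
  · subst hp2
    have hmc : m ∈ normalizer (centralizer (pPart t W : Set G) : Set G) :=
      (normal_subgroupOf_iff_le_normalizer (centralizer_le_normalizer _)).mp inferInstance
        (mem_normalizer_pPart hm)
    have hvc : v ∈ centralizer (pPart t W : Set G) :=
      zpowers_le.2 (mul_mem ((mem_normalizer_iff.1 hmc j).1 hjc) (inv_mem hjc)) hv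
    exact hW.mem_of_commute hr ht htr.symm hy hz hyZ hzZ hyW hzW
      ((hparts' m hm 2 v p2 hvp hv).2 rfl y (mem_pPart_of hyW hy))
      (commute_of_mem_centralizer hvc (mem_pPart_of hzW hz))
  · exact (hparts' m hm p v hp hvp hv).1 hp2

end DivCase

/-- A group with two centraliser orders of non-central elements, one dividing the other, is solvable. -/
theorem solvable_of_dvd (hS : Sizes G s b) (hd : s ∣ b) : Group.IsSolvable G := by
  by_contra hns
  have h : DivCase G s b := { toSizes := hS, dvd := hd, not_solvable := hns }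
  by_cases h2 : BigPrime s b 2
  · exact h.false_big_two h2
  · exact h.false_even h2

end CfsgLib.Frobenius.ThreeSizes
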