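import Cfsg.Agent.Lib.Frobenius.ThreeSizes.Basic
import Cfsg.Agent.Lib.Frobenius.ThreeSizes.Action

/-!
# Elements normalising an abelian subgroup with full centraliser orders
-/

set_option autoImplicit false
set_option linter.style.haveILetI false

namespace CfsgLib.Frobenius.ThreeSizes

open Subgroup

variable {G : Type*} [Group G]

/-- `A` has the full `r`-part of the centraliser of `k`. -/
def Full (r : ℕ) (A : Subgroup G) (k : G) : Prop := A ≤ C k ∧ ¬ r ∣ A.relIndex (C k)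

/-- `i` inverts `A` modulo the centre. -/
def Inverts (i : G) (A : Subgroup G) : Prop := ∀ a ∈ A, i * a * i⁻¹ * a ∈ center G

/-- `c` centralises `A` modulo the centre. -/
def CentralisesMod (c : G) (A : Subgroup G) : Prop := ∀ a ∈ A, c * a * c⁻¹ * a⁻¹ ∈ center G

theorem inverts_mk {i : G} {A : Subgroup G} (h : Inverts i A) {a : G} (ha : a ∈ A) :
    (i : G ⧸ center G) * a * (i : G ⧸ center G)⁻¹ = (a : G ⧸ center G)⁻¹ := by
  rw [← mul_eq_one_iff_eq_inv]
  exact (QuotientGroup.eq_one_iff _).2 (h a ha)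

theorem centralisesMod_iff {c : G} {A : Subgroup G} :
    CentralisesMod c A ↔ ∀ a ∈ A, Commute (c : G ⧸ center G) (a : G ⧸ center G) := by
  refine forall₂_congr fun a _ => ?_
  rw [← QuotientGroup.eq_one_iff]
  show (c : G ⧸ center G) * a * (c : G ⧸ center G)⁻¹ * (a : G ⧸ center G)⁻¹ = 1 ↔ _
  rw [mul_inv_eq_one, mul_inv_eq_iff_eq_mul]
  rfl

theorem CentralisesMod.of_zpowers {c y : G} {A : Subgroup G} (h : CentralisesMod c A) (hy : y ∈ zpowers c) :
    CentralisesMod y A := by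
  obtain ⟨n, rfl⟩ := mem_zpowers_iff.1 hy
  rw [centralisesMod_iff] at h ⊢
  intro a ha
  rw [QuotientGroup.mk_zpow]
  exact (h a ha).zpow_left n

/-- A commutator with an inverting element centralises modulo the centre. -/
theorem centralisesMod_commutator {i n : G} {A : Subgroup G} (hi : Inverts i A)
    (hiN : i ∈ normalizer (A : Set G)) (hn : n ∈ normalizer (A : Set G)) :
    CentralisesMod (n * i * n⁻¹ * i⁻¹) A := by
  rw [centralisesMod_iff]
  intro a ha
  have h1 : (i : G ⧸ center G)⁻¹ * a * i = (a : G ⧸ center G)⁻¹ := by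
    have hb : i⁻¹ * a * i ∈ A := by simpa using (mem_normalizer_iff.1 (inv_mem hiN) a).1 ha
    have := inverts_mk hi hb
    rw [QuotientGroup.mk_mul, QuotientGroup.mk_mul, QuotientGroup.mk_inv] at this
    have e : (i : G ⧸ center G) * ((i : G ⧸ center G)⁻¹ * a * i) * (i : G ⧸ center G)⁻¹ = a := by group
    rw [e] at this
    exact inv_eq_iff_eq_inv.1 this.symm
  set b := n⁻¹ * a * n
  have hb : b ∈ A := by simpa using (mem_normalizer_iff.1 (inv_mem hn) a).1 ha
  have h2 := inverts_mk hi (A.inv_mem hb)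
  rw [QuotientGroup.mk_inv, inv_inv] at h2
  have key : ((n : G ⧸ center G) * (i : G ⧸ center G) * (n : G ⧸ center G)⁻¹ * (i : G ⧸ center G)⁻¹) *
      (a : G ⧸ center G) * ((n : G ⧸ center G) * (i : G ⧸ center G) * (n : G ⧸ center G)⁻¹ *
        (i : G ⧸ center G)⁻¹)⁻¹ = (a : G ⧸ center G) := by
    calc _ = (n : G ⧸ center G) * ((i : G ⧸ center G) * ((n : G ⧸ center G)⁻¹ *
          ((i : G ⧸ center G)⁻¹ * a * i) * n) * (i : G ⧸ center G)⁻¹) * (n : G ⧸ center G)⁻¹ := by group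
      _ = (n : G ⧸ center G) * ((i : G ⧸ center G) * (b : G ⧸ center G)⁻¹ * (i : G ⧸ center G)⁻¹) *
          (n : G ⧸ center G)⁻¹ := by
          rw [h1]; congr 3; simp [b, mul_assoc]
      _ = _ := by rw [h2]; simp [b, mul_assoc]
  exact mul_inv_eq_iff_eq_mul.1 key

theorem mem_of_pow_mem {H : Subgroup G} {x : G} {a b : ℕ} (h : a.Coprime b) (ha : x ^ a ∈ H)
    (hb : x ^ b ∈ H) : x ∈ H := by
  have hbez := Nat.gcd_eq_gcd_ab a b
  rw [h.gcd_eq_one, Nat.cast_one] at hbez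
  rw [show x = x ^ ((1 : ℕ) : ℤ) by simp, Nat.cast_one, hbez, zpow_add, zpow_mul, zpow_mul, zpow_natCast,
    zpow_natCast]
  exact mul_mem (zpow_mem ha _) (zpow_mem hb _)

theorem IsPEl.mem_of_pow {p m : ℕ} (hp : p.Prime) {H : Subgroup G} {x : G} (hx : IsPEl p x) (hm : ¬ p ∣ m)
    (h : x ^ m ∈ H) : x ∈ H := by
  obtain ⟨k, hk⟩ := hx
  exact mem_of_pow_mem ((hp.coprime_iff_not_dvd.2 hm).symm.pow_right k) h
    (by rw [← hk, pow_orderOf_eq_one]; exact one_mem _)

variable [Finite G]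

/-- An element has a power which is an `r`-element, congruent to it modulo a subgroup containing an
`r`-power of it. -/
theorem exists_part_congr {H : Subgroup G} {r j : ℕ} (hr : r.Prime) {x : G} (h : x ^ r ^ j ∈ H) :
    ∃ n : ℕ, IsPEl r (x ^ n) ∧ x⁻¹ * x ^ n ∈ H := by
  obtain ⟨e, m, hm, hord⟩ := Nat.exists_eq_pow_mul_and_not_dvd (orderOf_pos x).ne' r hr.ne_one
  have hcop : (r ^ e).Coprime m := (hr.coprime_iff_not_dvd.2 hm).pow_left e
  obtain ⟨n, hn1, hn0⟩ := Nat.chineseRemainder hcop 1 0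
  refine ⟨n, isPEl_of_pow hr (k := e) ?_, ?_⟩
  · rw [← pow_mul, ← orderOf_dvd_iff_pow_eq_one, hord, mul_comm n]
    exact mul_dvd_mul_left _ (Nat.modEq_zero_iff_dvd.1 hn0)
  · have hy : x ^ r ^ e ∈ H := by
      refine mem_of_pow_mem (a := m) (b := r ^ j) ((hr.coprime_iff_not_dvd.2 hm).symm.pow_right j) ?_ ?_
      · rw [← pow_mul, ← hord, pow_orderOf_eq_one]; exact one_mem _
      · rw [← pow_mul, mul_comm, pow_mul]; exact pow_mem h _
    obtain ⟨c, hc⟩ := (Int.natCast_dvd_natCast.2 (dvd_refl (r ^ e))).trans (Nat.modEq_iff_dvd.1 hn1.symm)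
    have e1 : x⁻¹ * x ^ n = (x ^ r ^ e) ^ c := by
      rw [← zpow_natCast x (r ^ e), ← zpow_mul, ← hc, sub_eq_neg_add, zpow_add, Nat.cast_one, zpow_neg_one,
        zpow_natCast]
    rw [e1]
    exact zpow_mem hy c

/-- Lifts of commuting images of coprime orders. -/
theorem exists_lifts {N C0 : Subgroup G} (hle : C0 ≤ N) (hn : N ≤ normalizer (C0 : Set G)) {r : ℕ}
    (hr : r.Prime) {g i : G} (hgN : g ∈ N) (hiN : i ∈ N) (hg : IsPEl r g) {m : ℕ} (hm : ¬ r ∣ m)
    (him : i ^ m ∈ C0) (hc : g * i * g⁻¹ * i⁻¹ ∈ C0) :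
    ∃ g' i' : G, g' ∈ N ∧ i' ∈ N ∧ IsPEl r g' ∧ Commute g' i' ∧ g⁻¹ * g' ∈ C0 ∧ i⁻¹ * i' ∈ C0 := by
  haveI : (C0.subgroupOf N).Normal := (normal_subgroupOf_iff_le_normalizer hle).2 hn
  haveI := Fact.mk hr
  set f := QuotientGroup.mk' (C0.subgroupOf N)
  set x : N := ⟨g * i, mul_mem hgN hiN⟩
  obtain ⟨u, v, huv, hcm, ⟨k, hk⟩, hv⟩ := CfsgLib.PGroup.CountPElements.exists_decomp (p := r) x
  have hcgi : Commute (f ⟨g, hgN⟩) (f ⟨i, hiN⟩) := by
    show f ⟨g, hgN⟩ * f ⟨i, hiN⟩ = f ⟨i, hiN⟩ * f ⟨g, hgN⟩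
    rw [← mul_inv_eq_one, mul_inv_rev, ← map_inv, ← map_inv, ← map_mul, ← map_mul, ← map_mul]
    refine (QuotientGroup.eq_one_iff _).2 (mem_subgroupOf.2 ?_)
    simpa [mul_assoc] using hc
  have hgr : ∃ k, orderOf (f ⟨g, hgN⟩) = r ^ k := by
    obtain ⟨l, hl⟩ := hg
    obtain ⟨j, -, hj⟩ := (Nat.dvd_prime_pow hr).1 ((orderOf_map_dvd f ⟨g, hgN⟩).trans
      (dvd_of_eq (by rw [Subgroup.orderOf_mk]; exact hl)))
    exact ⟨j, hj⟩
  have hfu : ∃ k, orderOf (f u) = r ^ k := by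
    obtain ⟨j, -, hj⟩ := (Nat.dvd_prime_pow hr).1 ((orderOf_map_dvd f u).trans (dvd_of_eq hk))
    exact ⟨j, hj⟩
  have hio : ¬ r ∣ orderOf (f ⟨i, hiN⟩) := fun h => hm (h.trans (orderOf_dvd_of_pow_eq_one (by
    rw [← map_pow]
    exact (QuotientGroup.eq_one_iff _).2 (mem_subgroupOf.2 him))))
  have hmul : f u * f v = f ⟨g, hgN⟩ * f ⟨i, hiN⟩ := by rw [← map_mul, ← map_mul, huv]; rfl
  have hu : f u = f ⟨g, hgN⟩ := CfsgLib.PGroup.CountPElements.decomp_left_unique (hcm.map f) hcgi hfu hgr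
    (fun h => hv (h.trans (orderOf_map_dvd f v))) hio hmul
  have hv' : f v = f ⟨i, hiN⟩ := by rw [hu] at hmul; exact mul_left_cancel hmul
  exact ⟨u, v, u.2, v.2, ⟨k, by rw [Subgroup.orderOf_coe, hk]⟩, congrArg Subtype.val hcm,
    mem_subgroupOf.1 (QuotientGroup.eq.1 hu.symm),
    mem_subgroupOf.1 (QuotientGroup.eq.1 hv'.symm)⟩

section One

variable {A : Subgroup G} {r : ℕ}

/-- An `r`-element normalising `A` and commuting with an element of full centraliser lies in `A`. -/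
theorem Full.mem {k x : G} (hr : r.Prime) (hA : IsPGroup r A) (hk : Full r A k) (hx : IsPEl r x)
    (hxN : x ∈ normalizer (A : Set G)) (hc : Commute x k) : x ∈ A :=
  mem_of_not_dvd_relIndex hr hA hk.1 hk.2 (mem_C.2 hc) hx hxN

theorem pow_mem_center (hr : r.Prime) (hA : IsPGroup r A) (hk : ∀ k ∈ A, k ∉ center G → Full r A k)
    {x : G} {n : ℕ} (hx : IsPEl r x) (hxN : x ∈ normalizer (A : Set G)) (hxA : x ∉ A) (hn : x ^ n ∈ A) :
    x ^ n ∈ center G :=
  by_contra fun hZ => hxA ((hk _ hn hZ).mem hr hA hx hxN ((Commute.refl x).pow_right n))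

/-- An element commuting with an `r`-element outside `A` fixes one of its non-central elements. -/
theorem exists_fixed_comm (hr : r.Prime) (hA : IsPGroup r A) (hnA : ¬ A ≤ center G)
    (hk : ∀ k ∈ A, k ∉ center G → Full r A k) {g x : G} (hg : IsPEl r g)
    (hgN : g ∈ normalizer (A : Set G)) (hgA : g ∉ A) (hxN : x ∈ normalizer (A : Set G)) (hc : Commute g x) :
    ∃ v ∈ A, v ∉ center G ∧ x * v * x⁻¹ * v⁻¹ ∈ center G := by
  obtain ⟨v, hv, hvZ, hgv⟩ := exists_fixed hr hA hnA hg hgN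
  refine ⟨v, hv, hvZ, by_contra fun hw => hgA ((hk _ ?_ hw).mem hr hA hg hgN ?_)⟩
  · exact mul_mem ((mem_normalizer_iff.1 hxN v).1 hv) (inv_mem hv)
  · set z := g * v * g⁻¹ * v⁻¹ with hz
    have hzc : ∀ w, w * z = z * w := fun w => mem_center_iff.1 hgv w
    show g * (x * v * x⁻¹ * v⁻¹) = x * v * x⁻¹ * v⁻¹ * g
    rw [← mul_inv_eq_iff_eq_mul]
    calc g * (x * v * x⁻¹ * v⁻¹) * g⁻¹ = (g * x) * v * x⁻¹ * v⁻¹ * g⁻¹ := by group
      _ = (x * g) * v * x⁻¹ * v⁻¹ * g⁻¹ := by rw [hc.eq]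
      _ = x * (g * v * g⁻¹ * v⁻¹) * v * (g * x⁻¹ * g⁻¹) * (g * v * g⁻¹)⁻¹ := by group
      _ = x * z * v * x⁻¹ * (z * v)⁻¹ := by
          rw [hc.inv_right.eq, mul_inv_cancel_right, ← hz]
          congr 2; rw [hz]; group
      _ = z * (x * v * x⁻¹ * v⁻¹) * z⁻¹ := by rw [hzc x]; group
      _ = _ := by rw [← hzc, mul_inv_cancel_right]

/-- An element inverting `A` does not commute with an `r`-element outside `A`, for odd `r`. -/
theorem false_of_inverts (hr : r.Prime) (hr2 : r ≠ 2) (hA : IsPGroup r A) (hnA : ¬ A ≤ center G)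
    (hk : ∀ k ∈ A, k ∉ center G → Full r A k) {g x : G} (hg : IsPEl r g)
    (hgN : g ∈ normalizer (A : Set G)) (hgA : g ∉ A) (hxN : x ∈ normalizer (A : Set G)) (hc : Commute g x)
    (hinv : Inverts x A) : False := by
  obtain ⟨v, hv, hvZ, hxv⟩ := exists_fixed_comm hr hA hnA hk hg hgN hgA hxN hc
  refine hvZ ((isPEl_of_mem hr hA hv).mem_of_pow hr
    (fun h => hr2 ((Nat.prime_dvd_prime_iff_eq hr Nat.prime_two).1 h)) ?_)
  have : v ^ 2 = (x * v * x⁻¹ * v⁻¹)⁻¹ * (x * v * x⁻¹ * v) := by rw [pow_two]; group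
  rw [this]
  exact mul_mem (inv_mem hxv) (hinv v hv)

/-- A `2`-element outside `A` with square in `A` inverts `A` modulo the centre. -/
theorem inverts_self (hA : IsPGroup 2 A) (hk : ∀ k ∈ A, k ∉ center G → Full 2 A k)
    {g : G} (hg : IsPEl 2 g) (hgN : g ∈ normalizer (A : Set G)) (hgA : g ∉ A) (hg2 : g ^ 2 ∈ A) :
    Inverts g A := by
  haveI := Fact.mk Nat.prime_two
  intro a ha
  have h1 : g ^ 2 ∈ center G := pow_mem_center Nat.prime_two hA hk hg hgN hgA hg2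
  have hP : IsPGroup 2 (zpowers g ⊔ A : Subgroup G) :=
    (isPGroup_zpowers hg).to_sup_of_normal_right' hA (zpowers_le.2 hgN)
  have hx : IsPEl 2 (g * a) := isPEl_of_mem Nat.prime_two hP (mul_mem_sup (mem_zpowers g) ha)
  have hxA : g * a ∉ A := fun h => hgA ((mul_mem_cancel_right ha).1 h)
  have hb : g⁻¹ * a * g ∈ A := by simpa using (mem_normalizer_iff.1 (inv_mem hgN) a).1 ha
  have e : (g * a) ^ 2 = g ^ 2 * (g⁻¹ * a * g * a) := by rw [pow_two, pow_two]; group
  have h2 : (g * a) ^ 2 ∈ center G := pow_mem_center Nat.prime_two hA hk hx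
    (mul_mem hgN (le_normalizer ha)) hxA (by rw [e]; exact mul_mem hg2 (mul_mem hb ha))
  rw [e] at h2
  have h3 : g⁻¹ * a * g * a ∈ center G := (Subgroup.mul_mem_cancel_left _ h1).1 h2
  have hc : g⁻¹ * a * g = g * a * g⁻¹ := by
    calc g⁻¹ * a * g = g⁻¹ * (a * g ^ 2) * g⁻¹ := by rw [pow_two]; group
      _ = g⁻¹ * (g ^ 2 * a) * g⁻¹ := by rw [mem_center_iff.1 h1 a]
      _ = g * a * g⁻¹ := by rw [pow_two]; group
  rwa [hc] at h3

end One

omit [Finite G] in
/-- An element with square centralising the abelian group `D`, without fixed points, inverts it. -/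
theorem inverts_of_no_fixed {D : Subgroup G} (hD : ∀ a ∈ D, ∀ b ∈ D, Commute a b) {i : G}
    (hiN : i ∈ normalizer (D : Set G)) (hi2 : i ^ 2 ∈ centralizer (D : Set G))
    (hf : ∀ d ∈ D, Commute i d → d ∈ center G) : Inverts i D := by
  intro d hd
  have hd' : i * d * i⁻¹ ∈ D := (mem_normalizer_iff.1 hiN d).1 hd
  refine hf _ (mul_mem hd' hd) ?_
  show i * (i * d * i⁻¹ * d) = i * d * i⁻¹ * d * i
  rw [← mul_inv_eq_iff_eq_mul]
  calc i * (i * d * i⁻¹ * d) * i⁻¹ = (i ^ 2 * d) * (i ^ 2)⁻¹ * (i * d * i⁻¹) := by rw [pow_two]; group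
    _ = d * (i * d * i⁻¹) := by rw [← mem_centralizer_iff.1 hi2 d hd, mul_inv_cancel_right]
    _ = _ := (hD d hd _ hd').eq

/-- A non-full abelian `r`-group has an `r`-element in the common normaliser acting non-trivially. -/
theorem exists_outside {A D : Subgroup G} {r t : ℕ} (hr : r.Prime) (ht : t.Prime) (hA : IsPGroup r A)
    (hD : IsPGroup t D) (hDA : D ≤ centralizer (A : Set G)) {k : G} (hkA : k ∈ A) (hkr : Full r A k)
    (hkt : Full t D k) (hdvd : r ∣ A.index) :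
    ∃ g : G, IsPEl r g ∧ g ∈ normalizer (A : Set G) ∧ g ∈ normalizer (D : Set G) ∧
      g ∉ centralizer (A : Set G) := by
  haveI := Fact.mk hr
  haveI := Fact.mk ht
  obtain ⟨n, hn⟩ := hA.exists_card_eq
  set K := normalizer (A : Set G) with hK
  have hd2 : r ^ (n + 1) ∣ Nat.card G := by
    rw [pow_succ, ← hn, ← A.card_mul_index]
    exact mul_dvd_mul_left _ hdvd
  have hd3 : r ^ (n + 1) ∣ Nat.card K := by
    have h := Sylow.prime_dvd_card_quotient_normalizer hd2 hn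
    rw [pow_succ, mul_comm, ← hn, card_eq_card_quotient_mul_card_subgroup (A.comap K.subtype),
      show Nat.card (A.comap K.subtype) = Nat.card A from Nat.card_congr (Subgroup.subgroupOfEquivOfLe le_normalizer).toEquiv]
    exact mul_dvd_mul_right h _
  obtain ⟨Q⟩ : Nonempty (Sylow r K) := inferInstance
  obtain ⟨x, hx, hxA⟩ : ∃ x ∈ (Q : Subgroup K).map K.subtype, x ∉ A := by
    by_contra hcon
    push Not at hcon
    have h1 := card_dvd_of_le (show (Q : Subgroup K).map K.subtype ≤ A from hcon)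
    rw [card_map_of_injective K.subtype_injective, hn] at h1
    have h2 : r ^ (n + 1) ∣ Nat.card (Q : Subgroup K) := by
      rw [Q.card_eq_multiplicity]
      exact pow_dvd_pow r ((hr.pow_dvd_iff_le_factorization Nat.card_pos.ne').1 hd3)
    exact absurd (h2.trans h1)
      (Nat.not_dvd_of_pos_of_lt (pow_pos hr.pos n) (Nat.pow_lt_pow_right hr.one_lt (Nat.lt_succ_self n)))
  have hxp : IsPEl r x := isPEl_of_mem hr (Q.2.map K.subtype) hx
  have hxK : x ∈ K := map_subtype_le _ hx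
  set M := centralizer (A : Set G)
  have hMK : M ≤ K := centralizer_le_normalizer _
  haveI : (M.subgroupOf K).Normal := by
    rw [normal_subgroupOf_iff_le_normalizer hMK]
    exact (normal_subgroupOf_iff_le_normalizer (centralizer_le_normalizer _)).mp inferInstance
  have hMC : M ≤ C k := centralizer_le (Set.singleton_subset_iff.2 hkA)
  have hDM : ¬ t ∣ D.relIndex M := fun h => hkt.2 (h.trans (Dvd.intro _ (relIndex_mul_relIndex _ _ _ hDA hMC)))
  set D' : Subgroup (M.subgroupOf K) := (D.subgroupOf K).subgroupOf (M.subgroupOf K)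
  have hD' : IsPGroup t D' := by
    refine (hD.of_equiv (Subgroup.subgroupOfEquivOfLe (hDA.trans hMK)).symm).of_equiv ?_
    exact (Subgroup.subgroupOfEquivOfLe (fun w hw => mem_subgroupOf.2 (hDA (mem_subgroupOf.1 hw)))).symm
  have hD'i : ¬ t ∣ D'.index := by
    show ¬ t ∣ (D.subgroupOf K).relIndex (M.subgroupOf K)
    rwa [relIndex_subgroupOf hMK]
  have hmap : (hD'.toSylow hD'i : Subgroup (M.subgroupOf K)).map (M.subgroupOf K).subtype = D.subgroupOf K := by
    show D'.map _ = _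
    rw [subgroupOf_map_subtype]
    exact inf_eq_left.2 fun w hw => mem_subgroupOf.2 (hDA (mem_subgroupOf.1 hw))
  have htop := Sylow.normalizer_sup_eq_top (hD'.toSylow hD'i)
  rw [hmap] at htop
  obtain ⟨nn, hnn, m, hm, hnm⟩ := mem_sup_of_normal_right.1 (htop ▸ mem_top (⟨x, hxK⟩ : K))
  obtain ⟨u, v, huv, hcm, ⟨e, he⟩, hv⟩ := CfsgLib.PGroup.CountPElements.exists_decomp (p := r) nn
  have hu : u ∈ zpowers nn := by
    obtain ⟨l, hl⟩ := exists_pow_eq_self_of_coprime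
      ((hr.coprime_iff_not_dvd.2 hv).pow_left e |>.symm |> fun h => (show (orderOf v).Coprime (orderOf u) by rwa [he]))
    rw [← hl, ← mul_one (u ^ orderOf v), ← pow_orderOf_eq_one v, ← hcm.mul_pow, huv, ← pow_mul]
    exact pow_mem (mem_zpowers _) _
  refine ⟨u, ⟨e, by rw [Subgroup.orderOf_coe, he]⟩, u.2, ?_, fun huM => hxA ?_⟩
  · have h1 : u ∈ normalizer ((D.subgroupOf K : Subgroup K) : Set K) := zpowers_le.2 hnn hu
    rw [← subgroupOf_normalizer_eq (hDA.trans hMK)] at h1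
    exact mem_subgroupOf.1 h1
  · set f := QuotientGroup.mk' (M.subgroupOf K)
    have hfu : f u = 1 := (QuotientGroup.eq_one_iff _).2 (mem_subgroupOf.2 huM)
    have hfm : f m = 1 := (QuotientGroup.eq_one_iff _).2 hm
    have hfx : f ⟨x, hxK⟩ = f v := by rw [← hnm, map_mul, hfm, mul_one, ← huv, map_mul, hfu, one_mul]
    obtain ⟨k', hk'⟩ := hxp
    have h1 : orderOf (f ⟨x, hxK⟩) ∣ r ^ k' :=
      (orderOf_map_dvd f _).trans (dvd_of_eq (by rw [Subgroup.orderOf_mk]; exact hk'))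
    have h2 : orderOf (f ⟨x, hxK⟩) ∣ orderOf v := hfx ▸ orderOf_map_dvd f v
    have h3 := orderOf_eq_one_iff.1 (Nat.eq_one_of_dvd_coprimes ((hr.coprime_iff_not_dvd.2 hv).pow_left k') h1 h2)
    exact mem_of_not_dvd_relIndex hr hA hkr.1 hkr.2 (hMC (mem_subgroupOf.1 ((QuotientGroup.eq_one_iff _).1 h3)))
      ⟨k', hk'⟩ hxK

end CfsgLib.Frobenius.ThreeSizes
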