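import Cfsg.Agent.Lib.Frobenius.ThreeSizes.Mixed

/-!
# The non-full prime cannot be `2`

If it were, the involutions modulo the centre would be in bijection with the components; counting pairs of them
gives their number as `1 + k (k - 1)`, a power of `p`, which Sylow's theorem refutes.
-/

set_option autoImplicit false
set_option linter.style.haveILetI false
set_option linter.unusedSectionVars false

namespace CfsgLib.Frobenius.ThreeSizes

open Subgroup

variable {G : Type*} [Group G] [Finite G] {v v' p : ℕ}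

theorem IsComp.inverts_all {K : Subgroup G} (hK : IsComp K) {g : G} (hg : IsPEl 2 g)
    (hgN : g ∈ normalizer (K : Set G)) (hgK : g ∉ K) (hg2 : g ^ 2 ∈ K) : Inverts g K := by
  let L : Subgroup G :=
    { carrier := {a | a ∈ K ∧ g * a * g⁻¹ * a ∈ center G}
      one_mem' := ⟨one_mem _, by simp⟩
      mul_mem' := fun {a b} ha hb => ⟨mul_mem ha.1 hb.1, by
        have hgb : g * b * g⁻¹ ∈ K := (mem_normalizer_iff.1 hgN b).1 hb.1
        have e : g * (a * b) * g⁻¹ * (a * b) = (g * a * g⁻¹ * a) * (g * b * g⁻¹ * b) := by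
          calc g * (a * b) * g⁻¹ * (a * b) = (g * a * g⁻¹) * ((g * b * g⁻¹) * a) * b := by group
            _ = (g * a * g⁻¹) * (a * (g * b * g⁻¹)) * b := by rw [(hK.comm _ hgb a ha.1).eq]
            _ = _ := by group
        rw [e]; exact mul_mem ha.2 hb.2⟩
      inv_mem' := fun {a} ha => ⟨inv_mem ha.1, by
        have hga : g * a * g⁻¹ ∈ K := (mem_normalizer_iff.1 hgN a).1 ha.1
        have e : g * a⁻¹ * g⁻¹ * a⁻¹ = (a * (g * a * g⁻¹))⁻¹ := by group
        rw [e, (hK.comm a ha.1 _ hga).eq]; exact inv_mem ha.2⟩ }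
  intro a ha
  exact (mem_of_parts L fun e y he hy hye => show y ∈ L from
    ⟨zpowers_le.2 ha hy, hK.inverts_part he hg hgN hgK hg2 y (mem_pPart_of (zpowers_le.2 ha hy) hye)⟩).2

theorem IsComp.sq_center {K : Subgroup G} (hK : IsComp K) {g : G} (hgK : g ∉ K) (hg2 : g ^ 2 ∈ K) :
    g ^ 2 ∈ center G := by_contra fun hZ => hgK (by
  rw [← hK.C_eq _ hg2 hZ]
  exact mem_C.2 ((Commute.refl g).pow_right 2))

theorem comm_mod_of_inverts {K : Subgroup G} {g a : G} (hg : Inverts g K) (ha : a ∈ K) (ha2 : a ^ 2 ∈ center G) :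
    g * a * g⁻¹ * a⁻¹ ∈ center G := by
  have e : g * a * g⁻¹ * a⁻¹ = (g * a * g⁻¹ * a) * (a ^ 2)⁻¹ := by rw [pow_two]; group
  rw [e]; exact mul_mem (hg a ha) (inv_mem ha2)

/-- An element of the normaliser with trivial commutator with `g` modulo the centre normalises the component of `g`. -/
theorem IsComp.mem_normalizer_of_comm {g a : G} (hK : IsComp (C g)) (hgZ : g ∉ center G)
    (h : g * a * g⁻¹ * a⁻¹ ∈ center G) : a ∈ normalizer (C g : Set G) := by
  refine hK.mem_normalizer (self_mem_C g) hgZ ?_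
  rw [show a * g * a⁻¹ = (g * a * g⁻¹ * a⁻¹)⁻¹ * g by group]
  exact mul_mem (center_le_C g (inv_mem h)) (self_mem_C g)

namespace MixedCase

theorem isComp_two (h : MixedCase G v v' p) (hp2 : p ≠ 2) {x : G} (hx : IsPEl 2 x) (hxZ : x ∉ center G) :
    IsComp (C x) ∧ Nat.card (C x) = v :=
  ⟨h.isComp h.two hxZ (h.value_of_ne Nat.prime_two hp2.symm hx hxZ), h.value_of_ne Nat.prime_two hp2.symm hx hxZ⟩

theorem exists_odd (h : MixedCase G v v' p) :
    ∃ r, r.Prime ∧ r ≠ 2 ∧ (Nat.card (center G)).factorization r < v.factorization r := by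
  obtain ⟨a, b, ha, hb, hab, hsa, hsb⟩ := h.two
  by_cases ha2 : a = 2
  · exact ⟨b, hb, fun e => hab (ha2.trans e.symm), hsb⟩
  · exact ⟨a, ha, ha2, hsa⟩

theorem exists_inverter (h : MixedCase G v v' p) (hp2 : p ≠ 2) {K : Subgroup G} (hK : IsComp K)
    (h2 : HasPart K 2) (d2 : 2 ∣ K.index) :
    ∃ g : G, IsPEl 2 g ∧ g ∈ normalizer (K : Set G) ∧ g ∉ K ∧ g ^ 2 ∈ center G ∧ g ∉ center G ∧ Inverts g K ∧
      IsComp (C g) ∧ Nat.card (C g) = v := by
  obtain ⟨g₀, -, hg₀, hg₀N, hg₀K⟩ := outside_in (H := ⊤) Nat.prime_two le_top (hK.centIn 2) h2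
    (fun k hk _ hkZ => by rw [top_inf_eq]; exact hK.C_eq k hk hkZ) (by rwa [relIndex_top_right])
  obtain ⟨g, hgz, hg, hgK, hg2⟩ := Pair.exists_pow_step hg₀ hg₀K
  have hgN : g ∈ normalizer (K : Set G) := zpowers_le.2 hg₀N hgz
  have hgZ : g ∉ center G := fun hc => hgK (hK.center_le hc)
  exact ⟨g, hg, hgN, hgK, hK.sq_center hgK hg2, hgZ, hK.inverts_all hg hgN hgK hg2, h.isComp_two hp2 hg hgZ⟩

/-- A component has only one involution modulo the centre. -/
theorem unique_inv (h : MixedCase G v v' p) (hp2 : p ≠ 2) {K : Subgroup G} (hK : IsComp K) (h2 : HasPart K 2)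
    (d2 : 2 ∣ K.index) {a b : G} (haK : a ∈ K) (hbK : b ∈ K) (ha : IsPEl 2 a) (hb : IsPEl 2 b)
    (haZ : a ∉ center G) (hbZ : b ∉ center G) (ha2 : a ^ 2 ∈ center G) (hb2 : b ^ 2 ∈ center G) :
    a⁻¹ * b ∈ center G := by
  by_contra habZ
  have p2 := Nat.prime_two
  obtain ⟨g, -, -, hgK, -, hgZ, hinv, hK', hgv⟩ := h.exists_inverter hp2 hK h2 d2
  obtain ⟨r, hr, hr2, hsr⟩ := h.exists_odd
  obtain ⟨d₀, hd₀K, hd₀, hd₀Z⟩ := h.hasPart hgv hr hsr
  set D := pPart r (C g)
  have hfix : ∀ y : G, y ∈ K → IsPEl 2 y → y ∉ center G →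
      ∀ d ∈ D, y * d * y⁻¹ * d⁻¹ ∈ center G → d ∈ center G := by
    intro y hyK hy hyZ d hd hc
    by_contra hdZ
    obtain ⟨hdC, hdr⟩ := (mem_pPart hr (hK'.centIn r)).1 hd
    have hdK : d ∈ K := by
      rw [← hK.C_eq y hyK hyZ]
      exact mem_C.2 (hy.commute_of_mod_center p2 hr hr2.symm hdr hc).symm
    exact hgK (hK'.eq_of_mem hK hdC hdK hdZ ▸ self_mem_C g)
  have haN := mem_normalizer_pPart (r := r) (hK'.mem_normalizer_of_comm hgZ (comm_mod_of_inverts hinv haK ha2))
  have hbN := mem_normalizer_pPart (r := r) (hK'.mem_normalizer_of_comm hgZ (comm_mod_of_inverts hinv hbK hb2))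
  refine hd₀Z (hd₀.mem_of_pow hr (fun hc => hr2 ((Nat.prime_dvd_prime_iff_eq hr p2).1 hc))
    (pow_mem_center_of_two (fun x hx y hy => hK'.comm x (pPart_le _ _ hx) y (pPart_le _ _ hy)) p2 haN hbN ?_
      (center_le_centralizer _ ha2) (center_le_centralizer _ hb2) (hfix b hbK hb hbZ) ?_ (mem_pPart_of hd₀K hd₀)))
  · rw [(hK.comm a haK b hbK).eq, mul_inv_cancel_right, mul_inv_cancel]
    exact one_mem _
  · intro j
    refine hfix _ (mul_mem haK (pow_mem hbK j)) (ha.mul p2 (hb.pow p2 j) (hK.comm a haK _ (pow_mem hbK j))) ?_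
    intro hc
    obtain ⟨i, rfl | rfl⟩ := Nat.even_or_odd' j
    · refine haZ ((Subgroup.mul_mem_cancel_right _ ?_).1 hc)
      rw [pow_mul]; exact pow_mem hb2 i
    · have hab : a * b ∈ center G := by
        rw [pow_succ', ← mul_assoc, pow_mul] at hc
        exact (Subgroup.mul_mem_cancel_right _ (pow_mem hb2 i)).1 hc
      refine habZ ?_
      rw [show a⁻¹ * b = (a ^ 2)⁻¹ * (a * b) by rw [pow_two]; group]
      exact mul_mem (inv_mem ha2) hab

/-- The image of an involution of a component. -/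
theorem exists_tau {K : Subgroup G} (h2' : HasPart K 2) :
    ∃ τ ∈ K, IsPEl 2 τ ∧ τ ∉ center G ∧ τ ^ 2 ∈ center G := by
  obtain ⟨x, hxK, hx, hxZ⟩ := h2'
  obtain ⟨y, hyz, hy, hyZ, hy2⟩ := exists_prime_step Nat.prime_two hx hxZ
  exact ⟨y, zpowers_le.2 hxK hyz, hy, hyZ, hy2⟩

/-- The normaliser of a component is the component extended by an inverting element. -/
theorem norm_cases (h : MixedCase G v v' p) (hp2 : p ≠ 2)
    {K : Subgroup G} (hK : IsComp K) (h2 : HasPart K 2) (d2 : 2 ∣ K.index) (hKv : Nat.card K = v) {g : G}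
    (hgN : g ∈ normalizer (K : Set G)) (hgi : Inverts g K) {m : G} (hm : m ∈ normalizer (K : Set G)) :
    m ∈ K ∨ g⁻¹ * m ∈ K := by
  have p2 := Nat.prime_two
  obtain ⟨τ, hτK, hτ, hτZ, hτ2⟩ := exists_tau h2
  have hfixτ : ∀ y ∈ normalizer (K : Set G), y * τ * y⁻¹ * τ⁻¹ ∈ center G := fun y hy => by
    have hyτ : y * τ * y⁻¹ ∈ K := (mem_normalizer_iff.1 hy τ).1 hτK
    have := h.unique_inv hp2 hK h2 d2 hτK hyτ hτ (hτ.conj y) hτZ (conj_not_center hτZ y) hτ2
      (by rw [conj_pow]; exact Normal.conj_mem inferInstance _ hτ2 y)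
    rw [show y * τ * y⁻¹ * τ⁻¹ = τ * (τ⁻¹ * (y * τ * y⁻¹)) * τ⁻¹ by group]
    exact Normal.conj_mem inferInstance _ this τ
  have hodd : ∀ (e : ℕ) (y : G), e.Prime → e ≠ 2 → IsPEl e y → y ∈ normalizer (K : Set G) → y ∈ K :=
    fun e y he he2 hy hyN => by
      rw [← hK.C_eq τ hτK hτZ]
      exact mem_C.2 (hy.commute_of_mod_center he p2 he2 hτ (hfixτ y hyN))
  obtain ⟨r, hr, hr2, hsr⟩ := h.exists_odd
  obtain ⟨k, hkK, hk, hkZ⟩ : HasPart K r := exists_pel_of_lt hr (hKv.symm ▸ hsr)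
  obtain ⟨u, w, hu, huw, huz, hwz, hw, -⟩ := exists_decomp' m p2
  have hwK : w ∈ K := mem_of_parts K fun e y he hy hye => by
    by_cases he2 : e = 2
    · obtain ⟨j, hj⟩ := hye
      rcases Nat.eq_zero_or_pos j with h0 | h0
      · rw [h0, pow_zero, orderOf_eq_one_iff] at hj
        rw [hj]; exact one_mem _
      · refine absurd (((he2 ▸ dvd_pow_self e h0.ne' : 2 ∣ e ^ j).trans (dvd_of_eq hj.symm)).trans ?_) hw
        obtain ⟨i, rfl⟩ := mem_zpowers_iff.1 hy
        refine orderOf_dvd_of_pow_eq_one ?_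
        rw [← zpow_natCast, ← zpow_mul, mul_comm, zpow_mul, zpow_natCast, pow_orderOf_eq_one, one_zpow]
    · exact hodd e y he he2 hye (zpowers_le.2 (zpowers_le.2 hm hwz) hy)
  have huN : u ∈ normalizer (K : Set G) := zpowers_le.2 hm huz
  suffices hcases : u ∈ K ∨ g⁻¹ * u ∈ K by
    rw [← huw, ← mul_assoc]
    exact hcases.imp (fun hh => mul_mem hh hwK) fun hh => mul_mem hh hwK
  by_cases huK : u ∈ K
  · exact Or.inl huK
  right
  by_cases hu2 : u ^ 2 ∈ K
  · have hui := hK.inverts_all hu huN huK hu2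
    have hcN : g⁻¹ * u ∈ normalizer (K : Set G) := mul_mem (inv_mem hgN) huN
    have hcm : CentralisesMod (g⁻¹ * u) K := fun a ha => by
      have hua : u * a * u⁻¹ ∈ K := (mem_normalizer_iff.1 huN a).1 ha
      have hb : g⁻¹ * (u * a * u⁻¹) * g ∈ K := by
        simpa using (mem_normalizer_iff.1 (inv_mem hgN) _).1 hua
      have i1 := inverts_mk hgi hb
      have i2 := inverts_mk hui ha
      rw [← QuotientGroup.eq_one_iff]
      simp only [QuotientGroup.mk_mul, QuotientGroup.mk_inv] at i1 i2 ⊢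
      generalize (g : G ⧸ center G) = g', (u : G ⧸ center G) = u', (a : G ⧸ center G) = a' at *
      rw [i2] at i1
      have i3 : g'⁻¹ * a'⁻¹ * g' = a' := by
        have e : g' * (g'⁻¹ * a'⁻¹ * g') * g'⁻¹ = a'⁻¹ := by group
        rw [e] at i1
        exact (inv_injective i1).symm
      calc g'⁻¹ * u' * a' * (g'⁻¹ * u')⁻¹ * a'⁻¹ = g'⁻¹ * (u' * a' * u'⁻¹) * g' * a'⁻¹ := by group
        _ = 1 := by rw [i2, i3, mul_inv_cancel]
    refine mem_of_parts K fun e y he hy hye => ?_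
    have hyc := hcm.of_zpowers hy
    by_cases he2 : e = 2
    · rw [← hK.C_eq k hkK hkZ]
      exact mem_C.2 (hye.commute_of_mod_center he hr (he2 ▸ hr2.symm) hk (hyc k hkK))
    · exact hodd e y he he2 hye (zpowers_le.2 hcN hy)
  exfalso
  obtain ⟨w', hw'z, hw'2, hw'K, hw'sq⟩ := Pair.exists_pow_step (hu.pow p2 2) hu2
  obtain ⟨i, hi⟩ := mem_zpowers_iff.1 hw'z
  set y := u ^ i with hy
  have hyw : y ^ 2 = w' := by
    rw [← hi, hy, ← zpow_natCast, ← zpow_natCast, ← zpow_mul, ← zpow_mul, mul_comm]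
  have hyN : y ∈ normalizer (K : Set G) := zpow_mem huN i
  have hyp : IsPEl 2 y := isPEl_of_mem p2 (isPGroup_zpowers hu) (zpow_mem (mem_zpowers u) i)
  have hw'N : w' ∈ normalizer (K : Set G) := hyw ▸ pow_mem hyN 2
  have hw'Z : w' ∉ center G := fun hc => hw'K (hK.center_le hc)
  have hwi := hK.inverts_all hw'2 hw'N hw'K hw'sq
  obtain ⟨hK', hK'v⟩ := h.isComp_two hp2 hw'2 hw'Z
  have hyK' : y ∈ C w' := hyw ▸ mem_C.2 ((Commute.refl y).pow_right 2)
  have hτN : τ ∈ normalizer (C w' : Set G) :=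
    hK'.mem_normalizer_of_comm hw'Z (comm_mod_of_inverts hwi hτK hτ2)
  have hτK' : τ ∉ C w' := fun hc => hw'K (by
    rw [← hK.C_eq τ hτK hτZ]
    exact mem_C.2 (mem_C.1 hc).symm)
  have hτi := hK'.inverts_all hτ hτN hτK' (hK'.center_le hτ2)
  have e1 := hτi y hyK'
  have e2 := hfixτ y hyN
  refine hw'K (hK.center_le ?_)
  rw [← hyw]
  have e : y ^ 2 = y * ((y * τ * y⁻¹ * τ⁻¹) * (τ * y * τ⁻¹ * y)) * y⁻¹ := by
    rw [pow_two]; group
  rw [e]
  exact Normal.conj_mem inferInstance _ (mul_mem e2 e1) y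

/-- The non-full prime is odd. -/
theorem false_nonfull_two (h : MixedCase G v v' p) (hp2 : p ≠ 2)
    (hnf : ∀ x : G, x ∉ center G → Nat.card (C x) = v → HasPart (C x) 2 ∧ 2 ∣ (C x).index) : False := by
  classical
  have p2 := Nat.prime_two
  obtain ⟨u, huZ, hu⟩ := h.exists_fst
  have hK₀ := h.isComp h.two huZ hu
  set N₀ := normalizer (C u : Set G)
  set Cmp := {K : Subgroup G // ∃ x, x ∉ center G ∧ Nat.card (C x) = v ∧ K = C x}
  have hcomp : ∀ K : Cmp, IsComp K.1 ∧ Nat.card K.1 = v ∧ HasPart K.1 2 ∧ 2 ∣ K.1.index := by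
    rintro ⟨_, x, hxZ, hx, rfl⟩
    exact ⟨h.isComp h.two hxZ hx, hx, hnf x hxZ hx⟩
  have hg := fun K : Cmp => h.exists_inverter hp2 (hcomp K).1 (hcomp K).2.2.1 (hcomp K).2.2.2
  choose g hg2 hgN hgK hgsq hgZ hgi hgC hgv using hg
  have htau := fun K : Cmp => exists_tau (K := K.1) (hcomp K).2.2.1
  choose τ hτK hτ hτZ hτ2 using htau
  have hcases : ∀ (K : Cmp) (m : G), m ∈ normalizer (K.1 : Set G) → m ∈ K.1 ∨ (g K)⁻¹ * m ∈ K.1 :=
    fun K m hm => h.norm_cases hp2 (hcomp K).1 (hcomp K).2.2.1 (hcomp K).2.2.2 (hcomp K).2.1 (hgN K) (hgi K) hm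
  have hcoset : ∀ (K : Cmp) (m : G), m ∈ normalizer (K.1 : Set G) → m ∉ K.1 → m ^ 2 ∈ center G := by
    intro K m hm hmK
    have ha : (g K)⁻¹ * m ∈ K.1 := (hcases K m hm).resolve_left hmK
    set a := (g K)⁻¹ * m
    have ha' : (g K)⁻¹ * a * g K ∈ K.1 := by simpa using (mem_normalizer_iff.1 (inv_mem (hgN K)) a).1 ha
    have h1 := hgi K _ ha'
    have e : m ^ 2 = g K ^ 2 * ((g K * ((g K)⁻¹ * a * g K) * (g K)⁻¹) * ((g K)⁻¹ * a * g K))⁻¹⁻¹ := by
      rw [inv_inv, show m = g K * a by simp [a], pow_two, pow_two]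
      have hc : Commute a ((g K)⁻¹ * a * g K) := (hcomp K).1.comm a ha _ ha'
      calc g K * a * (g K * a) = g K ^ 2 * (((g K)⁻¹ * a * g K) * a) := by rw [pow_two]; group
        _ = g K ^ 2 * (a * ((g K)⁻¹ * a * g K)) := by rw [hc.eq]
        _ = _ := by rw [pow_two]; group
    rw [e]
    exact mul_mem (hgsq K) (inv_mem (inv_mem h1))
  have htoinv : ∀ m : G, m ^ 2 ∈ center G → m ∉ center G →
      (m : G ⧸ center G) ≠ 1 ∧ (m : G ⧸ center G) * m = 1 := fun m hm2 hmZ =>
    ⟨fun hc => hmZ ((QuotientGroup.eq_one_iff m).1 hc), by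
      rw [← QuotientGroup.mk_mul, ← pow_two]; exact (QuotientGroup.eq_one_iff _).2 hm2⟩
  set Inv := {s : G ⧸ center G // s ≠ 1 ∧ s * s = 1}
  have hlift : ∀ s : Inv, ∃ x : G, IsPEl 2 x ∧ x ∉ center G ∧ x ^ 2 ∈ center G ∧ (x : G ⧸ center G) = s.1 := by
    rintro ⟨s, hs1, hs2⟩
    obtain ⟨x₀, rfl⟩ := QuotientGroup.mk_surjective s
    have hx2 : x₀ ^ 2 ^ 1 ∈ center G := by
      rw [pow_one, ← QuotientGroup.eq_one_iff, QuotientGroup.mk_pow, pow_two, hs2]
    obtain ⟨j, hj, hjc⟩ := exists_part_congr p2 hx2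
    have he : ((x₀ ^ j : G) : G ⧸ center G) = x₀ := ((QuotientGroup.eq).2 hjc).symm
    refine ⟨x₀ ^ j, hj, fun hc => hs1 (he ▸ (QuotientGroup.eq_one_iff _).2 hc), ?_, he⟩
    rw [← QuotientGroup.eq_one_iff, QuotientGroup.mk_pow, he, pow_two, hs2]
  have huniq : ∀ (K : Cmp) (x : G), x ∈ K.1 → x ^ 2 ∈ center G → x ∉ center G → IsPEl 2 x →
      (x : G ⧸ center G) = (τ K : G ⧸ center G) := fun K x hx hx2 hxZ hxp => QuotientGroup.eq.2
    (h.unique_inv hp2 (hcomp K).1 (hcomp K).2.2.1 (hcomp K).2.2.2 hx (hτK K) hxp (hτ K) hxZ (hτZ K) hx2 (hτ2 K))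
  -- components correspond to involutions
  let Φ : Cmp → Inv := fun K => ⟨(τ K : G ⧸ center G), htoinv _ (hτ2 K) (hτZ K)⟩
  have hΦ : Function.Bijective Φ := by
    refine ⟨fun K K' he => Subtype.ext ?_, fun s => ?_⟩
    · have he' : (τ K : G ⧸ center G) = (τ K' : G ⧸ center G) := congrArg Subtype.val he
      refine (hcomp K).1.eq_of_mem (hcomp K').1 (hτK K) ?_ (hτZ K)
      rw [show τ K = τ K' * ((τ K')⁻¹ * τ K) by group]
      exact mul_mem (hτK K') ((hcomp K').1.center_le (QuotientGroup.eq.1 he'.symm))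
    · obtain ⟨x, hx, hxZ, hx2, hxs⟩ := hlift s
      obtain ⟨hK, hKv⟩ := h.isComp_two hp2 hx hxZ
      refine ⟨⟨C x, x, hxZ, hKv, rfl⟩, Subtype.ext ?_⟩
      rw [← hxs]
      exact (huniq _ x (self_mem_C x) hx2 hxZ hx).symm
  set I := N₀.index with hI
  have hCmp : Nat.card Cmp = I := by
    let f : G ⧸ N₀ → Cmp := fun q => ⟨(C u).map (MulAut.conj q.out).toMonoidHom, q.out * u * q.out⁻¹,
      conj_not_center huZ _, by rw [card_C_conj, hu], map_C _ _⟩
    refine (Nat.card_eq_of_bijective f ⟨fun q q' he => ?_, ?_⟩).symm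
    · have he' : (C u).map (MulAut.conj q.out).toMonoidHom = (C u).map (MulAut.conj q'.out).toMonoidHom :=
        congrArg Subtype.val he
      rw [← q.out_eq', ← q'.out_eq']
      refine (QuotientGroup.eq).2 (hK₀.mem_normalizer (self_mem_C u) huZ ?_)
      have hmem : q'.out * u * q'.out⁻¹ ∈ (C u).map (MulAut.conj q'.out).toMonoidHom := ⟨u, self_mem_C u, rfl⟩
      rw [← he', mem_map_equiv, MulAut.conj_symm_apply] at hmem
      simpa [mul_assoc] using hmem
    · rintro ⟨_, x, hxZ, hx, rfl⟩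
      obtain ⟨c, hc⟩ := h.conj_comp h.two huZ hxZ hu hx
      refine ⟨QuotientGroup.mk c, Subtype.ext ?_⟩
      obtain ⟨m, hm⟩ := QuotientGroup.mk_out_eq_mul N₀ c
      show (C u).map (MulAut.conj (QuotientGroup.mk c : G ⧸ N₀).out).toMonoidHom = C x
      rw [hm, ← hc]
      have hm' := mem_normalizer_iff_map_conj_eq.1 m.2
      conv_rhs => rw [← hm', map_map]
      congr 1
      ext y; simp [mul_assoc]
  set z := Nat.card (center G) with hz
  set k := Nat.card (modCenter (C u)) with hkdef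
  have hkz : ∀ K : Cmp, Nat.card (modCenter K.1) = k := fun K => by
    have h1 := CfsgLib.Solvable.Basic.card_map_mk_of_le (center G) K.1 (hcomp K).1.center_le
    have h2 := CfsgLib.Solvable.Basic.card_map_mk_of_le (center G) (C u) (center_le_C u)
    rw [(hcomp K).2.1] at h1
    rw [hu] at h2
    exact Nat.eq_of_mul_eq_mul_right Nat.card_pos (h1.trans h2.symm)
  -- pairs of involutions
  let T : Cmp → Type _ := fun K => {t : G ⧸ center G // ∃ m ∈ normalizer (K.1 : Set G), m ∉ K.1 ∧ (m : G ⧸ center G) = t}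
  let U : Cmp → Type _ := fun K => {c : G ⧸ center G // c ∈ modCenter K.1 ∧ c ≠ 1}
  have hT : ∀ K, Nat.card (T K) = k := fun K => by
    rw [← hkz K]
    refine Nat.card_congr
      { toFun := fun t => ⟨(g K : G ⧸ center G)⁻¹ * t.1, by
          obtain ⟨m, hm, hmK, hmt⟩ := t.2
          exact ⟨(g K)⁻¹ * m, (hcases K m hm).resolve_left hmK, by rw [← hmt]; rfl⟩⟩
        invFun := fun c => ⟨(g K : G ⧸ center G) * c.1, by
          obtain ⟨a, ha, hac⟩ := c.2
          exact ⟨g K * a, mul_mem (hgN K) (le_normalizer ha), fun hc => hgK K ((mul_mem_cancel_right ha).1 hc),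
            by rw [← hac]; rfl⟩⟩
        left_inv := fun t => Subtype.ext (mul_inv_cancel_left _ _)
        right_inv := fun c => Subtype.ext (inv_mul_cancel_left _ _) }
  have hU : ∀ K, Nat.card (U K) = k - 1 := fun K => by
    have hsub : {c : G ⧸ center G | c ∈ modCenter K.1 ∧ c ≠ 1} = (modCenter K.1 : Set (G ⧸ center G)) \ {1} := rfl
    show Nat.card ({c : G ⧸ center G | c ∈ modCenter K.1 ∧ c ≠ 1} : Set (G ⧸ center G)) = _
    rw [hsub, Nat.card_coe_set_eq, Set.ncard_sdiff (Set.singleton_subset_iff.2 (one_mem _)),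
      Set.ncard_singleton, ← Nat.card_coe_set_eq, ← hkz K]
    rfl
  let F : (Σ K : Cmp, T K × U K) → {q : Inv × Inv // q.1 ≠ q.2} := fun x => ⟨(⟨x.2.1.1, by
      obtain ⟨m, hm, hmK, hmt⟩ := x.2.1.2
      exact hmt ▸ htoinv m (hcoset x.1 m hm hmK) fun hc => hmK ((hcomp x.1).1.center_le hc)⟩,
    ⟨x.2.2.1 * x.2.1.1, by
      obtain ⟨m, hm, hmK, hmt⟩ := x.2.1.2
      obtain ⟨a, ha, hac⟩ := x.2.2.2.1
      have hamK : a * m ∉ x.1.1 := fun hc => hmK ((mul_mem_cancel_left ha).1 hc)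
      have := htoinv (a * m) (hcoset x.1 _ (mul_mem (le_normalizer ha) hm) hamK)
        fun hc => hamK ((hcomp x.1).1.center_le hc)
      rw [← hmt, ← hac]
      exact this⟩), fun he => x.2.2.2.2 (by
        have he' : x.2.1.1 = x.2.2.1 * x.2.1.1 := congrArg Subtype.val he
        exact mul_eq_right.1 he'.symm)⟩
  have hF : Function.Bijective F := by
    refine ⟨?_, ?_⟩
    · rintro ⟨K, ⟨t, ht⟩, ⟨c, hc⟩⟩ ⟨K', ⟨t', ht'⟩, ⟨c', hc'⟩⟩ he
      have h1 : t = t' := congrArg (fun q => q.1.1.1) he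
      have h2 : c * t = c' * t' := congrArg (fun q => q.1.2.1) he
      subst h1
      have h3 : c = c' := mul_right_cancel h2
      subst h3
      have hKK : K = K' := by
        obtain ⟨a, ha, hac⟩ := hc.1
        obtain ⟨a', ha', hac'⟩ := hc'.1
        refine Subtype.ext ((hcomp K).1.eq_of_mem (hcomp K').1 ha ?_ fun haZ => hc.2 ?_)
        · rw [show a = a' * (a'⁻¹ * a) by group]
          exact mul_mem ha' ((hcomp K').1.center_le (QuotientGroup.eq.1 (hac'.trans hac.symm)))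
        · rw [← hac]; exact (QuotientGroup.eq_one_iff a).2 haZ
      subst hKK
      rfl
    · rintro ⟨⟨⟨t, ht⟩, ⟨s, hs⟩⟩, hne⟩
      obtain ⟨m, hm, hmZ, hm2, hmt⟩ := hlift ⟨t, ht⟩
      obtain ⟨x, hx⟩ := QuotientGroup.mk_surjective (s * t)
      simp only at hmt
      have htinv : t⁻¹ = t := inv_eq_of_mul_eq_one_right ht.2
      have hsinv : s⁻¹ = s := inv_eq_of_mul_eq_one_right hs.2
      have hst : s * t ≠ 1 := fun hc => hne (Subtype.ext (by
        have := eq_inv_of_mul_eq_one_left hc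
        rw [htinv] at this; exact this.symm))
      have hxZ : x ∉ center G := fun hc => hst (hx ▸ (QuotientGroup.eq_one_iff x).2 hc)
      have hinv : t * (s * t) * t⁻¹ * (s * t) = 1 := by
        rw [htinv]
        calc t * (s * t) * t * (s * t) = t * s * (t * t) * (s * t) := by simp only [mul_assoc]
          _ = t * (s * s) * t := by rw [ht.2, mul_one]; simp only [mul_assoc]
          _ = 1 := by rw [hs.2, mul_one, ht.2]
      have hmx : m * x * m⁻¹ * x ∈ center G := by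
        rw [← QuotientGroup.eq_one_iff]
        simp only [QuotientGroup.mk_mul, QuotientGroup.mk_inv, hmt, hx]
        exact hinv
      rcases h.sizes x hxZ with hv | hv
      · let K : Cmp := ⟨C x, x, hxZ, hv, rfl⟩
        have hmN : m ∈ normalizer (K.1 : Set G) := (hcomp K).1.mem_normalizer (self_mem_C x) hxZ (by
          rw [show m * x * m⁻¹ = (m * x * m⁻¹ * x) * x⁻¹ by group]
          exact mul_mem (center_le_C x hmx) (inv_mem (self_mem_C x)))
        have hmK : m ∉ K.1 := fun hmK => by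
          have hx2 : x ^ 2 ^ 1 ∈ center G := by
            rw [pow_one, pow_two]; rwa [(mem_C.1 hmK).eq, mul_inv_cancel_right] at hmx
          obtain ⟨j, hj, hjc⟩ := exists_part_congr p2 hx2
          have he : ((x ^ j : G) : G ⧸ center G) = x := ((QuotientGroup.eq).2 hjc).symm
          have hjZ : x ^ j ∉ center G := fun hc =>
            hxZ ((QuotientGroup.eq_one_iff x).1 (he ▸ (QuotientGroup.eq_one_iff _).2 hc))
          have h1 := huniq K (x ^ j) (pow_mem (self_mem_C x) j)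
            (by rw [← pow_mul, mul_comm, pow_mul]; exact pow_mem (by simpa using hx2) j) hjZ hj
          have h2 := huniq K m hmK hm2 hmZ hm
          have h3 : s * t = t := by rw [← hx, ← he, h1, ← h2, hmt]
          exact hs.1 (mul_eq_right.1 h3)
        refine ⟨⟨K, ⟨t, m, hmN, hmK, hmt⟩, ⟨s * t, ⟨x, self_mem_C x, hx⟩, hst⟩⟩, Subtype.ext (Prod.ext rfl ?_)⟩
        refine Subtype.ext ?_
        show s * t * t = s
        rw [mul_assoc, ht.2, mul_one]
      · obtain ⟨a, -, ha, hax⟩ := exists_p_rep (x := x) h.hp fun q y hq hqp hy hyx =>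
          h.central_in hv hq hqp hy (zpowers_le.2 (self_mem_C x) hyx)
        have hae : (a : G ⧸ center G) = x := QuotientGroup.eq.2 hax
        refine (h.false_p_inverted hp2 ha (fun hc => hxZ ((QuotientGroup.eq_one_iff x).1
          (hae ▸ (QuotientGroup.eq_one_iff _).2 hc))) hm ?_).elim
        rw [← QuotientGroup.eq_one_iff]
        simp only [QuotientGroup.mk_mul, QuotientGroup.mk_inv, hmt, hae, hx]
        exact hinv
  have hInv : Nat.card Inv = I := hCmp ▸ (Nat.card_eq_of_bijective Φ hΦ).symm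
  have hL : Nat.card {q : Inv × Inv // q.1 ≠ q.2} = I * (I - 1) := by
    rw [Nat.card_congr (Equiv.subtypeProdEquivSigmaSubtype fun a b : Inv => a ≠ b)]
    haveI := Fintype.ofFinite Inv
    rw [Nat.card_sigma]
    have : ∀ a : Inv, Nat.card {b : Inv // a ≠ b} = I - 1 := fun a => by
      have hset : {b : Inv | a ≠ b} = ({a} : Set Inv)ᶜ := by ext b; simp [eq_comm]
      show Nat.card ({b : Inv | a ≠ b} : Set Inv) = _
      rw [hset, Nat.card_coe_set_eq, Set.ncard_compl, Set.ncard_singleton, hInv]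
    rw [Finset.sum_congr rfl fun a _ => this a, Finset.sum_const, smul_eq_mul, Finset.card_univ,
      ← Nat.card_eq_fintype_card, hInv]
  have hR : Nat.card (Σ K : Cmp, T K × U K) = I * (k * (k - 1)) := by
    haveI := Fintype.ofFinite Cmp
    rw [Nat.card_sigma, Finset.sum_congr rfl fun K _ => (Nat.card_prod (T K) (U K)).trans (by rw [hT, hU]),
      Finset.sum_const, smul_eq_mul, Finset.card_univ, ← Nat.card_eq_fintype_card, hCmp]
  have hIpos : 0 < I := Nat.pos_of_ne_zero Subgroup.index_ne_zero_of_finite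
  have hIk : I - 1 = k * (k - 1) :=
    Nat.eq_of_mul_eq_mul_left hIpos (hL ▸ hR ▸ (Nat.card_eq_of_bijective F hF).symm)
  -- orders
  have hkv : k * z = v := hu ▸ CfsgLib.Solvable.Basic.card_map_mk_of_le (center G) (C u) (center_le_C u)
  have hk0 : k ≠ 0 := Nat.card_pos.ne'
  have hz0 : z ≠ 0 := Nat.card_pos.ne'
  have hkfac : ∀ r, v.factorization r = k.factorization r + z.factorization r := fun r => by
    rw [← hkv, Nat.factorization_mul hk0 hz0, Finsupp.add_apply]
  obtain ⟨r, hr, hr2, hsr⟩ := h.exists_odd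
  have hkdvd : ∀ e, e.Prime → z.factorization e < v.factorization e → e ∣ k := fun e he hs =>
    Nat.dvd_of_factorization_pos (by have := hkfac e; omega)
  have hs2 : z.factorization 2 < v.factorization 2 := h.v_gt p2 hp2.symm h.inPi_two
  have hk6 : 6 ≤ k := by
    have h1 : 2 * r ∣ k := ((Nat.coprime_primes p2 hr).2 hr2.symm).mul_dvd_of_dvd_of_dvd (hkdvd 2 p2 hs2)
      (hkdvd r hr hsr)
    have := Nat.le_of_dvd (Nat.pos_of_ne_zero hk0) h1
    have h3 : 3 ≤ r := lt_of_le_of_ne hr.two_le (Ne.symm hr2)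
    omega
  have hIodd : ¬ 2 ∣ I := fun hd => by
    have h1 : 2 ∣ k * (k - 1) := (hkdvd 2 p2 hs2).trans (dvd_mul_right _ _)
    rw [← hIk] at h1
    omega
  have hIp : ∀ e, e.Prime → e ∣ I → e = p := fun e he hd => by
    by_contra hep
    have hdK : e ∣ (C u).index := hd.trans (index_dvd_of_le le_normalizer)
    obtain ⟨pn, dn⟩ := hnf u huZ hu
    refine hK₀.unique p2 he (fun e2 => hIodd (e2 ▸ hd)) pn
      (h.hasPart hu he (h.v_gt he hep (hK₀.inPi_of_dvd he hdK))) dn hdK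
  set a := I.primeFactorsList.length
  have hIa : I = p ^ a := by
    conv_lhs => rw [← Nat.prod_primeFactorsList hIpos.ne']
    exact List.prod_eq_pow_card _ _ fun e he =>
      hIp e (Nat.prime_of_mem_primeFactorsList he) (Nat.dvd_of_mem_primeFactorsList he)
  have hGcard : Nat.card G = I * (2 * v) := by
    have h1 := N₀.card_mul_index
    have h2 : Nat.card N₀ = 2 * v := by
      let K : Cmp := ⟨C u, u, huZ, hu, rfl⟩
      have h3 : ((C u).subgroupOf N₀).index = 2 := by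
        refine index_eq_two_iff.2 ⟨⟨g K, hgN K⟩, fun b => ?_⟩
        by_cases hb : (b : G) ∈ C u
        · exact Or.inr ⟨hb, fun hc => hgK K ((mul_mem_cancel_left hb).1 hc)⟩
        · refine Or.inl ⟨?_, hb⟩
          have ha : (g K)⁻¹ * (b : G) ∈ C u := (hcases K b b.2).resolve_left hb
          show (b : G) * g K ∈ C u
          rw [show (b : G) * g K = g K ^ 2 * ((g K)⁻¹ * ((g K)⁻¹ * b) * g K) by rw [pow_two]; group]
          exact mul_mem (center_le_C u (hgsq K)) (by simpa using (mem_normalizer_iff.1 (inv_mem (hgN K)) _).1 ha)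
      have h4 := ((C u).subgroupOf N₀).card_mul_index
      rw [h3, Nat.card_congr (Subgroup.subgroupOfEquivOfLe le_normalizer).toEquiv, hu] at h4
      rw [← h4, mul_comm]
    rw [← h1, h2, mul_comm]
  haveI := Fact.mk h.hp
  obtain ⟨P⟩ : Nonempty (Sylow p G) := inferInstance
  have hnorm : normalizer ((P : Subgroup G) : Set G) = (P : Subgroup G) ⊔ center G :=
    le_antisymm (h.normalizer_sylow P.2 P.not_dvd_index) (sup_le le_normalizer (center_le_normalizer _))
  have hPb : Nat.card (((P : Subgroup G) ⊔ center G).map (QuotientGroup.mk' (center G))) = p ^ a := by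
    have hmap : ((P : Subgroup G) ⊔ center G).map (QuotientGroup.mk' (center G)) =
        (P : Subgroup G).map (QuotientGroup.mk' (center G)) := by
      rw [Subgroup.map_eq_map_iff, sup_assoc, QuotientGroup.ker_mk', sup_idem]
    rw [hmap]
    have hd : ¬ p ∣ ((P : Subgroup G).map (QuotientGroup.mk' (center G))).index := fun hd =>
      P.not_dvd_index (hd.trans (index_map_dvd _ (QuotientGroup.mk'_surjective _)))
    have h1 := ((P.2.map (QuotientGroup.mk' (center G))).toSylow hd).card_eq_multiplicity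
    have hGb : Nat.card (G ⧸ center G) = I * (2 * k) := by
      refine Nat.eq_of_mul_eq_mul_right (Nat.pos_of_ne_zero hz0) ?_
      rw [hz, ← index_eq_card, mul_comm, card_mul_index, hGcard, ← hkv, ← hz]
      ring
    refine h1.trans ?_
    rw [hGb, hIa, Nat.factorization_mul (pow_pos h.hp.pos a).ne' (mul_ne_zero two_ne_zero hk0),
      Nat.factorization_mul two_ne_zero hk0, Finsupp.add_apply, Finsupp.add_apply, h.hp.factorization_pow,
      Finsupp.single_eq_same, p2.factorization, Finsupp.single_eq_of_ne hp2]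
    have := hkfac p
    have : v.factorization p ≤ z.factorization p := h.p_small
    congr 1
    omega
  have hnp : Nat.card (Sylow p G) = 2 * k := by
    have h0 : Nat.card (Sylow p G) = ((P : Subgroup G) ⊔ center G).index :=
      P.card_eq_index_normalizer.trans (congrArg Subgroup.index hnorm)
    have h1 := ((P : Subgroup G) ⊔ center G).card_mul_index
    rw [← h0,
      ← CfsgLib.Solvable.Basic.card_map_mk_of_le (center G) ((P : Subgroup G) ⊔ center G) le_sup_right, hPb,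
      hGcard, hIa, ← hkv, ← hz] at h1
    refine Nat.eq_of_mul_eq_mul_left (Nat.pos_of_ne_zero (mul_ne_zero (pow_pos h.hp.pos a).ne' hz0)) (h1.trans ?_)
    ring
  have hmod : p ∣ 2 * k - 1 := (Nat.modEq_iff_dvd' (by omega)).1 (hnp ▸ card_sylow_modEq_one p G).symm
  have hsq : 4 * I = (2 * k - 1) ^ 2 + 3 := by
    obtain ⟨j, hj⟩ : ∃ j, k = j + 1 := ⟨k - 1, by omega⟩
    rw [hj] at hIk ⊢
    have h1 : I = (j + 1) * j + 1 := by
      rw [Nat.add_sub_cancel] at hIk; omega
    rw [h1, show 2 * (j + 1) - 1 = 2 * j + 1 by omega]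
    ring
  have ha0 : a ≠ 0 := fun e => by
    rw [e, pow_zero] at hIa
    rw [hIa] at hsq
    have : 5 ≤ 2 * k - 1 := by omega
    nlinarith
  have hp3 : p = 3 := by
    have h1 : p ∣ (2 * k - 1) ^ 2 + 3 := hsq ▸ (hIa ▸ dvd_pow_self p ha0).mul_left 4
    exact (Nat.prime_dvd_prime_iff_eq h.hp Nat.prime_three).1 ((Nat.dvd_add_right (dvd_pow hmod two_ne_zero)).1 h1)
  rcases Nat.lt_or_ge a 2 with ha2 | ha2
  · rw [show a = 1 by omega, hp3, pow_one] at hIa
    rw [hIa] at hsq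
    have : 5 ≤ 2 * k - 1 := by omega
    nlinarith
  · have h1 : 9 ∣ (2 * k - 1) ^ 2 + 3 := hsq ▸ (hIa ▸ (by rw [hp3]; exact pow_dvd_pow 3 ha2) : 9 ∣ I).mul_left 4
    have h2 : 9 ∣ (2 * k - 1) ^ 2 := by
      obtain ⟨c, hc⟩ := hp3 ▸ hmod
      exact ⟨c ^ 2, by rw [hc]; ring⟩
    exact absurd ((Nat.dvd_add_right h2).1 h1) (by decide)

theorem false_mixed (h : MixedCase G v v' p) : False := by
  by_cases hp2 : p = 2
  · exact h.false_p_two hp2
  obtain ⟨n, hn, -, hnf⟩ := h.exists_nonfull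
  have := h.nonfull_two hp2 hn hnf
  subst this
  exact h.false_nonfull_two hp2 hnf

end MixedCase

end CfsgLib.Frobenius.ThreeSizes
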