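import Cfsg.Agent.Lib.Frobenius.ThreeSizes.DivEnd
import Cfsg.Agent.Lib.Frobenius.ThreeSizes.MixedTwo

/-!
# Three class sizes imply solvability

Assembly of the divisible and the non-divisible cases.
-/

set_option autoImplicit false
set_option linter.style.haveILetI false
set_option linter.unusedSectionVars false

namespace CfsgLib.Frobenius.ThreeSizes

open Subgroup

variable {G : Type*} [Group G] [Finite G] {v v' : ℕ}

theorem exists_prime_of_not_twoParts (hv : ¬ TwoParts G v) :
    ∃ p : ℕ, p.Prime ∧ ∀ q : ℕ, q.Prime → q ≠ p → v.factorization q ≤ (Nat.card (center G)).factorization q := by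
  by_cases hex : ∃ p, p.Prime ∧ (Nat.card (center G)).factorization p < v.factorization p
  · obtain ⟨p, hp, hs⟩ := hex
    exact ⟨p, hp, fun q hq hne => not_lt.1 fun hlt => hv ⟨p, q, hp, hq, hne.symm, hs, hlt⟩⟩
  · push Not at hex
    exact ⟨2, Nat.prime_two, fun q hq _ => hex q hq⟩

theorem NonDiv.false (h : NonDiv G v v') : False := by
  by_cases h1 : TwoParts G v <;> by_cases h2 : TwoParts G v'
  · exact h.false_both h1 h2
  · obtain ⟨p, hp, hm⟩ := exists_prime_of_not_twoParts h2
    exact MixedCase.false_mixed (v := v) (v' := v') (p := p)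
      { toNonDiv := h, two := h1, hp := hp, mono := hm }
  · obtain ⟨p, hp, hm⟩ := exists_prime_of_not_twoParts h1
    exact MixedCase.false_mixed (v := v') (v' := v) (p := p)
      { toNonDiv := h.symm, two := h2, hp := hp, mono := hm }
  · obtain ⟨p, hp, hm⟩ := exists_prime_of_not_twoParts h1
    obtain ⟨q, hq, hn⟩ := exists_prime_of_not_twoParts h2
    refine h.not_solvable (solvable_of_inRad hp hq fun r x hr hrp hrq hx hxZ => ?_)
    exfalso
    have hlt := factorization_lt_of_mem (center_le_C x) hr (self_mem_C x) hx hxZ
    rcases h.sizes x hxZ with e | e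
    · exact absurd (e ▸ hlt) (not_lt.2 (hm r hr hrp))
    · exact absurd (e ▸ hlt) (not_lt.2 (hn r hr hrq))

/-- A group with two centraliser orders of non-central elements is solvable. -/
theorem solvable_of_sizes {s b : ℕ} (hS : Sizes G s b) : Group.IsSolvable G := by
  by_cases hd : s ∣ b
  · exact solvable_of_dvd hS hd
  by_contra hns
  exact NonDiv.false (v := s) (v' := b)
    { sizes := hS.sizes
      ndvd := hd
      ndvd' := fun h => by
        obtain ⟨w, -, hw⟩ := hS.exists_small
        exact absurd (Nat.le_of_dvd (hw ▸ Nat.card_pos) h) (not_le.2 hS.lt)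
      exists_fst := hS.exists_small
      exists_snd := hS.exists_big
      not_solvable := hns }

end CfsgLib.Frobenius.ThreeSizes
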