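import Cfsg.Agent.Lib.Frobenius.ThreeSizes.NonDiv
import Cfsg.Agent.Lib.Involution.BaerSuzuki

/-!
# Two centraliser orders, one a prime power modulo the centre

The components have exactly one prime at which they are not Sylow subgroups. If that prime is odd then no element
of odd order is inverted modulo the centre, and Baer's theorem gives a contradiction in an insoluble group.
-/

set_option autoImplicit false
set_option linter.style.haveILetI false
set_option linter.unusedSectionVars false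

namespace CfsgLib.Frobenius.ThreeSizes

open Subgroup

variable {G : Type*} [Group G] [Finite G] {v v' p : ℕ}

/-- One order has two primes, the other only the prime `p`. -/
structure MixedCase (G : Type*) [Group G] (v v' p : ℕ) : Prop extends NonDiv G v v' where
  two : TwoParts G v
  hp : p.Prime
  mono : ∀ q : ℕ, q.Prime → q ≠ p → v'.factorization q ≤ (Nat.card (center G)).factorization q

/-- An element of prime power order outside `H` has a power outside `H` whose `r`-th power is in `H`. -/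
theorem exists_prime_step {r : ℕ} (hr : r.Prime) {H : Subgroup G} {x : G} (hx : IsPEl r x) (hxH : x ∉ H) :
    ∃ y ∈ zpowers x, IsPEl r y ∧ y ∉ H ∧ y ^ r ∈ H := by
  obtain ⟨k, hk⟩ := hx
  have h1 : ∃ j, x ^ r ^ j ∈ H := ⟨k, by rw [← hk, pow_orderOf_eq_one]; exact one_mem _⟩
  classical
  have hj := Nat.find_spec h1
  have hj0 : Nat.find h1 ≠ 0 := fun e => hxH (by rw [e, pow_zero, pow_one] at hj; exact hj)
  refine ⟨x ^ r ^ (Nat.find h1 - 1), pow_mem (mem_zpowers x) _, IsPEl.pow hr ⟨k, hk⟩ _,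
    Nat.find_min h1 (by omega), ?_⟩
  rw [← pow_mul, ← pow_succ, show Nat.find h1 - 1 + 1 = Nat.find h1 by omega]
  exact hj

/-- An element whose parts for primes other than `p` are central is a `p`-element modulo the centre. -/
theorem exists_p_rep {x : G} (hp : p.Prime)
    (h : ∀ (q : ℕ) (y : G), q.Prime → q ≠ p → IsPEl q y → y ∈ zpowers x → y ∈ center G) :
    ∃ a ∈ zpowers x, IsPEl p a ∧ a⁻¹ * x ∈ center G := by
  obtain ⟨a, w, ha, haw, haz, hwz, hw, -⟩ := exists_decomp' x hp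
  refine ⟨a, haz, ha, ?_⟩
  rw [← haw, inv_mul_cancel_left]
  refine mem_of_parts _ fun q y hq hy hyq => ?_
  by_cases hqp : q = p
  · subst hqp
    obtain ⟨k, hk⟩ := hyq
    rcases Nat.eq_zero_or_pos k with h0 | h0
    · rw [h0, pow_zero, orderOf_eq_one_iff] at hk
      rw [hk]; exact one_mem _
    · refine absurd (((dvd_pow_self q h0.ne').trans (dvd_of_eq hk.symm)).trans ?_) hw
      obtain ⟨n, rfl⟩ := mem_zpowers_iff.1 hy
      refine orderOf_dvd_of_pow_eq_one ?_
      rw [← zpow_natCast, ← zpow_mul, mul_comm, zpow_mul, zpow_natCast, pow_orderOf_eq_one, one_zpow]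
  · exact h q y hq hqp hyq (zpowers_le.2 hwz hy)

/-- A `2`-element outside a component, normalising it, with square in it inverts each of its parts. -/
theorem IsComp.inverts_part {K : Subgroup G} (hK : IsComp K) {r : ℕ} (hr : r.Prime) {g : G}
    (hg : IsPEl 2 g) (hgN : g ∈ normalizer (K : Set G)) (hgK : g ∉ K) (hg2 : g ^ 2 ∈ K) :
    Inverts g (pPart r K) := by
  by_cases hr2 : r = 2
  · subst hr2
    exact inverts_two_in (H := ⊤) le_top hK.ne_top (hK.centIn 2)
      (fun k hk _ hkZ => by rw [top_inf_eq]; exact hK.C_eq k hk hkZ) (mem_top g) hg hgN hgK hg2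
  · exact inverts_of_no_fixed (fun a ha b hb => hK.comm a (pPart_le _ _ ha) b (pPart_le _ _ hb))
      (mem_normalizer_pPart hgN) (mem_centralizer_iff.2 fun a ha => (hK.comm a (pPart_le _ _ ha) _ hg2).eq)
      fun d hd hc => by_contra fun hdZ => hgK (by
        rw [← hK.C_eq d (pPart_le _ _ hd) hdZ]; exact mem_C.2 hc)

/-- Only elements of `K` are in the normaliser of a component with an odd non-full prime, among `2`-elements. -/
theorem IsComp.no_involution {K : Subgroup G} (hK : IsComp K) {n r : ℕ} (hn : n.Prime) (hr : r.Prime)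
    (hnr : n ≠ r) (hn2 : n ≠ 2) (pn : HasPart K n) (pr : HasPart K r) (dn : n ∣ K.index) {g₀ : G}
    (hg₀ : IsPEl 2 g₀) (hg₀N : g₀ ∈ normalizer (K : Set G)) : g₀ ∈ K := by
  by_contra hg₀K
  obtain ⟨g, hgz, hg, hgK, hg2⟩ := Pair.exists_pow_step hg₀ hg₀K
  have hgN : g ∈ normalizer (K : Set G) := zpowers_le.2 hg₀N hgz
  obtain ⟨x, -, hx, hxN, hxK⟩ := outside_in (H := ⊤) hn le_top (hK.centIn n) pn
    (fun k hk _ hkZ => by rw [top_inf_eq]; exact hK.C_eq k hk hkZ) (by rwa [relIndex_top_right])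
  have hin := hK.inverts_part hn hg hgN hgK hg2
  have hir := hK.inverts_part hr hg hgN hgK hg2
  have hcomm : x * g * x⁻¹ * g⁻¹ ∈ K := by
    refine mem_of_parts K fun e u he hu hue => ?_
    have h1 := (centralisesMod_commutator hin (mem_normalizer_pPart hgN)
      (mem_normalizer_pPart hxN)).of_zpowers hu
    have h2 := (centralisesMod_commutator hir (mem_normalizer_pPart hgN)
      (mem_normalizer_pPart hxN)).of_zpowers hu
    by_cases hen : e = n
    · obtain ⟨k, hk, hkr, hkZ⟩ := pr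
      rw [← hK.C_eq k hk hkZ]
      exact mem_C.2 (commute_of_mem_centralizer (h2.mem_centralizer he hr (hen ▸ hnr) hue
        (isPGroup_pPart hr (hK.centIn r))) (mem_pPart_of hk hkr))
    · obtain ⟨k, hk, hkn, hkZ⟩ := pn
      rw [← hK.C_eq k hk hkZ]
      exact mem_C.2 (commute_of_mem_centralizer (h1.mem_centralizer he hn hen hue
        (isPGroup_pPart hn (hK.centIn n))) (mem_pPart_of hk hkn))
  obtain ⟨x', g', hx'N, hg'N, hx', hcm, hxx, hgg⟩ := exists_lifts (C0 := K) (N := normalizer (K : Set G))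
    le_normalizer le_rfl hn hxN hgN hx (m := 2)
    (fun hc => hn2 ((Nat.prime_dvd_prime_iff_eq hn Nat.prime_two).1 hc)) hg2 hcomm
  refine false_of_inverts hn hn2 (isPGroup_pPart hn (hK.centIn n))
    (fun hle => by obtain ⟨k, hk, hkn, hkZ⟩ := pn; exact hkZ (hle (mem_pPart_of hk hkn)))
    (fun a ha haZ => ⟨(pPart_le n K).trans (hK.C_eq a (pPart_le n K ha) haZ).ge, by
      rw [hK.C_eq a (pPart_le n K ha) haZ]; exact not_dvd_relIndex_pPart hn⟩)
    hx' (mem_normalizer_pPart hx'N)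
    (fun hc => hxK (by rw [show x = x' * (x⁻¹ * x')⁻¹ by group]; exact mul_mem (pPart_le _ _ hc) (inv_mem hxx)))
    (mem_normalizer_pPart hg'N) hcm fun a ha => ?_
  have e1 : g' * a * g'⁻¹ * a = g * ((g⁻¹ * g') * a * (g⁻¹ * g')⁻¹) * g⁻¹ * a := by group
  rw [e1, (hK.comm _ hgg a (pPart_le _ _ ha)).eq, mul_inv_cancel_right]
  exact hin a ha

namespace MixedCase

theorem value_of_ne (h : MixedCase G v v' p) {q : ℕ} (hq : q.Prime) (hqp : q ≠ p) {x : G} (hx : IsPEl q x)
    (hxZ : x ∉ center G) : Nat.card (C x) = v :=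
  (h.sizes x hxZ).resolve_right fun e => absurd
    (e ▸ factorization_lt_of_mem (center_le_C x) hq (self_mem_C x) hx hxZ) (not_lt.2 (h.mono q hq hqp))

theorem central_in (h : MixedCase G v v' p) {x : G} (hxv : Nat.card (C x) = v') {q : ℕ} (hq : q.Prime)
    (hqp : q ≠ p) {y : G} (hy : IsPEl q y) (hyC : y ∈ C x) : y ∈ center G :=
  by_contra fun hyZ => absurd (hxv ▸ factorization_lt_of_mem (center_le_C x) hq hyC hy hyZ)
    (not_lt.2 (h.mono q hq hqp))

theorem v_gt (h : MixedCase G v v' p) {r : ℕ} (hr : r.Prime) (hrp : r ≠ p) (hi : InPi G r) :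
    (Nat.card (center G)).factorization r < v.factorization r := by
  obtain ⟨x, hx, hxZ⟩ := hi
  exact h.value_of_ne hr hrp hx hxZ ▸ factorization_lt_of_mem (center_le_C x) hr (self_mem_C x) hx hxZ

theorem p_small (h : MixedCase G v v' p) : v.factorization p ≤ (Nat.card (center G)).factorization p := by
  by_contra hlt
  refine h.not_solvable (solvable_of_inRad h.hp h.hp fun q x hq hqp _ hx hxZ => ?_)
  have hxv := h.value_of_ne hq hqp hx hxZ
  refine (h.isComp h.two hxZ hxv).inRad (fun r hr hi _ => h.hasPart hxv hr ?_) (self_mem_C x) hxZ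
  by_cases hrp : r = p
  · exact hrp ▸ not_le.1 hlt
  · exact h.v_gt hr hrp hi

theorem p_value (h : MixedCase G v v' p) {x : G} (hx : IsPEl p x) (hxZ : x ∉ center G) :
    Nat.card (C x) = v' :=
  (h.sizes x hxZ).resolve_left fun e => absurd
    (e ▸ factorization_lt_of_mem (center_le_C x) h.hp (self_mem_C x) hx hxZ) (not_lt.2 h.p_small)

theorem ne_p (h : MixedCase G v v' p) {r : ℕ} (hs : (Nat.card (center G)).factorization r < v.factorization r) :
    r ≠ p := fun e => absurd hs (not_lt.2 (e ▸ h.p_small))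

theorem index_eq (h : MixedCase G v v' p) {x y : G} (hx : Nat.card (C x) = v) (hy : Nat.card (C y) = v) :
    (C x).index = (C y).index := by
  have h1 := (C x).card_mul_index
  rw [← (C y).card_mul_index, hx, hy] at h1
  exact Nat.eq_of_mul_eq_mul_left (Nat.pos_of_ne_zero fun e => h.ndvd' (by rw [e]; exact dvd_zero _)) h1

/-- Some prime of the components is not full in them. -/
theorem exists_nonfull (h : MixedCase G v v' p) : ∃ n, n.Prime ∧ n ≠ p ∧
    ∀ x : G, x ∉ center G → Nat.card (C x) = v → HasPart (C x) n ∧ n ∣ (C x).index := by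
  obtain ⟨u, huZ, hu⟩ := h.exists_fst
  have hK := h.isComp h.two huZ hu
  by_contra hcon
  push Not at hcon
  have hall : ∀ r, r.Prime → r ∣ (C u).index → r = p := fun r hr hd => by
    by_contra hrp
    obtain ⟨x, hxZ, hxv, hx⟩ := hcon r hr hrp
    exact hx (h.hasPart hxv hr (h.v_gt hr hrp (hK.inPi_of_dvd hr hd))) (h.index_eq hu hxv ▸ hd)
  refine h.not_solvable (solvable_of_inRad h.hp h.hp fun q x hq hqp _ hx hxZ => ?_)
  refine inRad_of_index h.hp ((C u).index.primeFactorsList.length) ?_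
  rw [h.index_eq (h.value_of_ne hq hqp hx hxZ) hu]
  conv_lhs => rw [← Nat.prod_primeFactorsList (Subgroup.index_ne_zero_of_finite (H := C u))]
  exact List.prod_eq_pow_card _ _ fun r hr =>
    hall r (Nat.prime_of_mem_primeFactorsList hr) (Nat.dvd_of_mem_primeFactorsList hr)

/-- A Sylow `p`-subgroup and the centre are the whole normaliser. -/
theorem normalizer_sylow (h : MixedCase G v v' p) {A : Subgroup G} (hA : IsPGroup p A) (hd : ¬ p ∣ A.index) :
    normalizer (A : Set G) ≤ A ⊔ center G := by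
  obtain ⟨u, huZ, hu⟩ := h.exists_fst
  obtain ⟨n, hn, -, hnf⟩ := h.exists_nonfull
  have hK := h.isComp h.two huZ hu
  have h1 : normalizer (C u : Set G) ≠ C u := fun e => by
    refine hK.full_of_self_norm e hn (hnf u huZ hu).1 ((hnf u huZ hu).2.trans ?_)
    exact index_dvd_of_le (pPart_le n _)
  have hle : A ⊔ center G ≤ normalizer (A : Set G) := sup_le le_normalizer (center_le_normalizer _)
  by_contra hne
  refine false_count (K₂ := A ⊔ center G) (N₂ := normalizer (A : Set G)) (center_le_C u) le_sup_right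
    le_normalizer hle (Ne.symm h1) (fun e => hne e.ge) le_rfl ?_ fun x hxZ => ?_
  · intro g hg
    rw [mem_normalizer_iff_map_conj_eq] at hg ⊢
    rw [Subgroup.map_sup, hg]
    congr 1
    refine le_antisymm ?_ fun z hz => ⟨z, hz, ?_⟩
    · rintro _ ⟨z, hz, rfl⟩
      exact Normal.conj_mem inferInstance z hz g
    · show g * z * g⁻¹ = z
      rw [mem_center_iff.1 hz g, mul_inv_cancel_right]
  · rcases h.sizes x hxZ with e | e
    · exact Or.inl (h.cover h.two huZ hu hxZ e)
    · refine Or.inr ?_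
      obtain ⟨a, -, ha, hax⟩ := exists_p_rep (x := x) h.hp fun q y hq hqp hy hyx =>
        h.central_in e hq hqp hy (zpowers_le.2 (self_mem_C x) hyx)
      obtain ⟨g, hg⟩ := exists_conj_mem h.hp hA hd ha
      refine ⟨g⁻¹, ?_⟩
      rw [show g⁻¹⁻¹ * x * g⁻¹ = (g * a * g⁻¹) * (g * (a⁻¹ * x) * g⁻¹) by group]
      exact mul_mem_sup hg (Normal.conj_mem inferInstance _ hax g)

/-- No `p`-element is inverted modulo the centre by a `2`-element, for odd `p`. -/
theorem false_p_inverted (h : MixedCase G v v' p) (hp2 : p ≠ 2) {u t : G} (hu : IsPEl p u)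
    (huZ : u ∉ center G) (ht : IsPEl 2 t) (hinv : t * u * t⁻¹ * u ∈ center G) : False := by
  have p2 := Nat.prime_two
  have h2p : ¬ p ∣ 2 := fun hc => hp2 ((Nat.prime_dvd_prime_iff_eq h.hp p2).1 hc)
  set π := QuotientGroup.mk' (center G)
  set Hb := C (π u) with hHb
  set H := Hb.comap π
  have hmemH : ∀ {f : G}, f ∈ H ↔ f * u * f⁻¹ * u⁻¹ ∈ center G := fun {f} => by
    rw [mem_comap, hHb, mem_C, ← QuotientGroup.eq_one_iff, Commute, SemiconjBy, ← mul_inv_eq_iff_eq_mul,
      ← mul_inv_eq_one]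
    rfl
  have huv := h.p_value hu huZ
  have hHp : ∀ (q : ℕ) (y : G), q.Prime → q ≠ p → IsPEl q y → y ∈ H → y ∈ center G := fun q y hq hqp hy hyH =>
    h.central_in huv hq hqp hy (mem_C.2 (hy.commute_of_mod_center hq h.hp hqp hu (hmemH.1 hyH)))
  have htH : t ∉ H := fun hc => huZ (hu.mem_of_pow h.hp h2p (by
    have hc' := commute_of_mem_centralizer (A := zpowers u) (mem_centralizer_iff.2 fun a ha => by
      obtain ⟨i, rfl⟩ := mem_zpowers_iff.1 ha
      exact ((ht.commute_of_mod_center p2 h.hp hp2.symm hu (hmemH.1 hc)).zpow_right i).symm.eq) (mem_zpowers u)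
    rw [pow_two]
    rwa [hc'.eq, mul_inv_cancel_right] at hinv))
  have htu : π t * π u * (π t)⁻¹ = (π u)⁻¹ :=
    eq_inv_of_mul_eq_one_left (by simpa [π] using (QuotientGroup.eq_one_iff _).2 hinv)
  have htN : π t ∈ normalizer (Hb : Set (G ⧸ center G)) := by
    refine mem_normalizer_iff.2 fun w => ?_
    rw [hHb, mem_C, mem_C]
    have e : Commute (π t * w * (π t)⁻¹) (π u) ↔ Commute (π t * w * (π t)⁻¹) (π t * π u * (π t)⁻¹) := by
      rw [htu]; exact Commute.inv_right_iff.symm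
    rw [e]
    exact ⟨fun hc => hc.map (MulAut.conj (π t)).toMonoidHom, fun hc => by
      simpa [mul_assoc] using hc.map (MulAut.conj (π t)⁻¹).toMonoidHom⟩
  have ht2H : t ^ 2 ∈ H := by
    rw [mem_comap, hHb, mem_C, map_pow]
    show π t ^ 2 * π u = π u * π t ^ 2
    have e1 : π t * π u = (π u)⁻¹ * π t := mul_inv_eq_iff_eq_mul.1 htu
    have e2 : π t * (π u)⁻¹ = π u * π t := by
      have := congrArg (fun a => a⁻¹) htu
      simp only [mul_inv_rev, inv_inv] at this
      exact mul_inv_eq_iff_eq_mul.1 (by simpa [mul_assoc] using this)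
    rw [pow_two, mul_assoc, e1, ← mul_assoc, e2, mul_assoc]
  have ht2Z : t ^ 2 ∈ center G := hHp 2 _ p2 hp2.symm (ht.pow p2 2) ht2H
  have htZ : t ∉ center G := fun hc => htH (hmemH.2 (by
    rw [← mem_center_iff.1 hc u, mul_inv_cancel_right, mul_inv_cancel]; exact one_mem _))
  have hrep : ∀ f ∈ H, ∃ a ∈ zpowers f, IsPEl p a ∧ a⁻¹ * f ∈ center G := fun f hf =>
    exists_p_rep h.hp fun q y hq hqp hy hyf => hHp q y hq hqp hy (zpowers_le.2 hf hyf)
  have hfix : ∀ f ∈ H, t * f * t⁻¹ * f⁻¹ ∈ center G → f ∈ center G := by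
    intro f hf hc
    obtain ⟨a, -, ha, haf⟩ := hrep f hf
    have e : t * a * t⁻¹ * a⁻¹ = t * f * t⁻¹ * f⁻¹ := by
      have hz : ∀ w : G, w * (a⁻¹ * f) = (a⁻¹ * f) * w := fun w => mem_center_iff.1 haf w
      rw [show f = a * (a⁻¹ * f) by group]
      generalize a⁻¹ * f = c at hz
      calc t * a * t⁻¹ * a⁻¹ = t * a * (c * t⁻¹ * c⁻¹) * a⁻¹ := by rw [← hz t⁻¹, mul_inv_cancel_right]
        _ = _ := by group
    by_cases haZ : a ∈ center G
    · rw [show f = a * (a⁻¹ * f) by group]; exact mul_mem haZ haf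
    exfalso
    exact htZ (h.central_in (h.p_value ha haZ) p2 hp2.symm ht
      (mem_C.2 (ht.commute_of_mod_center p2 h.hp hp2.symm ha (e ▸ hc))))
  let φ : Hb →* Hb :=
    { toFun := fun x => ⟨π t * x * (π t)⁻¹, (mem_normalizer_iff.1 htN x).1 x.2⟩
      map_one' := Subtype.ext (by simp)
      map_mul' := fun x y => Subtype.ext (by simp [mul_assoc]) }
  have hfpf : MonoidHom.FixedPointFree φ := by
    rintro ⟨w, hxH⟩ hx
    obtain ⟨f, rfl⟩ := QuotientGroup.mk'_surjective (center G) w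
    refine Subtype.ext ((QuotientGroup.eq_one_iff f).2 (hfix f hxH ?_))
    have hx' : π t * π f * (π t)⁻¹ = π f := congrArg Subtype.val hx
    rw [← QuotientGroup.eq_one_iff]
    show π (t * f * t⁻¹ * f⁻¹) = 1
    rw [map_mul, map_mul, map_mul, map_inv, map_inv, hx', mul_inv_cancel]
  have hinvol : Function.Involutive φ := fun x => by
    have e : π t * π t = 1 := by
      rw [← map_mul, ← pow_two]; exact (QuotientGroup.eq_one_iff _).2 ht2Z
    refine Subtype.ext ?_
    show π t * (π t * x * (π t)⁻¹) * (π t)⁻¹ = x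
    have e' : (π t)⁻¹ = π t := inv_eq_of_mul_eq_one_right e
    rw [e', ← mul_assoc, ← mul_assoc, e, one_mul, mul_assoc, e, mul_one]
  have hinvH : Inverts t H := fun f hf => by
    rw [← QuotientGroup.eq_one_iff]
    show π (t * f * t⁻¹ * f) = 1
    have hh : π t * π f * (π t)⁻¹ = (π f)⁻¹ :=
      congrArg Subtype.val (congrFun (hfpf.coe_eq_inv_of_involutive hinvol) ⟨π f, hf⟩)
    rw [map_mul, map_mul, map_mul, map_inv, hh, inv_mul_cancel]
  have htNH : t ∈ normalizer (H : Set G) := by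
    refine mem_normalizer_iff.2 fun w => ?_
    show π w ∈ Hb ↔ π (t * w * t⁻¹) ∈ Hb
    rw [map_mul, map_mul, map_inv]
    exact mem_normalizer_iff.1 htN (π w)
  have huH : u ∈ H := hmemH.2 (by rw [mul_inv_cancel_right, mul_inv_cancel]; exact one_mem _)
  have hnorm : ∀ f : G, IsPEl p f → f ∈ normalizer (H : Set G) → f ∈ H := by
    intro f hf hfN
    have hc : f * t * f⁻¹ * t⁻¹ ∈ H := hmemH.2 (centralisesMod_commutator hinvH htNH hfN u huH)
    obtain ⟨f', t', hf'N, ht'N, hf', hcm, hff, htt⟩ := exists_lifts (C0 := H) (N := normalizer (H : Set G))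
      le_normalizer le_rfl h.hp hfN htNH hf (m := 2) h2p ht2H hc
    rw [show f = f' * (f⁻¹ * f')⁻¹ by group]
    refine mul_mem ?_ (inv_mem hff)
    by_cases hf'Z : f' ∈ center G
    · exact (center_le_comap_mk Hb) hf'Z
    exfalso
    obtain ⟨a, -, ha, hat⟩ := exists_p_rep (x := t') h.hp fun q y hq hqp hy hyt =>
      h.central_in (h.p_value hf' hf'Z) hq hqp hy (zpowers_le.2 (mem_C.2 hcm.symm) hyt)
    obtain ⟨k, hk⟩ := ha
    have h1 : t' ^ p ^ k ∈ H := by
      refine center_le_comap_mk Hb ?_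
      have e : t' = a * (a⁻¹ * t') := by group
      rw [e, (show Commute a (a⁻¹ * t') from mem_center_iff.1 hat a).mul_pow, ← hk, pow_orderOf_eq_one, one_mul]
      exact pow_mem hat _
    have h2 : t' ^ 2 ∈ H := by
      have e : t' ^ 2 = t ^ 2 * (t⁻¹ * (t⁻¹ * t') * t) * (t⁻¹ * t') := by rw [pow_two, pow_two]; group
      rw [e]
      refine mul_mem (mul_mem ht2H ?_) htt
      simpa using (mem_normalizer_iff.1 (inv_mem htNH) _).1 htt
    refine htH ?_
    rw [show t = t' * (t⁻¹ * t')⁻¹ by group]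
    exact mul_mem (mem_of_pow_mem ((h.hp.coprime_iff_not_dvd.2 h2p).pow_left k) h1 h2) (inv_mem htt)
  haveI := Fact.mk h.hp
  obtain ⟨Q⟩ : Nonempty (Sylow p H) := inferInstance
  set A := (Q : Subgroup H).map H.subtype
  have hA : IsPGroup p A := Q.2.map H.subtype
  have hAH : A ≤ H := map_subtype_le _
  have hall : ∀ a : G, IsPEl p a → a ∈ H → a ∈ A ⊔ center G := by
    intro a ha haH
    obtain ⟨h₁, hh⟩ := exists_conj_mem (G := H) h.hp Q.2 Q.not_dvd_index (v := ⟨a, haH⟩)
      (ha.elim fun k hk => ⟨k, by rwa [Subgroup.orderOf_mk]⟩)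
    have hb : (h₁ : G) * a * (h₁ : G)⁻¹ ∈ A := ⟨_, hh, rfl⟩
    have hcz : (h₁ : G) * a * (h₁ : G)⁻¹ * a⁻¹ ∈ center G := by
      rw [← QuotientGroup.eq_one_iff]
      show π ((h₁ : G) * a * (h₁ : G)⁻¹ * a⁻¹) = 1
      rw [map_mul, map_mul, map_mul, map_inv, map_inv,
        show π (h₁ : G) * π a = π a * π (h₁ : G) from congrArg Subtype.val
          ((hfpf.commute_all_of_involutive hinvol ⟨π h₁, h₁.2⟩ ⟨π a, haH⟩).eq),
        mul_inv_cancel_right, mul_inv_cancel]
    rw [show a = ((h₁ : G) * a * (h₁ : G)⁻¹ * a⁻¹)⁻¹ * ((h₁ : G) * a * (h₁ : G)⁻¹) by group]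
    exact mul_mem (mem_sup_right (inv_mem hcz)) (mem_sup_left hb)
  have hHeq : H = A ⊔ center G := by
    refine le_antisymm (fun f hf => ?_) (sup_le hAH (center_le_comap_mk Hb))
    obtain ⟨a, haz, ha, haf⟩ := hrep f hf
    rw [show f = a * (a⁻¹ * f) by group]
    exact mul_mem (hall a ha (zpowers_le.2 hf haz)) (mem_sup_right haf)
  have hNA : normalizer (A : Set G) ≤ normalizer (H : Set G) := fun x hx => by
    rw [hHeq, mem_normalizer_iff_map_conj_eq]
    rw [mem_normalizer_iff_map_conj_eq] at hx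
    rw [Subgroup.map_sup, hx]
    congr 1
    refine le_antisymm ?_ fun z hz => ⟨z, hz, ?_⟩
    · rintro _ ⟨z, hz, rfl⟩
      exact Normal.conj_mem inferInstance z hz x
    · show x * z * x⁻¹ = z
      rw [mem_center_iff.1 hz x, mul_inv_cancel_right]
  have hAfull : ¬ p ∣ A.relIndex H := by
    have e : A.subgroupOf H = (Q : Subgroup H) := comap_map_eq_self_of_injective H.subtype_injective _
    show ¬ p ∣ (A.subgroupOf H).index
    rw [e]; exact Q.not_dvd_index
  have hAidx : ¬ p ∣ A.index := fun hd => by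
    obtain ⟨x, hx, hxN, hxA⟩ := exists_normalizer_outside h.hp hA hd
    exact hxA (mem_of_not_dvd_relIndex h.hp hA hAH hAfull (hnorm x hx (hNA hxN)) hx hxN)
  have hHN : H ≤ normalizer (A : Set G) := hHeq.le.trans (sup_le le_normalizer (center_le_normalizer _))
  have key : ∀ a ∈ A, t * a * t⁻¹ ∈ A := fun a ha => by
    have hmem : t * a * t⁻¹ ∈ H := (mem_normalizer_iff.1 htNH a).1 (hAH ha)
    exact mem_of_not_dvd_relIndex h.hp hA hAH hAfull hmem ((isPEl_of_mem h.hp hA ha).conj t) (hHN hmem)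
  have htA : t ∈ normalizer (A : Set G) := by
    rw [mem_normalizer_iff_map_conj_eq]
    exact eq_of_le_of_card_ge (by rintro _ ⟨a, ha, rfl⟩; exact key a ha) (card_conj t A).ge
  exact htH (hHeq.symm ▸ h.normalizer_sylow hA hAidx htA)
where
  center_le_comap_mk {G : Type _} [Group G] (K : Subgroup (G ⧸ center G)) :
      center G ≤ K.comap (QuotientGroup.mk' (center G)) := fun z hz => by
    rw [mem_comap, show QuotientGroup.mk' (center G) z = 1 from (QuotientGroup.eq_one_iff z).2 hz]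
    exact one_mem _

theorem inPi_two (h : MixedCase G v v' p) : InPi G 2 :=
  by_contra fun hc => h.not_solvable (solvable_of_not_inPi_two hc)

/-- No element of odd order is inverted modulo the centre by a `2`-element when the non-full prime is odd. -/
theorem not_real (h : MixedCase G v v' p) {n : ℕ} (hn : n.Prime) (hn2 : n ≠ 2)
    (hnf : ∀ x : G, x ∉ center G → Nat.card (C x) = v → HasPart (C x) n ∧ n ∣ (C x).index) {x t : G}
    (hodd : Odd (orderOf x)) (ht : IsPEl 2 t) (hinv : t * x * t⁻¹ * x ∈ center G) : x ∈ center G := by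
  by_contra hxZ
  have hd2 : ¬ 2 ∣ orderOf x := fun hd => (Nat.not_even_iff_odd.2 hodd) (even_iff_two_dvd.2 hd)
  have h2x : x ^ 2 ∈ center G → False := fun hc => hxZ (mem_of_pow_mem (H := center G)
    (Nat.prime_two.coprime_iff_not_dvd.2 hd2) hc (by rw [pow_orderOf_eq_one]; exact one_mem _))
  rcases h.sizes x hxZ with hv | hv
  · have hK := h.isComp h.two hxZ hv
    obtain ⟨pn, dn⟩ := hnf x hxZ hv
    obtain ⟨r, hr, hrn, hsr⟩ : ∃ r, r.Prime ∧ r ≠ n ∧
        (Nat.card (center G)).factorization r < v.factorization r := by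
      obtain ⟨a, b, ha, hb, hab, hsa, hsb⟩ := h.two
      by_cases han : a = n
      · exact ⟨b, hb, fun e => hab (han.trans e.symm), hsb⟩
      · exact ⟨a, ha, han, hsa⟩
    have hmem : t * x * t⁻¹ ∈ C x := by
      rw [show t * x * t⁻¹ = (t * x * t⁻¹ * x) * x⁻¹ by group]
      exact mul_mem (center_le_C x hinv) (inv_mem (self_mem_C x))
    have htK := hK.no_involution hn hr hrn.symm hn2 pn (h.hasPart hv hr hsr) dn ht
      (hK.mem_normalizer (self_mem_C x) hxZ hmem)
    refine h2x ?_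
    rw [pow_two]
    rwa [(mem_C.1 htK).eq, mul_inv_cancel_right] at hinv
  · obtain ⟨u, huz, hu, hux⟩ := exists_p_rep (x := x) h.hp fun q y hq hqp hy hyx =>
      h.central_in hv hq hqp hy (zpowers_le.2 (self_mem_C x) hyx)
    have huZ : u ∉ center G := fun hc => hxZ (by
      rw [show x = u * (u⁻¹ * x) by group]; exact mul_mem hc hux)
    have hp2 : p ≠ 2 := fun e => by
      obtain ⟨k, hk⟩ := hu
      rcases Nat.eq_zero_or_pos k with h0 | h0
      · rw [h0, pow_zero, orderOf_eq_one_iff] at hk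
        exact huZ (hk ▸ one_mem _)
      · refine hd2 (((e ▸ dvd_pow_self p h0.ne' : 2 ∣ p ^ k).trans (dvd_of_eq hk.symm)).trans ?_)
        obtain ⟨i, rfl⟩ := mem_zpowers_iff.1 huz
        refine orderOf_dvd_of_pow_eq_one ?_
        rw [← zpow_natCast, ← zpow_mul, mul_comm, zpow_mul, zpow_natCast, pow_orderOf_eq_one, one_zpow]
    refine h.false_p_inverted hp2 hu huZ ht ?_
    have hz : ∀ w : G, w * (u⁻¹ * x) = (u⁻¹ * x) * w := fun w => mem_center_iff.1 hux w
    have e : t * u * t⁻¹ * u = (t * x * t⁻¹ * x) * ((u⁻¹ * x) * (u⁻¹ * x))⁻¹ := by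
      rw [show x = u * (u⁻¹ * x) by group]
      generalize u⁻¹ * x = c at hz
      calc t * u * t⁻¹ * u = t * u * t⁻¹ * u * (c * c * (c * c)⁻¹) := by rw [mul_inv_cancel, mul_one]
        _ = (t * u * (t⁻¹ * (u * c)) * c) * (c * c)⁻¹ := by group
        _ = (t * u * (t⁻¹ * (c * u)) * c) * (c * c)⁻¹ := by rw [hz u]
        _ = (t * u * ((t⁻¹ * c) * u) * c) * (c * c)⁻¹ := by rw [mul_assoc t⁻¹ c u]
        _ = (t * u * ((c * t⁻¹) * u) * c) * (c * c)⁻¹ := by rw [hz t⁻¹]
        _ = _ := by group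
    rw [e]
    exact mul_mem hinv (inv_mem (mul_mem hux hux))

/-- For odd non-full prime there is a non-central normal `2`-subgroup modulo the centre, abelian modulo it. -/
theorem exists_normal_two (h : MixedCase G v v' p) {n : ℕ} (hn : n.Prime) (hn2 : n ≠ 2)
    (hnf : ∀ x : G, x ∉ center G → Nat.card (C x) = v → HasPart (C x) n ∧ n ∣ (C x).index) :
    ∃ D : Subgroup G, D.Normal ∧ center G ≤ D ∧ ¬ D ≤ center G ∧ IsMulCommutative (modCenter D) ∧
      IsPGroup 2 (modCenter D) := by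
  haveI : Fact (Nat.Prime 2) := ⟨Nat.prime_two⟩
  obtain ⟨t₀, ht₀, ht₀Z⟩ := h.inPi_two
  obtain ⟨t, -, ht, htZ, ht2⟩ := exists_prime_step Nat.prime_two ht₀ ht₀Z
  have hto : orderOf (t : G ⧸ center G) = 2 := orderOf_eq_prime
    (by rw [← QuotientGroup.mk_pow]; exact (QuotientGroup.eq_one_iff _).2 ht2)
    fun e => htZ ((QuotientGroup.eq_one_iff t).1 e)
  obtain ⟨N, hN, hN2, hNne⟩ : ∃ N : Subgroup (G ⧸ center G), N.Normal ∧ IsPGroup 2 N ∧ N ≠ ⊥ := by
    by_contra hcon
    push Not at hcon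
    obtain ⟨c, hc1, hcodd, hct⟩ := CfsgLib.Involution.BaerSuzuki.exists_inverted_odd (t : G ⧸ center G) hto
      fun N hN hN2 hmem => by
        rw [hcon N hN hN2, mem_bot] at hmem
        exact htZ ((QuotientGroup.eq_one_iff t).1 hmem)
    obtain ⟨x, rfl⟩ := QuotientGroup.mk_surjective c
    obtain ⟨a, w, ha, haw, haz, -, hw, -⟩ := exists_decomp' x Nat.prime_two
    have haZ : a ∈ center G := by
      refine (QuotientGroup.eq_one_iff a).1 (orderOf_eq_one_iff.1 ?_)
      obtain ⟨k, hk⟩ := ha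
      obtain ⟨i, rfl⟩ := mem_zpowers_iff.1 haz
      refine Nat.eq_one_of_dvd_coprimes ((Nat.prime_two.coprime_iff_not_dvd.2 fun hd =>
          (Nat.not_even_iff_odd.2 hcodd) (even_iff_two_dvd.2 hd)).pow_left k)
        ((orderOf_map_dvd (QuotientGroup.mk' (center G)) _).trans (dvd_of_eq hk)) ?_
      refine orderOf_dvd_of_pow_eq_one ?_
      rw [QuotientGroup.mk_zpow, ← zpow_natCast, ← zpow_mul, mul_comm, zpow_mul, zpow_natCast,
        pow_orderOf_eq_one, one_zpow]
    have hxw : (x : G ⧸ center G) = w := by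
      rw [← haw, QuotientGroup.mk_mul, (QuotientGroup.eq_one_iff a).2 haZ, one_mul]
    refine hc1 (hxw ▸ (QuotientGroup.eq_one_iff w).2 (h.not_real hn hn2 hnf
      (Nat.not_even_iff_odd.1 fun hd => hw (even_iff_two_dvd.1 hd)) ht ?_))
    rw [← QuotientGroup.eq_one_iff]
    show ((t : G ⧸ center G) * w * (t : G ⧸ center G)⁻¹) * w = 1
    rw [← hxw, hct, inv_mul_cancel]
  haveI := hN
  haveI : Nontrivial N := (nontrivial_iff_ne_bot N).2 hNne
  haveI := hN2.center_nontrivial
  set N' : Subgroup (G ⧸ center G) := (center N).map N.subtype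
  have hmap : modCenter (N'.comap (QuotientGroup.mk' (center G))) = N' :=
    map_comap_eq_self_of_surjective (QuotientGroup.mk'_surjective _) _
  refine ⟨N'.comap (QuotientGroup.mk' (center G)), inferInstance, fun z hz => ?_, fun hle => ?_, ?_, ?_⟩
  · rw [mem_comap, show QuotientGroup.mk' (center G) z = 1 from (QuotientGroup.eq_one_iff z).2 hz]
    exact one_mem _
  · obtain ⟨⟨c, hc⟩, hc1⟩ := exists_ne (1 : center N)
    obtain ⟨x, hx⟩ := QuotientGroup.mk_surjective (c : G ⧸ center G)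
    have hxD : x ∈ N'.comap (QuotientGroup.mk' (center G)) := ⟨c, hc, hx.symm⟩
    exact hc1 (Subtype.ext (Subtype.ext (hx ▸ (QuotientGroup.eq_one_iff x).2 (hle hxD))))
  · rw [hmap]
    refine ⟨⟨fun a b => Subtype.ext ?_⟩⟩
    obtain ⟨a', ha', hae⟩ := a.2
    obtain ⟨b', hb', hbe⟩ := b.2
    show (a : G ⧸ center G) * b = b * a
    rw [← hae, ← hbe, ← map_mul, ← map_mul, mem_center_iff.1 hb' a']
  · rw [hmap]
    exact (hN2.to_subgroup (center N)).map N.subtype

/-- The prime `p` is odd. -/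
theorem false_p_two (h : MixedCase G v v' p) (hp2 : p = 2) : False := by
  obtain ⟨n, hn, hnp, hnf⟩ := h.exists_nonfull
  obtain ⟨u, huZ, hu⟩ := h.exists_fst
  have hK := h.isComp h.two huZ hu
  obtain ⟨pn, dn⟩ := hnf u huZ hu
  have hn2 : n ≠ 2 := hp2 ▸ hnp
  obtain ⟨D, hD, hZD, hDZ, hDc, hD2⟩ := h.exists_normal_two hn hn2 hnf
  obtain ⟨x, -, hx, hxN, hxK⟩ := outside_in (H := ⊤) hn le_top (hK.centIn n) pn
    (fun k hk _ hkZ => by rw [top_inf_eq]; exact hK.C_eq k hk hkZ) (by rwa [relIndex_top_right])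
  obtain ⟨a, haz, ha, haK, han⟩ := exists_prime_step hn hx hxK
  have haN : a ∈ normalizer (C u : Set G) := zpowers_le.2 hxN haz
  set A := pPart n (C u)
  have hA := isPGroup_pPart hn (hK.centIn n)
  have hfull : ∀ k ∈ A, k ∉ center G → Full n A k := fun k hk hkZ =>
    ⟨(pPart_le n _).trans (hK.C_eq k (pPart_le n _ hk) hkZ).ge, by
      rw [hK.C_eq k (pPart_le n _ hk) hkZ]; exact not_dvd_relIndex_pPart hn⟩
  have haA : a ∉ A := fun hc => haK (pPart_le n _ hc)
  have hanZ : a ^ n ∈ center G :=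
    pow_mem_center hn hA hfull ha (mem_normalizer_pPart haN) haA (mem_pPart_of han (ha.pow hn n))
  obtain ⟨k₀, hk₀K, hk₀, hk₀Z⟩ := pn
  obtain ⟨w, hwA, hwZ, hwc⟩ := exists_fixed hn hA (fun hle => hk₀Z (hle (mem_pPart_of hk₀K hk₀))) ha
    (mem_normalizer_pPart haN)
  obtain ⟨b, hbz, hb, hbZ, hbn⟩ := exists_prime_step hn (isPEl_of_mem hn hA hwA) hwZ
  have hbA : b ∈ A := zpowers_le.2 hwA hbz
  have hab : a * b * a⁻¹ * b⁻¹ ∈ center G := by
    obtain ⟨i, rfl⟩ := mem_zpowers_iff.1 hbz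
    rw [← QuotientGroup.eq_one_iff] at hwc ⊢
    simp only [QuotientGroup.mk_mul, QuotientGroup.mk_inv, QuotientGroup.mk_zpow] at hwc ⊢
    rw [mul_inv_eq_one] at hwc ⊢
    rw [← conj_zpow, hwc]
  haveI := Fact.mk hn
  have hP : IsPGroup n (zpowers a ⊔ A : Subgroup G) :=
    (isPGroup_zpowers ha).to_sup_of_normal_right' hA (zpowers_le.2 (mem_normalizer_pPart haN))
  have hfixed : ∀ y : G, IsPEl n y → y ∉ center G → ∀ d ∈ D, y * d * y⁻¹ * d⁻¹ ∈ center G → d ∈ center G := by
    intro y hy hyZ d hd hc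
    obtain ⟨j, hj⟩ := hD2 ⟨_, mem_map_of_mem _ hd⟩
    have hd2 : d ^ 2 ^ j ∈ center G := (QuotientGroup.eq_one_iff _).1 (congrArg Subtype.val hj)
    obtain ⟨m, hm, hmd⟩ := exists_part_congr Nat.prime_two hd2
    have hz : ∀ g : G, g * (d⁻¹ * d ^ m) = d⁻¹ * d ^ m * g := fun g => mem_center_iff.1 hmd g
    have e : y * d ^ m * y⁻¹ * (d ^ m)⁻¹ = y * d * y⁻¹ * d⁻¹ := by
      rw [show d ^ m = d * (d⁻¹ * d ^ m) by group]
      generalize d⁻¹ * d ^ m = c at hz
      calc y * (d * c) * y⁻¹ * (d * c)⁻¹ = y * d * (c * y⁻¹ * c⁻¹) * d⁻¹ := by group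
        _ = y * d * y⁻¹ * d⁻¹ := by rw [← hz y⁻¹, mul_inv_cancel_right]
    have hdC : d ^ m ∈ C y := mem_C.2 (hy.commute_of_mod_center hn Nat.prime_two hn2 hm (e ▸ hc)).symm
    have hdZ : d ^ m ∈ center G := by_contra fun hdZ =>
      absurd ((h.value_of_ne hn hnp hy hyZ) ▸ factorization_lt_of_mem (center_le_C y) Nat.prime_two hdC hm hdZ)
        (not_lt.2 (hp2 ▸ h.p_small))
    rw [show d = d ^ m * (d⁻¹ * d ^ m)⁻¹ by group]
    exact mul_mem hdZ (inv_mem hmd)
  have hjab : ∀ j : ℕ, IsPEl n (a * b ^ j) ∧ a * b ^ j ∉ center G := fun j =>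
    ⟨isPEl_of_mem hn hP (mul_mem_sup (mem_zpowers a) (pow_mem hbA j)), fun hc => haK
      ((mul_mem_cancel_right (pow_mem (pPart_le n _ hbA) j)).1 (hK.center_le hc))⟩
  refine hDZ fun d hd => ?_
  have hdn : d ^ n ∈ center G := pow_mem_center_of_two_mod hDc hn (normalizer_eq_top D ▸ mem_top a)
    (normalizer_eq_top D ▸ mem_top b) (center_le_centralizer _ hab) (center_le_centralizer _ hanZ)
    (center_le_centralizer _ hbn) (hfixed b hb hbZ) (fun j => hfixed _ (hjab j).1 (hjab j).2) hd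
  obtain ⟨j, hj⟩ := hD2 ⟨_, mem_map_of_mem _ hd⟩
  exact mem_of_pow_mem (((Nat.coprime_primes hn Nat.prime_two).2 hn2).pow_right j) hdn
    ((QuotientGroup.eq_one_iff _).1 (congrArg Subtype.val hj))

/-- The non-full prime is `2`. -/
theorem nonfull_two (h : MixedCase G v v' p) (hp2 : p ≠ 2) {n : ℕ} (hn : n.Prime)
    (hnf : ∀ x : G, x ∉ center G → Nat.card (C x) = v → HasPart (C x) n ∧ n ∣ (C x).index) : n = 2 := by
  by_contra hn2
  have p2 := Nat.prime_two
  haveI : Fact (Nat.Prime 2) := ⟨p2⟩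
  obtain ⟨D, hD, hZD, hDZ, -, hD2⟩ := h.exists_normal_two hn hn2 hnf
  obtain ⟨u, huZ, hu⟩ := h.exists_fst
  have hK := h.isComp h.two huZ hu
  obtain ⟨pn, dn⟩ := hnf u huZ hu
  have h2 : HasPart (C u) 2 := h.hasPart hu p2 (h.v_gt p2 (Ne.symm hp2) h.inPi_two)
  set A := pPart 2 (C u)
  have hAidx : ¬ 2 ∣ A.index := fun hd => by
    rw [← relIndex_top_right, ← relIndex_mul_relIndex _ (C u) ⊤ (pPart_le 2 _) le_top, relIndex_top_right] at hd
    exact ((p2.dvd_mul).1 hd).elim (not_dvd_relIndex_pPart p2) fun h2' =>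
      hK.unique hn p2 hn2 pn h2 dn h2'
  have hAb : IsPGroup 2 (modCenter A) := (isPGroup_pPart p2 (hK.centIn 2)).map _
  have hAbidx : ¬ 2 ∣ (modCenter A).index := fun hd =>
    hAidx (hd.trans (index_map_dvd A (QuotientGroup.mk'_surjective _)))
  haveI : (modCenter D).Normal := hD.map _ (QuotientGroup.mk'_surjective _)
  have hsup := IsPGroup.to_sup_of_normal_right hAb hD2
  have heq : modCenter A ⊔ modCenter D = modCenter A := (hAb.toSylow hAbidx).is_maximal' hsup le_sup_left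
  have hDK : D ≤ C u := fun d hd => by
    have hd' : (d : G ⧸ center G) ∈ modCenter A := heq ▸ mem_sup_right (mem_map_of_mem _ hd)
    obtain ⟨a, ha, had⟩ := hd'
    rw [show d = a * (a⁻¹ * d) by group]
    exact mul_mem (pPart_le 2 _ ha) (hK.center_le ((QuotientGroup.eq).1 had))
  obtain ⟨d, hd, hdZ⟩ := SetLike.not_le_iff_exists.1 hDZ
  have hnorm : normalizer (C u : Set G) = ⊤ := eq_top_iff.2 fun g _ =>
    hK.mem_normalizer (hDK hd) hdZ (hDK (hD.conj_mem d hd g))
  haveI := normalizer_eq_top_iff.1 hnorm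
  refine h.not_solvable (solvable_of_inRad h.hp h.hp fun q x hq hqp _ hx hxZ => ⟨C u, inferInstance, ?_, ?_⟩)
  · exact Group.isSolvable_of_comm fun a b => Subtype.ext (hK.comm a a.2 b b.2).eq
  · obtain ⟨g, hg⟩ := h.cover h.two huZ hu hxZ (h.value_of_ne hq hqp hx hxZ)
    have := Normal.conj_mem (inferInstance : (C u).Normal) _ hg g
    simpa [mul_assoc] using this

end MixedCase

end CfsgLib.Frobenius.ThreeSizes
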