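import Cfsg.Agent.Lib.Frobenius.ThreeSizes.Component
import Cfsg.Agent.Lib.Solvable.Basic
import Cfsg.Agent.S4134

/-!
# Two centraliser orders, neither dividing the other

Centralisers of elements with two non-central primary parts are abelian and centralise each of their non-central
elements; counting the non-central elements they cover shows that not all of them are proper in their normalisers.
-/

set_option autoImplicit false
set_option linter.style.haveILetI false
set_option linter.unusedSectionVars false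

namespace CfsgLib.Frobenius.ThreeSizes

open Subgroup

variable {G : Type*} [Group G] [Finite G] {v v' : ℕ}

/-- The hypotheses of the non-divisible case. -/
structure NonDiv (G : Type*) [Group G] (v v' : ℕ) : Prop where
  sizes : ∀ x : G, x ∉ center G → Nat.card (C x) = v ∨ Nat.card (C x) = v'
  ndvd : ¬ v ∣ v'
  ndvd' : ¬ v' ∣ v
  exists_fst : ∃ w : G, w ∉ center G ∧ Nat.card (C w) = v
  exists_snd : ∃ w : G, w ∉ center G ∧ Nat.card (C w) = v'
  not_solvable : ¬ Group.IsSolvable G

/-- Two primes divide the non-central part of `v`. -/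
def TwoParts (G : Type*) [Group G] (v : ℕ) : Prop :=
  ∃ p q : ℕ, p.Prime ∧ q.Prime ∧ p ≠ q ∧ (Nat.card (center G)).factorization p < v.factorization p ∧
    (Nat.card (center G)).factorization q < v.factorization q

theorem conj_not_center {k : G} (hk : k ∉ center G) (g : G) : g * k * g⁻¹ ∉ center G := fun h => hk (by
  have h' : g⁻¹ * (g * k * g⁻¹) * g⁻¹⁻¹ ∈ center G := Normal.conj_mem inferInstance _ h g⁻¹
  simpa [mul_assoc] using h')

/-- A set covered by the conjugates of the non-central elements of `K`. -/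
theorem card_le_of_cover {S : Set G} {K N : Subgroup G} (hZ : center G ≤ K) (hN : N ≤ normalizer (K : Set G))
    (hS : ∀ x ∈ S, x ∉ center G ∧ ∃ g : G, g⁻¹ * x * g ∈ K) :
    Nat.card S ≤ N.index * (Nat.card K - Nat.card (center G)) := by
  classical
  set T : Set G := (K : Set G) \ (center G : Set G)
  have hT : Nat.card T = Nat.card K - Nat.card (center G) := by
    rw [Nat.card_coe_set_eq, Set.ncard_sdiff hZ, ← Nat.card_coe_set_eq, ← Nat.card_coe_set_eq]
    rfl
  rw [← hT, index, ← Nat.card_prod]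
  refine le_trans ?_ (le_of_eq (Nat.card_congr (Equiv.refl ((G ⧸ N) × T))))
  let f : (G ⧸ N) × T → G := fun p => p.1.out * p.2.1 * p.1.out⁻¹
  have hsub : S ⊆ Set.range f := by
    intro x hx
    obtain ⟨hxZ, g, hg⟩ := hS x hx
    obtain ⟨n, hn⟩ := QuotientGroup.mk_out_eq_mul N g
    have hnK : (n : G)⁻¹ * (g⁻¹ * x * g) * n ∈ K := by
      simpa using (mem_normalizer_iff.1 (inv_mem (hN n.2)) _).1 hg
    refine ⟨(QuotientGroup.mk g, ⟨(n : G)⁻¹ * (g⁻¹ * x * g) * n, hnK, fun hc => ?_⟩), ?_⟩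
    · refine conj_not_center hxZ ((g * n)⁻¹) ?_
      have : (g * n)⁻¹ * x * (g * n)⁻¹⁻¹ = (n : G)⁻¹ * (g⁻¹ * x * g) * n := by group
      rw [this]; exact hc
    · show (QuotientGroup.mk g : G ⧸ N).out * _ * (QuotientGroup.mk g : G ⧸ N).out⁻¹ = x
      rw [hn]; group
  calc Nat.card S ≤ Nat.card (Set.range f) := Nat.card_mono (Set.toFinite _) hsub
    _ ≤ _ := Finite.card_range_le f

/-- Two subgroups which are proper in their normalisers do not cover all non-central elements. -/
theorem false_count {K₁ N₁ K₂ N₂ : Subgroup G} (hZ₁ : center G ≤ K₁) (hZ₂ : center G ≤ K₂)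
    (hK₁ : K₁ ≤ N₁) (hK₂ : K₂ ≤ N₂) (hne₁ : K₁ ≠ N₁) (hne₂ : K₂ ≠ N₂)
    (hN₁ : N₁ ≤ normalizer (K₁ : Set G)) (hN₂ : N₂ ≤ normalizer (K₂ : Set G))
    (hcov : ∀ x : G, x ∉ center G → (∃ g : G, g⁻¹ * x * g ∈ K₁) ∨ ∃ g : G, g⁻¹ * x * g ∈ K₂) : False := by
  classical
  set S₁ : Set G := {x | x ∉ center G ∧ ∃ g : G, g⁻¹ * x * g ∈ K₁}
  set S₂ : Set G := {x | x ∉ center G ∧ ∃ g : G, g⁻¹ * x * g ∈ K₂}
  have hU : ((center G : Set G))ᶜ ⊆ S₁ ∪ S₂ := fun x hx => (hcov x hx).imp (fun h => ⟨hx, h⟩) fun h => ⟨hx, h⟩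
  have h1 := card_le_of_cover (S := S₁) hZ₁ hN₁ fun x hx => hx
  have h2 := card_le_of_cover (S := S₂) hZ₂ hN₂ fun x hx => hx
  have h0 : Nat.card G - Nat.card (center G) ≤ Nat.card S₁ + Nat.card S₂ := by
    have h := (Set.ncard_le_ncard hU).trans (Set.ncard_union_le S₁ S₂)
    rw [Set.ncard_compl, ← Nat.card_coe_set_eq, ← Nat.card_coe_set_eq S₁, ← Nat.card_coe_set_eq S₂] at h
    exact h
  have two : ∀ {K N : Subgroup G}, K ≤ N → K ≠ N → 2 * (N.index * Nat.card K) ≤ Nat.card G := by
    intro K N hKN hne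
    have hrel := relIndex_mul_relIndex ⊥ K N bot_le hKN
    rw [relIndex_bot_left, relIndex_bot_left] at hrel
    have h2' : 2 ≤ K.relIndex N := by
      rcases Nat.lt_or_ge (K.relIndex N) 2 with h | h
      · interval_cases hr : K.relIndex N
        · rw [mul_zero] at hrel; exact absurd hrel.symm Nat.card_pos.ne'
        · exact absurd (le_antisymm hKN (relIndex_eq_one.1 hr)) hne
      · exact h
    rw [← N.card_mul_index, ← hrel]
    calc 2 * (N.index * Nat.card K) ≤ K.relIndex N * (N.index * Nat.card K) := Nat.mul_le_mul_right _ h2'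
      _ = _ := by ring
  have t1 := two hK₁ hne₁
  have t2 := two hK₂ hne₂
  have z1 : Nat.card (center G) ≤ Nat.card K₁ := card_le_of_le hZ₁
  have z2 : Nat.card (center G) ≤ Nat.card K₂ := card_le_of_le hZ₂
  have zG : Nat.card (center G) ≤ Nat.card G := card_le_card_group _
  have hz : 0 < Nat.card (center G) := Nat.card_pos
  have i1 : 0 < N₁.index := Nat.pos_of_ne_zero Subgroup.index_ne_zero_of_finite
  have i2 : 0 < N₂.index := Nat.pos_of_ne_zero Subgroup.index_ne_zero_of_finite
  rw [Nat.mul_sub] at h1 h2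
  have e1 : N₁.index * Nat.card (center G) ≤ N₁.index * Nat.card K₁ := Nat.mul_le_mul_left _ z1
  have e2 : N₂.index * Nat.card (center G) ≤ N₂.index * Nat.card K₂ := Nat.mul_le_mul_left _ z2
  have f1 : Nat.card (center G) ≤ N₁.index * Nat.card (center G) := Nat.le_mul_of_pos_left _ i1
  have f2 : Nat.card (center G) ≤ N₂.index * Nat.card (center G) := Nat.le_mul_of_pos_left _ i2
  omega

namespace NonDiv

theorem symm (h : NonDiv G v v') : NonDiv G v' v :=
  ⟨fun x hx => (h.sizes x hx).symm, h.ndvd', h.ndvd, h.exists_snd, h.exists_fst, h.not_solvable⟩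

theorem eq_of_le (h : NonDiv G v v') {x y : G} (hx : x ∉ center G) (hy : y ∉ center G) (hle : C x ≤ C y) :
    C x = C y := by
  refine eq_of_le_of_card_ge hle (le_of_eq ?_)
  have hd := card_dvd_of_le hle
  rcases h.sizes x hx with ex | ex <;> rcases h.sizes y hy with ey | ey <;> rw [ex, ey] at hd ⊢
  · exact absurd hd h.ndvd
  · exact absurd hd h.ndvd'

theorem pair_eq (h : NonDiv G v v') {p q : ℕ} (hp : p.Prime) (hq : q.Prime) (hne : p ≠ q) {x w : G}
    (hx : IsPEl p x) (hw : IsPEl q w) (hxZ : x ∉ center G) (hwZ : w ∉ center G) (hc : Commute x w) :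
    C w = C x := by
  have h1 : C (x * w) = C x ⊓ C w := C_mul hp hq hne hx hw hc
  have hZ := mul_not_center hp hq hne hx hw hc hxZ
  exact (h.eq_of_le hZ hwZ (h1 ▸ inf_le_right)).symm.trans (h.eq_of_le hZ hxZ (h1 ▸ inf_le_left))

theorem isComp_of_pair (h : NonDiv G v v') {p q : ℕ} (hp : p.Prime) (hq : q.Prime) (hne : p ≠ q) {x w : G}
    (hx : IsPEl p x) (hw : IsPEl q w) (hxZ : x ∉ center G) (hwZ : w ∉ center G) (hc : Commute x w) :
    IsComp (C x) := by
  have hwx := h.pair_eq hp hq hne hx hw hxZ hwZ hc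
  refine isComp_mk (center_le_C x) ⟨x, self_mem_C x, hxZ⟩ (fun e u he hu hue huZ => ?_) fun k hkZ hle => ?_
  · by_cases hep : e = p
    · have hu' : u ∈ C w := hwx.symm ▸ hu
      rw [← hwx]
      exact h.pair_eq hq he (hep ▸ hne.symm) hw hue hwZ huZ (mem_C.1 hu').symm
    · exact h.pair_eq hp he (Ne.symm hep) hx hue hxZ huZ (mem_C.1 hu).symm
  · rw [h.eq_of_le hxZ hkZ hle]

theorem isComp (h : NonDiv G v v') (hv : TwoParts G v) {u : G} (huZ : u ∉ center G)
    (hu : Nat.card (C u) = v) : IsComp (C u) := by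
  rcases exists_parts huZ with ⟨e, y, he, hye, hyZ, -, hCy⟩ | ⟨e, f, y, z, he, hf, hef, hye, hzf, hyZ, hzZ, hy, hz⟩
  · obtain ⟨p, q, hp, hq, hpq, hsp, hsq⟩ := hv
    obtain ⟨f, hf, hfe, hsf⟩ : ∃ f, f.Prime ∧ f ≠ e ∧ (Nat.card (center G)).factorization f < v.factorization f := by
      by_cases hpe : p = e
      · exact ⟨q, hq, fun hqe => hpq (hpe.trans hqe.symm), hsq⟩
      · exact ⟨p, hp, hpe, hsp⟩
    obtain ⟨w, hwC, hw, hwZ⟩ := exists_pel_of_lt (H := C u) hf (hu.symm ▸ hsf)
    rw [hCy] at hwC ⊢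
    exact h.isComp_of_pair he hf hfe.symm hye hw hyZ hwZ (mem_C.1 hwC).symm
  · have hc : Commute y z := by
      obtain ⟨i, rfl⟩ := mem_zpowers_iff.1 hy
      obtain ⟨j, rfl⟩ := mem_zpowers_iff.1 hz
      exact (Commute.refl u).zpow_zpow i j
    rw [h.eq_of_le huZ hyZ (C_le_zpowers hy)]
    exact h.isComp_of_pair he hf hef hye hzf hyZ hzZ hc

theorem hasPart (h : NonDiv G v v') {u : G} (hu : Nat.card (C u) = v) {r : ℕ} (hr : r.Prime)
    (hs : (Nat.card (center G)).factorization r < v.factorization r) : HasPart (C u) r :=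
  exists_pel_of_lt hr (hu.symm ▸ hs)

/-- All components of order `v` are conjugate. -/
theorem conj_comp (h : NonDiv G v v') (hv : TwoParts G v) {u u' : G} (huZ : u ∉ center G)
    (hu'Z : u' ∉ center G) (hu : Nat.card (C u) = v) (hu' : Nat.card (C u') = v) :
    ∃ g : G, (C u).map (MulAut.conj g).toMonoidHom = C u' := by
  have hK := h.isComp hv huZ hu
  have hv' := hv
  obtain ⟨p, q, hp, hq, hpq, hsp, hsq⟩ := hv'
  obtain ⟨r, hr, hsr, hfull⟩ : ∃ r, r.Prime ∧ HasPart (C u) r ∧ ¬ r ∣ (C u).index := by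
    by_cases hd : p ∣ (C u).index
    · exact ⟨q, hq, h.hasPart hu hq hsq, fun hd' =>
        hK.unique hp hq hpq (h.hasPart hu hp hsp) (h.hasPart hu hq hsq) hd hd'⟩
    · exact ⟨p, hp, h.hasPart hu hp hsp, hd⟩
  exact hK.exists_conj (h.isComp hv hu'Z hu') hr hsr hfull (hu'.trans hu.symm)

theorem cover (h : NonDiv G v v') (hv : TwoParts G v) {u x : G} (huZ : u ∉ center G)
    (hu : Nat.card (C u) = v) (hxZ : x ∉ center G) (hx : Nat.card (C x) = v) :
    ∃ g : G, g⁻¹ * x * g ∈ C u := by
  obtain ⟨g, hg⟩ := h.conj_comp hv huZ hxZ hu hx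
  refine ⟨g, ?_⟩
  have := hg.symm ▸ self_mem_C x
  rw [mem_map_equiv, MulAut.conj_symm_apply] at this
  exact this

end NonDiv

/-- In a self-normalising component every prime is full. -/
theorem IsComp.full_of_self_norm {K : Subgroup G} (hK : IsComp K) (hN : normalizer (K : Set G) = K) {r : ℕ}
    (hr : r.Prime) (hp : HasPart K r) : ¬ r ∣ (pPart r K).index := by
  intro hd
  obtain ⟨x, hx, hxN, hxA⟩ := exists_normalizer_outside hr (isPGroup_pPart hr (hK.centIn r)) hd
  obtain ⟨k, hkK, hk, hkZ⟩ := hp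
  have hxK : x ∈ normalizer (K : Set G) :=
    hK.mem_normalizer hkK hkZ (pPart_le r K ((mem_normalizer_iff.1 hxN k).1 (mem_pPart_of hkK hk)))
  rw [hN] at hxK
  exact hxA (mem_pPart_of hxK hx)

/-- A self-normalising component has a normal complement for each of its primes. -/
theorem IsComp.exists_complement {K : Subgroup G} (hK : IsComp K) (hN : normalizer (K : Set G) = K) {r : ℕ}
    (hr : r.Prime) (hp : HasPart K r) :
    ∃ M : Subgroup G, M.Normal ∧ ¬ r ∣ Nat.card M ∧ ∀ (q : ℕ) (x : G), q.Prime → q ≠ r → IsPEl q x → x ∈ M := by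
  haveI := Fact.mk hr
  set A := pPart r K
  have hA := isPGroup_pPart hr (hK.centIn r)
  set P := hA.toSylow (hK.full_of_self_norm hN hr hp)
  have hNC : normalizer ((P : Subgroup G) : Set G) ≤ centralizer ((P : Subgroup G) : Set G) := by
    intro x hx
    obtain ⟨k, hkK, hk, hkZ⟩ := hp
    have hxK : x ∈ normalizer (K : Set G) :=
      hK.mem_normalizer hkK hkZ (pPart_le r K ((mem_normalizer_iff.1 hx k).1 (mem_pPart_of hkK hk)))
    rw [hN] at hxK
    exact mem_centralizer_iff.2 fun a ha => (hK.comm a (pPart_le r K ha) x hxK).eq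
  refine ⟨(MonoidHom.transferSylow P hNC).ker, inferInstance, MonoidHom.not_dvd_card_ker_transferSylow P hNC,
    fun q x hq hqr hx => ?_⟩
  have hc := MonoidHom.ker_transferSylow_isComplement' P hNC
  refine (QuotientGroup.eq_one_iff x).1 (orderOf_eq_one_iff.1 ?_)
  obtain ⟨i, hi⟩ := hx
  obtain ⟨j, hj⟩ := P.2.exists_card_eq
  refine Nat.eq_one_of_dvd_coprimes (Nat.Coprime.pow i j ((Nat.coprime_primes hq hr).2 hqr))
    ((orderOf_map_dvd (QuotientGroup.mk' (MonoidHom.transferSylow P hNC).ker) x).trans (dvd_of_eq hi))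
    ((_root_.orderOf_dvd_natCard _).trans (dvd_of_eq ?_))
  rw [← index_eq_card, hc.symm.index_eq_card, hj]

/-- A group with a self-normalising component whose order is one of two centraliser orders is solvable, if the
other order also has two primes. -/
theorem NonDiv.false_self_norm (h : NonDiv G v v') (hv : TwoParts G v) (hv' : TwoParts G v') {u : G}
    (huZ : u ∉ center G) (hu : Nat.card (C u) = v) (hN : normalizer (C u : Set G) = C u) : False := by
  set K := C u
  have hK := h.isComp hv huZ hu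
  set gen : Set G := {x | ∃ q : ℕ, q.Prime ∧ ¬ HasPart K q ∧ IsPEl q x}
  set M := normalClosure gen
  have hndvd : ∀ r, r.Prime → HasPart K r → ¬ r ∣ Nat.card M := fun r hr hp hd => by
    obtain ⟨L, hL, hLr, hLall⟩ := hK.exists_complement hN hr hp
    haveI := hL
    refine hLr (hd.trans (card_dvd_of_le (normalClosure_le_normal ?_)))
    rintro x ⟨q, hq, hqK, hx⟩
    exact hLall q x hq (fun e => hqK (e ▸ hp)) hx
  have hKM : ∀ x ∈ K, x ∈ M → x ∈ center G := fun x hxK hxM => by
    refine mem_of_parts _ fun e y he hy hye => ?_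
    by_cases hp : HasPart K e
    · obtain ⟨j, hj⟩ := hye
      rcases Nat.eq_zero_or_pos j with h0 | h0
      · rw [h0, pow_zero, orderOf_eq_one_iff] at hj
        rw [hj]; exact one_mem _
      · exact absurd (((dvd_pow_self e h0.ne').trans (dvd_of_eq hj.symm)).trans
          (Subgroup.orderOf_dvd_natCard _ (zpowers_le.2 hxM hy))) (hndvd e he hp)
    · exact by_contra fun hyZ => hp ⟨y, zpowers_le.2 hxK hy, hye, hyZ⟩
  have hval : ∀ x ∈ M, x ∉ center G → Nat.card (C x) = v' := fun x hxM hxZ => by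
    refine (h.sizes x hxZ).resolve_left fun e => ?_
    obtain ⟨g, hg⟩ := h.cover hv huZ hu hxZ e
    have hgM : g⁻¹ * x * g ∈ M := by
      simpa using (Normal.conj_mem (inferInstance : M.Normal) x hxM g⁻¹)
    refine conj_not_center hxZ g⁻¹ ?_
    simpa using hKM _ hg hgM
  have htop : K ⊔ M = ⊤ := by
    rw [← index_eq_one]
    by_contra hne
    obtain ⟨r, hr, hrd⟩ := Nat.exists_prime_and_dvd hne
    haveI := Fact.mk hr
    by_cases hp : HasPart K r
    · exact hK.full_of_self_norm hN hr hp (hrd.trans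
        (index_dvd_of_le ((pPart_le r K).trans le_sup_left)))
    · obtain ⟨P⟩ : Nonempty (Sylow r G) := inferInstance
      refine P.not_dvd_index (hrd.trans (index_dvd_of_le fun x hx => mem_sup_right (subset_normalClosure ?_)))
      exact ⟨r, hr, hp, isPEl_of_mem hr P.2 hx⟩
  haveI : Group.IsSolvable (G ⧸ M) := Group.isSolvable_of_comm fun a b => by
    have hrep : ∀ c : G ⧸ M, ∃ k ∈ K, (k : G ⧸ M) = c := by
      intro c
      obtain ⟨x, rfl⟩ := QuotientGroup.mk_surjective c
      obtain ⟨k, hk, m, hm, rfl⟩ := mem_sup_of_normal_right.1 (htop ▸ mem_top x)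
      exact ⟨k, hk, by rw [QuotientGroup.mk_mul, (QuotientGroup.eq_one_iff m).2 hm, mul_one]⟩
    obtain ⟨i, hi, rfl⟩ := hrep a
    obtain ⟨j, hj, rfl⟩ := hrep b
    rw [← QuotientGroup.mk_mul, ← QuotientGroup.mk_mul, (hK.comm i hi j hj).eq]
  suffices hMs : Group.IsSolvable M from h.not_solvable
    (Group.isSolvable_of_ker_le_range M.subtype (QuotientGroup.mk' M)
      (by rw [QuotientGroup.ker_mk', range_subtype]))
  by_cases hMab : ∀ a b : M, a * b = b * a
  · exact Group.isSolvable_of_comm hMab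
  obtain ⟨m₀, hm₀⟩ : ∃ m₀ : M, (m₀ : G) ∉ center G := by
    by_contra hcon
    push Not at hcon
    exact hMab fun a b => Subtype.ext (mem_center_iff.1 (hcon b) (a : G))
  have hCM : ∀ m : M, C m = (C (m : G)).subgroupOf M := fun m => by
    ext x
    rw [mem_subgroupOf]
    exact ⟨fun hx => mem_C.2 (congrArg Subtype.val (mem_C.1 hx)),
      fun hx => mem_C.2 (Subtype.ext (mem_C.1 hx))⟩
  have hconst : ∀ m : M, (m : G) ∉ center G → Nat.card (C m) = Nat.card (C m₀) := by
    intro m hm
    obtain ⟨g, hg⟩ := h.symm.conj_comp hv' hm₀ hm (hval _ m₀.2 hm₀) (hval _ m.2 hm)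
    have key : ∀ (m : M), Nat.card (C m) = Nat.card (C (m : G) ⊓ M : Subgroup G) := fun m => by
      rw [hCM, ← Nat.card_congr (Subgroup.subgroupOfEquivOfLe (inf_le_right : C (m : G) ⊓ M ≤ M)).toEquiv,
        inf_subgroupOf_right]
    have hmap : M.map (MulAut.conj g).toMonoidHom = M := by
      refine le_antisymm ?_ fun x hx => ?_
      · rintro _ ⟨x, hx, rfl⟩
        exact Normal.conj_mem (inferInstance : M.Normal) x hx g
      · rw [mem_map_equiv, MulAut.conj_symm_apply]
        simpa using Normal.conj_mem (inferInstance : M.Normal) x hx g⁻¹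
    rw [key, key, ← hg, ← card_conj g (C (m₀ : G) ⊓ M), map_inf _ _ _ (MulAut.conj g).injective, hmap]
  set n := (C m₀).index with hn
  have hn1 : 1 < n := by
    rcases Nat.lt_or_ge 1 n with h1 | h1
    · exact h1
    exfalso
    have hpos : 0 < n := Nat.pos_of_ne_zero Subgroup.index_ne_zero_of_finite
    have htop' : C m₀ = ⊤ := index_eq_one.1 (le_antisymm h1 hpos)
    refine hMab fun a b => Subtype.ext ((h.symm.isComp hv' hm₀ (hval _ m₀.2 hm₀)).comm a ?_ b ?_).eq
    · have h1 : a ∈ C m₀ := htop'.symm ▸ mem_top a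
      rw [hCM] at h1
      exact h1
    · have h1 : b ∈ C m₀ := htop'.symm ▸ mem_top b
      rw [hCM] at h1
      exact h1
  obtain ⟨l, hlf, k, -, hl⟩ := Cfsg.Agent.S4134.result (G := M) n hn1
    (fun m => by
      by_cases hm : (m : G) ∈ center G
      · refine Or.inl ?_
        show (C m).index = 1
        rw [C_eq_top.2 (mem_center_iff.2 fun x => Subtype.ext (mem_center_iff.1 hm (x : G))), index_top]
      · refine Or.inr ?_
        have h1 := (C m).card_mul_index
        rw [← (C m₀).card_mul_index, hconst m hm] at h1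
        exact Nat.eq_of_mul_eq_mul_left Nat.card_pos h1)
    ⟨m₀, rfl⟩
  haveI := hlf
  obtain ⟨P⟩ : Nonempty (Sylow l M) := inferInstance
  obtain ⟨-, ⟨N, hN, hNP, hNc, -⟩, -⟩ := hl P
  haveI := hN
  haveI : Group.IsSolvable N := Group.isSolvable_of_comm fun a b => hNc.is_comm.comm a b
  haveI : Group.IsNilpotent (P : Subgroup M) := P.2.isNilpotent
  haveI : Group.IsSolvable (M ⧸ N) := by
    refine Group.isSolvable_of_surjective (f := (QuotientGroup.mk' N).comp (P : Subgroup M).subtype) fun c => ?_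
    obtain ⟨x, rfl⟩ := QuotientGroup.mk_surjective c
    obtain ⟨a, ha, c, hc, rfl⟩ := mem_sup_of_normal_right.1
      ((show (P : Subgroup M) ⊔ N = ⊤ by rw [sup_comm]; exact hNP.sup_eq_top) ▸ mem_top x)
    exact ⟨⟨a, ha⟩, by
      show ((a : M) : M ⧸ N) = _
      rw [QuotientGroup.mk_mul, (QuotientGroup.eq_one_iff c).2 hc, mul_one]⟩
  exact Group.isSolvable_of_ker_le_range N.subtype (QuotientGroup.mk' N)
    (by rw [QuotientGroup.ker_mk', range_subtype])

/-- Both orders with two primes. -/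
theorem NonDiv.false_both (h : NonDiv G v v') (hv : TwoParts G v) (hv' : TwoParts G v') : False := by
  obtain ⟨u, huZ, hu⟩ := h.exists_fst
  obtain ⟨u', hu'Z, hu'⟩ := h.exists_snd
  by_cases h1 : normalizer (C u : Set G) = C u
  · exact h.false_self_norm hv hv' huZ hu h1
  by_cases h2 : normalizer (C u' : Set G) = C u'
  · exact h.symm.false_self_norm hv' hv hu'Z hu' h2
  refine false_count (center_le_C u) (center_le_C u') le_normalizer le_normalizer (Ne.symm h1) (Ne.symm h2)
    le_rfl le_rfl fun x hxZ => ?_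
  rcases h.sizes x hxZ with e | e
  · exact Or.inl (h.cover hv huZ hu hxZ e)
  · exact Or.inr (h.symm.cover hv' hu'Z hu' hxZ e)

end CfsgLib.Frobenius.ThreeSizes
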