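import Cfsg.Agent.Lib.Frobenius.ThreeSizes.Local
import Cfsg.Agent.Lib.Solvable.Hall
import Cfsg.Agent.Lib.Solvable.Basic
import Cfsg.Agent.S0205

/-!
# Two commuting subgroups of coprime orders with full centraliser orders

If the abelian `r`-group `A` and `t`-group `D` commute, every non-central element of either has centraliser with
`r`-part `|A|` and `t`-part `|D|`, and neither is a Sylow subgroup, then some `2`-element of the common normaliser
centralises a non-central element of one of them without centralising both, and neither prime is `2`.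
-/

set_option autoImplicit false
set_option linter.style.haveILetI false

namespace CfsgLib.Frobenius.ThreeSizes

open Subgroup

variable {G : Type*} [Group G]

/-- The common normaliser. -/
abbrev NN (A D : Subgroup G) : Subgroup G := normalizer (A : Set G) ⊓ normalizer (D : Set G)

/-- The common centraliser. -/
abbrev CC (A D : Subgroup G) : Subgroup G := centralizer (A : Set G) ⊓ centralizer (D : Set G)

theorem CC_le_NN (A D : Subgroup G) : CC A D ≤ NN A D :=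
  inf_le_inf (centralizer_le_normalizer _) (centralizer_le_normalizer _)

theorem NN_le_normalizer_CC (A D : Subgroup G) : NN A D ≤ normalizer (CC A D : Set G) := by
  have key : ∀ (B : Subgroup G), normalizer (B : Set G) ≤ normalizer (centralizer (B : Set G) : Set G) :=
    fun B => (normal_subgroupOf_iff_le_normalizer (centralizer_le_normalizer _)).mp inferInstance
  intro g hg
  have h1 := key A hg.1
  have h2 := key D hg.2
  rw [mem_normalizer_iff] at h1 h2 ⊢
  exact fun w => and_congr (h1 w) (h2 w)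

/-- Two commuting subgroups of coprime prime power orders, with full centralisers. -/
structure Pair (r t : ℕ) (A D : Subgroup G) : Prop where
  hr : r.Prime
  ht : t.Prime
  hne : r ≠ t
  hA : IsPGroup r A
  hD : IsPGroup t D
  nA : ¬ A ≤ center G
  nD : ¬ D ≤ center G
  fullA : ∀ k, (k ∈ A ∨ k ∈ D) → k ∉ center G → Full r A k
  fullD : ∀ k, (k ∈ A ∨ k ∈ D) → k ∉ center G → Full t D k
  idxA : r ∣ A.index
  idxD : t ∣ D.index

namespace Pair

variable {r t : ℕ} {A D : Subgroup G}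

theorem symm (h : Pair r t A D) : Pair t r D A where
  hr := h.ht
  ht := h.hr
  hne := h.hne.symm
  hA := h.hD
  hD := h.hA
  nA := h.nD
  nD := h.nA
  fullA := fun k hk => h.fullD k hk.symm
  fullD := fun k hk => h.fullA k hk.symm
  idxA := h.idxD
  idxD := h.idxA

theorem comm (h : Pair r t A D) : ∀ a ∈ A, ∀ d ∈ D, Commute a d := fun a ha d hd => by
  by_cases hdZ : d ∈ center G
  · exact mem_center_iff.1 hdZ a
  · exact mem_C.1 ((h.fullA d (Or.inr hd) hdZ).1 ha)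

theorem abA (h : Pair r t A D) : ∀ a ∈ A, ∀ b ∈ A, Commute a b := fun a ha b hb => by
  by_cases hbZ : b ∈ center G
  · exact mem_center_iff.1 hbZ a
  · exact mem_C.1 ((h.fullA b (Or.inl hb) hbZ).1 ha)

theorem abD (h : Pair r t A D) : ∀ a ∈ D, ∀ b ∈ D, Commute a b := h.symm.abA

theorem A_le_cA (h : Pair r t A D) : A ≤ centralizer (A : Set G) := fun a ha =>
  mem_centralizer_iff.2 fun b hb => (h.abA b hb a ha).eq

theorem A_le_cD (h : Pair r t A D) : A ≤ centralizer (D : Set G) := fun a ha =>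
  mem_centralizer_iff.2 fun b hb => (h.comm a ha b hb).symm.eq

theorem A_le (h : Pair r t A D) : A ≤ CC A D := le_inf h.A_le_cA h.A_le_cD

theorem D_le (h : Pair r t A D) : D ≤ CC A D := le_inf h.symm.A_le_cD h.symm.A_le_cA

theorem exists_A (h : Pair r t A D) : ∃ k ∈ A, k ∉ center G := SetLike.not_le_iff_exists.1 h.nA

theorem exists_D (h : Pair r t A D) : ∃ k ∈ D, k ∉ center G := h.symm.exists_A

theorem fullA' (h : Pair r t A D) : ∀ k ∈ A, k ∉ center G → Full r A k := fun k hk => h.fullA k (Or.inl hk)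

variable [Finite G]

/-- An `r`-element fixing a non-central element of `D` modulo the centre centralises both subgroups. -/
theorem fixed_mem (h : Pair r t A D) {x : G} (hxN : x ∈ NN A D) (hxr : x ^ r ∈ CC A D) {k : G} (hk : k ∈ D)
    (hkZ : k ∉ center G) (hc : x * k * x⁻¹ * k⁻¹ ∈ center G) : x ∈ CC A D := by
  obtain ⟨n, hn, hnc⟩ := exists_part_congr (H := CC A D) (j := 1) h.hr (by rwa [pow_one])
  set y := x ^ n with hy
  have hyN : y ∈ NN A D := pow_mem hxN n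
  have hck : Commute (x⁻¹ * y) k := (mem_centralizer_iff.1 hnc.2 k hk).symm
  have hyk : y * k * y⁻¹ * k⁻¹ = x * k * x⁻¹ * k⁻¹ := by
    calc y * k * y⁻¹ * k⁻¹ = x * ((x⁻¹ * y) * k * (x⁻¹ * y)⁻¹) * x⁻¹ * k⁻¹ := by group
      _ = _ := by rw [hck.eq, mul_inv_cancel_right]
  have hyA : y ∈ A := (h.fullA k (Or.inr hk) hkZ).mem h.hr h.hA hn hyN.1
    (hn.commute_of_mod_center h.hr h.ht h.hne (isPEl_of_mem h.ht h.hD hk) (hyk ▸ hc))
  have : x = y * (x⁻¹ * y)⁻¹ := by group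
  rw [this]
  exact mul_mem (h.A_le hyA) (inv_mem hnc)

theorem pel_centralises (h : Pair r t A D) {p : ℕ} (hp : p.Prime) {y : G} (hy : IsPEl p y) (hyN : y ∈ NN A D)
    (hyA : CentralisesMod y A) (hyD : CentralisesMod y D) : y ∈ centralizer (A : Set G) := by
  by_cases hpr : p = r
  · subst hpr
    obtain ⟨k, hk, hkZ⟩ := h.exists_D
    exact h.A_le_cA ((h.fullA k (Or.inr hk) hkZ).mem h.hr h.hA hy hyN.1
      (hy.commute_of_mod_center h.hr h.ht h.hne (isPEl_of_mem h.ht h.hD hk) (hyD k hk)))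
  · exact mem_centralizer_iff.2 fun a ha =>
      ((hy.commute_of_mod_center hp h.hr hpr (isPEl_of_mem h.hr h.hA ha) (hyA a ha))).symm.eq

/-- An element inverting both subgroups is central modulo their centraliser. -/
theorem central (h : Pair r t A D) {i n : G} (hi : i ∈ NN A D) (hn : n ∈ NN A D) (hA : Inverts i A)
    (hD : Inverts i D) : n * i * n⁻¹ * i⁻¹ ∈ CC A D := by
  have hc : n * i * n⁻¹ * i⁻¹ ∈ NN A D := mul_mem (mul_mem (mul_mem hn hi) (inv_mem hn)) (inv_mem hi)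
  refine mem_of_parts _ fun p y hp hy ho => ?_
  have hyN : y ∈ NN A D := zpowers_le.2 hc hy
  have h1 := (centralisesMod_commutator hA hi.1 hn.1).of_zpowers hy
  have h2 := (centralisesMod_commutator hD hi.2 hn.2).of_zpowers hy
  exact ⟨h.pel_centralises hp ho hyN h1 h2, h.symm.pel_centralises hp ho hyN.symm h2 h1⟩

/-- There is an `r`-element of the common normaliser not centralising `A`. -/
theorem outside (h : Pair r t A D) : ∃ g, IsPEl r g ∧ g ∈ NN A D ∧ g ∉ CC A D ∧ g ∉ A := by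
  obtain ⟨k, hk, hkZ⟩ := h.exists_A
  obtain ⟨g, hg, hgA, hgD, hgC⟩ := exists_outside h.hr h.ht h.hA h.hD h.symm.A_le_cD hk (h.fullA k (Or.inl hk) hkZ)
    (h.fullD k (Or.inl hk) hkZ) h.idxA
  exact ⟨g, hg, ⟨hgA, hgD⟩, fun hc => hgC hc.1, fun hc => hgC (h.A_le_cA hc)⟩

theorem false_of_central_involution (h : Pair r t A D) (hr2 : r ≠ 2) {i : G} (hi : i ∈ NN A D)
    (hi2 : i ^ 2 ∈ CC A D) (hA : Inverts i A) (hD : Inverts i D) : False := by
  obtain ⟨g, hg, hgN, hgC, -⟩ := h.outside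
  obtain ⟨g', i', hg'N, hi'N, hg', hcomm, hgg, hii⟩ := exists_lifts (CC_le_NN A D) (NN_le_normalizer_CC A D) h.hr
    hgN hi hg (m := 2) (fun hd => hr2 ((Nat.prime_dvd_prime_iff_eq h.hr Nat.prime_two).1 hd)) hi2
    (h.central hi hgN hA hD)
  refine false_of_inverts h.hr hr2 h.hA h.nA h.fullA' hg' hg'N.1 (fun hc => hgC ?_) hi'N.1 hcomm ?_
  · have e : g = g' * (g⁻¹ * g')⁻¹ := by group
    rw [e]; exact mul_mem (h.A_le hc) (inv_mem hgg)
  · intro a ha
    have hca : Commute (i⁻¹ * i') a := (mem_centralizer_iff.1 hii.1 a ha).symm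
    have e : i' * a * i'⁻¹ * a = i * ((i⁻¹ * i') * a * (i⁻¹ * i')⁻¹) * i⁻¹ * a := by group
    rw [e, hca.eq, mul_inv_cancel_right]
    exact hA a ha

omit [Finite G] in
theorem exists_pow_step {H : Subgroup G} {x : G} (hx : IsPEl 2 x) (hxH : x ∉ H) :
    ∃ y ∈ zpowers x, IsPEl 2 y ∧ y ∉ H ∧ y ^ 2 ∈ H := by
  obtain ⟨k, hk⟩ := hx
  have h1 : ∃ j, x ^ 2 ^ j ∈ H := ⟨k, by rw [← hk, pow_orderOf_eq_one]; exact one_mem _⟩
  classical
  have hj := Nat.find_spec h1
  have hj0 : Nat.find h1 ≠ 0 := fun e => hxH (by rw [e, pow_zero, pow_one] at hj; exact hj)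
  refine ⟨x ^ 2 ^ (Nat.find h1 - 1), pow_mem (mem_zpowers x) _, IsPEl.pow Nat.prime_two ⟨k, hk⟩ _,
    Nat.find_min h1 (by omega), ?_⟩
  rw [← pow_mul, ← pow_succ, show Nat.find h1 - 1 + 1 = Nat.find h1 by omega]
  exact hj

/-- Neither prime is `2`. -/
theorem false_two (h : Pair r t A D) (hr2 : r = 2) : False := by
  subst hr2
  obtain ⟨g₀, hg₀, hg₀N, -, hg₀A⟩ := h.outside
  obtain ⟨g, hgz, hg, hgA, hg2⟩ := exists_pow_step hg₀ hg₀A
  have hgN : g ∈ NN A D := zpowers_le.2 hg₀N hgz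
  have hg2' : g ^ 2 ∈ CC A D := h.A_le hg2
  refine h.symm.false_of_central_involution (i := g) h.hne.symm hgN.symm hg2'.symm ?_
    (inverts_self h.hA h.fullA' hg hgN.1 hgA hg2)
  exact inverts_of_no_fixed h.abD hgN.2 hg2'.2 fun d hd hc => by_contra fun hdZ =>
    hgA ((h.fullA d (Or.inr hd) hdZ).mem h.hr h.hA hg hgN.1 hc)

theorem false_elementary (h : Pair r t A D) {a b : G} (haN : a ∈ NN A D) (hbN : b ∈ NN A D)
    (hab : a * b * a⁻¹ * b⁻¹ ∈ CC A D) (har : a ^ r ∈ CC A D) (hbr : b ^ r ∈ CC A D)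
    (hb : b ∉ CC A D) (habj : ∀ j : ℕ, (a * b ^ j) ^ r ∈ CC A D ∧ a * b ^ j ∉ CC A D) : False := by
  refine h.nD fun d hd => (isPEl_of_mem h.ht h.hD hd).mem_of_pow h.ht
    (fun hc => h.hne ((Nat.prime_dvd_prime_iff_eq h.ht h.hr).1 hc).symm)
    (pow_mem_center_of_two h.abD h.hr haN.2 hbN.2 hab.2 har.2 hbr.2 ?_ ?_ hd)
  · exact fun d hd hc => by_contra fun hdZ => hb (h.fixed_mem hbN hbr hd hdZ hc)
  · exact fun j d hd hc => by_contra fun hdZ =>
      (habj j).2 (h.fixed_mem (mul_mem haN (pow_mem hbN j)) (habj j).1 hd hdZ hc)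

theorem false_frobenius (h : Pair r t A D) {g x : G} (hgN : g ∈ NN A D) (hxN : x ∈ NN A D)
    (hg : IsPEl r g) (hx : IsPEl t x) (hgC : g ∉ CC A D) (hxC : x ∉ CC A D) (hgr : g ^ r ∈ CC A D)
    (hxt : x ^ t ∈ CC A D) {s : ℕ} (hgx : x * g * x⁻¹ * (g ^ s)⁻¹ ∈ CC A D)
    (hiter : ∀ k, r ∣ r - 1 + s ^ k → g * x ^ k * g⁻¹ * (x ^ k)⁻¹ ∈ CC A D) : False := by
  by_cases hex : ∃ k, 0 < k ∧ k < t ∧ r ∣ r - 1 + s ^ k
  · obtain ⟨k, hk0, hkt, hdvd⟩ := hex
    have htk : ¬ t ∣ k := fun hd => absurd (Nat.le_of_dvd hk0 hd) (not_le.2 hkt)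
    have hxk : x ^ k ∉ CC A D := fun hc => hxC (hx.mem_of_pow h.ht htk hc)
    have hrt : ¬ r ∣ t := fun hd => h.hne ((Nat.prime_dvd_prime_iff_eq h.hr h.ht).1 hd)
    obtain ⟨g', x', hg'N, hx'N, hg', hcomm, hgg, hxx⟩ := exists_lifts (CC_le_NN A D) (NN_le_normalizer_CC A D)
      h.hr hgN (pow_mem hxN k) hg hrt (by rw [← pow_mul, mul_comm, pow_mul]; exact pow_mem hxt k)
      (hiter k hdvd)
    have hg'A : g' ∉ A := fun hc => hgC (by
      rw [show g = g' * (g⁻¹ * g')⁻¹ by group]; exact mul_mem (h.A_le hc) (inv_mem hgg))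
    obtain ⟨v, hv, hvZ, hxv⟩ := exists_fixed_comm h.hr h.hA h.nA h.fullA' hg' hg'N.1 hg'A hx'N.1 hcomm
    have hcv : Commute ((x ^ k)⁻¹ * x') v := (mem_centralizer_iff.1 hxx.1 v hv).symm
    have e : x' * v * x'⁻¹ * v⁻¹ =
        x ^ k * (((x ^ k)⁻¹ * x') * v * ((x ^ k)⁻¹ * x')⁻¹) * (x ^ k)⁻¹ * v⁻¹ := by group
    rw [e, hcv.eq, mul_inv_cancel_right] at hxv
    exact hxk (h.symm.fixed_mem (pow_mem hxN k).symm
      (by rw [← pow_mul, mul_comm, pow_mul]; exact ⟨(pow_mem hxt k).2, (pow_mem hxt k).1⟩) hv hvZ hxv).symm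
  · push Not at hex
    haveI := Fact.mk h.ht
    obtain ⟨a, ha, haZ⟩ := h.exists_A
    have key : ∀ w ∈ D, (x * w) ^ t ∈ center G := by
      intro w hw
      have hP : IsPGroup t (zpowers x ⊔ D : Subgroup G) :=
        (isPGroup_zpowers hx).to_sup_of_normal_right' h.hD (zpowers_le.2 hxN.2)
      have hp : IsPEl t (x * w) := isPEl_of_mem h.ht hP (mul_mem_sup (mem_zpowers x) hw)
      have hxwN : x * w ∈ NN A D := mul_mem hxN (CC_le_NN A D (h.D_le hw))
      have hxwD : x * w ∉ D := fun hc => hxC (h.D_le ((mul_mem_cancel_right hw).1 hc))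
      have hxwt : (x * w) ^ t ∈ CC A D := by
        have hn : (CC A D).subgroupOf (NN A D) |>.Normal :=
          (normal_subgroupOf_iff_le_normalizer (CC_le_NN A D)).2 (NN_le_normalizer_CC A D)
        set f := QuotientGroup.mk' ((CC A D).subgroupOf (NN A D))
        have hw1 : f ⟨w, CC_le_NN A D (h.D_le hw)⟩ = 1 := (QuotientGroup.eq_one_iff _).2 (h.D_le hw)
        have hx1 : f ⟨x, hxN⟩ ^ t = 1 := by
          rw [← map_pow]; exact (QuotientGroup.eq_one_iff _).2 hxt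
        have : f (⟨x, hxN⟩ * ⟨w, CC_le_NN A D (h.D_le hw)⟩) ^ t = 1 := by rw [map_mul, hw1, mul_one, hx1]
        rw [← map_pow] at this
        exact mem_subgroupOf.1
          ((QuotientGroup.eq_one_iff ((⟨x, hxN⟩ * ⟨w, CC_le_NN A D (h.D_le hw)⟩ : NN A D) ^ t)).1 this)
      have hD' : (x * w) ^ t ∈ D := (h.fullD a (Or.inl ha) haZ).mem h.ht h.hD (hp.pow h.ht t)
        (pow_mem hxwN t).2 (mem_centralizer_iff.1 hxwt.1 a ha).symm
      exact ThreeSizes.pow_mem_center h.ht h.hD (fun k hk => h.fullD k (Or.inr hk)) hp hxwN.2 hxwD hD'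
    have hx0 : x ^ t ∈ center G := by simpa using key 1 (one_mem D)
    refine h.nD fun d hd => (isPEl_of_mem h.ht h.hD hd).mem_of_pow h.ht
      (fun hc => h.hne ((Nat.prime_dvd_prime_iff_eq h.ht h.hr).1 hc).symm)
      (pow_mem_center_of_frobenius h.abD h.hr h.ht.pos hgN.2 hxN.2 hgr.2 hxt.2 hgx.2 hex ?_ ?_ hd)
    · exact fun d hd hc => by_contra fun hdZ => hgC (h.fixed_mem hgN hgr hd hdZ hc)
    · exact fun w hw => mul_mem (key w hw) (inv_mem hx0)

theorem lift {Q : Type*} [Group Q] (f : NN A D →* Q) (hf : ∀ x, f x = 1 ↔ (x : G) ∈ CC A D)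
    (hsurj : Function.Surjective f) {p : ℕ} (hp : p.Prime) {q : Q} (hq : q ^ p = 1) :
    ∃ y : NN A D, IsPEl p (y : G) ∧ f y = q ∧ (y : G) ^ p ∈ CC A D := by
  obtain ⟨x, rfl⟩ := hsurj q
  have hxp : (x : G) ^ p ∈ CC A D := by rw [← SubgroupClass.coe_pow, ← hf, map_pow, hq]
  obtain ⟨n, hn, hc⟩ := exists_part_congr (H := CC A D) (j := 1) hp (x := (x : G)) (by rwa [pow_one])
  refine ⟨x ^ n, by rwa [SubgroupClass.coe_pow], ?_, ?_⟩
  · have h1 : f (x⁻¹ * x ^ n) = 1 := (hf _).2 (by simpa using hc)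
    rw [map_mul, map_inv, inv_mul_eq_one] at h1
    exact h1.symm
  · rw [← SubgroupClass.coe_pow, ← hf, ← pow_mul, map_pow, mul_comm, pow_mul, hq, one_pow]

theorem false_oriented (h : Pair r t A D) {Q : Type*} [Group Q] [Finite Q] (f : NN A D →* Q)
    (hf : ∀ x, f x = 1 ↔ (x : G) ∈ CC A D) (hsurj : Function.Surjective f) (U : Subgroup Q)
    (htU : t ∣ Nat.card U) (V : Subgroup U) [V.Normal] (hV : V ≠ ⊥) (hVc : ∀ a ∈ V, ∀ b ∈ V, a * b = b * a)
    (hVe : ∀ v ∈ V, v ^ r = 1) : False := by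
  obtain ⟨⟨v, hv⟩, hv1'⟩ := ne_bot_iff_exists_ne_one.1 hV
  have hv1 : v ≠ 1 := fun e => hv1' (Subtype.ext e)
  have hvQ : (v : Q) ≠ 1 := fun e => hv1 (Subtype.ext e)
  have hvr : (v : Q) ^ r = 1 := by rw [← SubgroupClass.coe_pow, hVe v hv]; rfl
  obtain ⟨g, hg, hgv, hgr⟩ := lift f hf hsurj h.hr hvr
  have hgC : (g : G) ∉ CC A D := fun hc => hvQ (hgv ▸ (hf g).2 hc)
  by_cases hcyc : V ≤ zpowers v
  · haveI := Fact.mk h.ht
    obtain ⟨w, hw⟩ := exists_prime_orderOf_dvd_card' t htU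
    have hw1 : (w : Q) ≠ 1 := fun e => h.ht.one_lt.ne' (by
      rw [← hw, show w = 1 from Subtype.ext e, orderOf_one])
    have hwt : (w : Q) ^ t = 1 := by rw [← SubgroupClass.coe_pow, ← hw, pow_orderOf_eq_one]; rfl
    obtain ⟨x, hx, hxw, hxt⟩ := lift f hf hsurj h.ht hwt
    have hxC : (x : G) ∉ CC A D := fun hc => hw1 (hxw ▸ (hf x).2 hc)
    obtain ⟨s, hs⟩ : ∃ s : ℕ, v ^ s = w * v * w⁻¹ := by
      have := hcyc (Normal.conj_mem ‹V.Normal› v hv w)
      rw [← mem_powers_iff_mem_zpowers] at this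
      exact this
    have hs' : (w : Q) * v * (w : Q)⁻¹ = (v : Q) ^ s := by
      rw [← SubgroupClass.coe_pow, hs]; rfl
    refine h.false_frobenius g.2 x.2 hg hx hgC hxC hgr hxt (s := s) ?_ ?_
    · rw [← SubgroupClass.coe_pow, ← Subgroup.coe_mul, ← Subgroup.coe_inv, ← Subgroup.coe_mul,
        ← Subgroup.coe_inv, ← Subgroup.coe_mul, ← hf]
      simp only [map_mul, map_inv, map_pow, hgv, hxw]
      rw [hs', mul_inv_cancel]
    · intro k hk
      have hind : ∀ k, (w : Q) ^ k * v * ((w : Q) ^ k)⁻¹ = (v : Q) ^ (s ^ k) := by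
        intro k
        induction k with
        | zero => simp
        | succ k ih =>
          calc (w : Q) ^ (k + 1) * v * ((w : Q) ^ (k + 1))⁻¹
              = (w : Q) * ((w : Q) ^ k * v * ((w : Q) ^ k)⁻¹) * (w : Q)⁻¹ := by rw [pow_succ']; group
            _ = ((w : Q) * v * (w : Q)⁻¹) ^ (s ^ k) := by rw [ih, conj_pow]
            _ = _ := by rw [hs', ← pow_mul, pow_succ']
      have hvk : (v : Q) ^ (s ^ k) = v := by
        obtain ⟨c, hc⟩ := hk
        have : (v : Q) ^ (r - 1 + s ^ k) = 1 := by rw [hc, pow_mul, hvr, one_pow]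
        rw [pow_add] at this
        have h2 : (v : Q) ^ (r - 1) * v = 1 := by rw [← pow_succ, Nat.sub_add_cancel h.hr.one_le, hvr]
        exact mul_left_cancel (this.trans h2.symm)
      have hcomm : Commute (v : Q) ((w : Q) ^ k) :=
        (mul_inv_eq_iff_eq_mul.1 ((hind k).trans hvk)).symm
      rw [← SubgroupClass.coe_pow, ← Subgroup.coe_inv, ← Subgroup.coe_mul, ← Subgroup.coe_inv,
        ← Subgroup.coe_mul, ← Subgroup.coe_mul, ← hf]
      simp only [map_mul, map_inv, map_pow, hgv, hxw]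
      rw [hcomm.eq, mul_inv_cancel_right, mul_inv_cancel]
  · obtain ⟨u, hu, huv⟩ := SetLike.not_le_iff_exists.1 hcyc
    have hur : (u : Q) ^ r = 1 := by rw [← SubgroupClass.coe_pow, hVe u hu]; rfl
    obtain ⟨a, ha, hau, har⟩ := lift f hf hsurj h.hr hur
    have hc : Commute (u : Q) (v : Q) := congrArg Subtype.val (hVc u hu v hv)
    refine h.false_elementary a.2 g.2 ?_ har hgr hgC fun j => ⟨?_, fun hj => huv ?_⟩
    · rw [← Subgroup.coe_inv, ← Subgroup.coe_mul, ← Subgroup.coe_inv, ← Subgroup.coe_mul,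
        ← Subgroup.coe_mul, ← hf]
      simp only [map_mul, map_inv, hau, hgv]
      rw [hc.eq, mul_inv_cancel_right, mul_inv_cancel]
    · rw [← SubgroupClass.coe_pow, ← Subgroup.coe_mul, ← SubgroupClass.coe_pow, ← hf, map_pow, map_mul, map_pow,
        hau, hgv, (hc.pow_right j).mul_pow, hur, ← pow_mul, mul_comm j, pow_mul, hvr, one_pow, mul_one]
    · rw [← SubgroupClass.coe_pow, ← Subgroup.coe_mul, ← hf, map_mul, map_pow, hau, hgv,
        mul_eq_one_iff_eq_inv] at hj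
      have : u = (v ^ j)⁻¹ := Subtype.ext (by simpa using hj)
      rw [this]
      exact inv_mem (pow_mem (mem_zpowers v) j)

/-- Some `2`-element of the common normaliser fixes a non-central element without centralising both
subgroups. -/
theorem false_semireg (h : Pair r t A D)
    (sr : ∀ x ∈ NN A D, IsPEl 2 x → ∀ k, (k ∈ A ∨ k ∈ D) → k ∉ center G → Commute x k → x ∈ CC A D) :
    False := by
  by_cases hr2 : r = 2
  · exact h.false_two hr2
  by_cases ht2 : t = 2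
  · exact h.symm.false_two ht2
  by_cases hex : ∃ x ∈ NN A D, IsPEl 2 x ∧ x ∉ CC A D
  · obtain ⟨x₀, hx₀N, hx₀, hx₀C⟩ := hex
    obtain ⟨x, hxz, hx, hxC, hx2⟩ := exists_pow_step hx₀ hx₀C
    have hxN : x ∈ NN A D := zpowers_le.2 hx₀N hxz
    refine h.false_of_central_involution hr2 hxN hx2 ?_ ?_
    · exact inverts_of_no_fixed h.abA hxN.1 hx2.1 fun a ha hc => by_contra fun haZ =>
        hxC (sr x hxN hx a (Or.inl ha) haZ hc)
    · exact inverts_of_no_fixed h.abD hxN.2 hx2.2 fun a ha hc => by_contra fun haZ =>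
        hxC (sr x hxN hx a (Or.inr ha) haZ hc)
  push Not at hex
  haveI hn : ((CC A D).subgroupOf (NN A D)).Normal :=
    (normal_subgroupOf_iff_le_normalizer (CC_le_NN A D)).2 (NN_le_normalizer_CC A D)
  set f := QuotientGroup.mk' ((CC A D).subgroupOf (NN A D))
  have hf : ∀ x, f x = 1 ↔ (x : G) ∈ CC A D := fun x => QuotientGroup.eq_one_iff x
  have hsurj : Function.Surjective f := QuotientGroup.mk'_surjective _
  have hodd : Odd (Nat.card (NN A D ⧸ (CC A D).subgroupOf (NN A D))) := by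
    rw [← Nat.not_even_iff_odd, even_iff_two_dvd]
    intro h2
    obtain ⟨q, hq⟩ := exists_prime_orderOf_dvd_card' (hp := ⟨Nat.prime_two⟩) 2 h2
    obtain ⟨y, hy, hyq, -⟩ := lift f hf hsurj Nat.prime_two (q := q) (hq ▸ pow_orderOf_eq_one q)
    have := (hf y).2 (hex y y.2 hy)
    rw [hyq] at this
    rw [this, orderOf_one] at hq
    omega
  haveI := Cfsg.Agent.S0205.result hodd
  set c := Nat.card (NN A D ⧸ (CC A D).subgroupOf (NN A D)) with hcdef
  have hdiv : ∀ {p : ℕ} {g : G} (hgN : g ∈ NN A D), p.Prime → IsPEl p g → g ∉ CC A D → p ∣ c := by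
    intro p g hgN hp hg hgC
    obtain ⟨k, hk⟩ := hg
    have h1 : orderOf (f ⟨g, hgN⟩) ∣ p ^ k :=
      (orderOf_map_dvd f _).trans (dvd_of_eq (by rw [Subgroup.orderOf_mk]; exact hk))
    obtain ⟨j, -, hj⟩ := (Nat.dvd_prime_pow hp).1 h1
    rcases Nat.eq_zero_or_pos j with hj0 | hj0
    · rw [hj0, pow_zero, orderOf_eq_one_iff] at hj
      exact absurd ((hf _).1 hj) hgC
    · exact ((dvd_pow_self p hj0.ne').trans (dvd_of_eq hj.symm)).trans (orderOf_dvd_natCard _)
  have hrc : r ∣ c := by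
    obtain ⟨g, hg, hgN, hgC, -⟩ := h.outside
    exact hdiv hgN h.hr hg hgC
  have htc : t ∣ c := by
    obtain ⟨g, hg, hgN, hgC, -⟩ := h.symm.outside
    exact hdiv hgN.symm h.ht hg fun hc => hgC hc.symm
  have hc0 : c ≠ 0 := Nat.card_pos.ne'
  obtain ⟨a, m₁, hm₁, hc1⟩ := Nat.exists_eq_pow_mul_and_not_dvd hc0 r h.hr.ne_one
  obtain ⟨b, m, hm, hc2⟩ := Nat.exists_eq_pow_mul_and_not_dvd
    (show m₁ ≠ 0 from fun e => hm₁ (e ▸ dvd_zero r)) t h.ht.ne_one
  have hcm : c = r ^ a * t ^ b * m := by rw [hc1, hc2, mul_assoc]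
  have hcop : (r ^ a * t ^ b).Coprime m := Nat.Coprime.mul_left
    ((h.hr.coprime_iff_not_dvd.2 fun hd => hm₁ (hc2 ▸ hd.trans (dvd_mul_left _ _))).pow_left a)
    ((h.ht.coprime_iff_not_dvd.2 hm).pow_left b)
  obtain ⟨U, hU⟩ := CfsgLib.Solvable.Hall.exists_card_eq hcm hcop
  have hdU : ∀ {p : ℕ}, p.Prime → ¬ p ∣ m → p ∣ c → p ∣ Nat.card U := fun hp hpm hpc =>
    hU ▸ ((hp.dvd_mul.1 (hcm ▸ hpc)).resolve_right hpm)
  have hrU : r ∣ Nat.card U := hdU h.hr (fun hd => hm₁ (hc2 ▸ hd.trans (dvd_mul_left _ _))) hrc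
  have htU : t ∣ Nat.card U := hdU h.ht hm htc
  have hUne : (⊤ : Subgroup U) ≠ ⊥ := by
    intro e
    have : Nat.card (⊤ : Subgroup U) = 1 := by rw [e, card_bot]
    rw [card_top] at this
    exact h.hr.one_lt.ne' (Nat.dvd_one.1 (this ▸ hrU))
  obtain ⟨V, hVn, hV, -, hmin⟩ := CfsgLib.Solvable.Basic.exists_minimal_normal_le hUne
  haveI := hVn
  obtain ⟨hVc, l, hl, hVe, hVl⟩ := CfsgLib.Solvable.Basic.minimal_normal_solvable V hV hmin
  have hVc' := CfsgLib.Solvable.Basic.isMulCommutative_subgroup_iff.1 hVc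
  have hlrt : l = r ∨ l = t := by
    haveI := Fact.mk hl
    haveI := (nontrivial_iff_ne_bot V).2 hV
    obtain ⟨n, hn⟩ := hVl.exists_card_eq
    have hn0 : n ≠ 0 := fun e => by
      rw [e, pow_zero] at hn
      exact hV (V.card_eq_one.1 hn)
    have hlU : l ∣ r ^ a * t ^ b := hU ▸ ((dvd_pow_self l hn0).trans (dvd_of_eq hn.symm)).trans
      (card_subgroup_dvd_card V)
    exact (hl.dvd_mul.1 hlU).imp (fun hd => (Nat.prime_dvd_prime_iff_eq hl h.hr).1 (hl.dvd_of_dvd_pow hd))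
      (fun hd => (Nat.prime_dvd_prime_iff_eq hl h.ht).1 (hl.dvd_of_dvd_pow hd))
  rcases hlrt with rfl | rfl
  · exact h.false_oriented f hf hsurj U htU V hV hVc' hVe
  · let e : NN D A →* NN A D := Subgroup.inclusion (le_of_eq (inf_comm _ _))
    refine h.symm.false_oriented (f.comp e) (fun x => ?_) ?_ U hrU V hV hVc' hVe
    · rw [MonoidHom.comp_apply, hf]
      exact and_comm
    · intro q
      obtain ⟨x, hx⟩ := hsurj q
      exact ⟨⟨x, x.2.symm⟩, hx⟩

end Pair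

end CfsgLib.Frobenius.ThreeSizes
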